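import Cfsg.Agent.PLocal.FFModule.Module
import Cfsg.Agent.Classical.SL

/-!
All offenders are products of members.
-/

set_option autoImplicit false
set_option linter.unusedSectionVars false
set_option linter.style.haveILetI false

namespace Cfsg.Lib.FFModule

open Subgroup Cfsg.Lib.FFSLTwo

variable {P : Type*} [Group P] [Finite P] {V : Type*} [AddCommGroup V] [Finite V]
variable {p : ℕ} [Fact p.Prime] {φ : P →* AddMonoid.End V} {q : ℕ}

/-- the group generated by the members -/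
def mall (p : ℕ) (φ : P →* AddMonoid.End V) (q : ℕ) : Subgroup P := sSup {m | Mem p φ q m}

theorem card_sl_two {F : Type*} [Field F] [Fintype F] :
    Nat.card (Matrix.SpecialLinearGroup (Fin 2) F) = Fintype.card F * (Fintype.card F ^ 2 - 1) := by
  have h := Cfsg.Lib.Classical.card_SL_mul_eq_prod (F := F) (n := 2) (by norm_num)
  have hq := Fintype.one_lt_card (α := F)
  apply Nat.eq_of_mul_eq_mul_left (show 0 < Fintype.card F - 1 by omega)
  rw [h, Fin.prod_univ_two]
  obtain ⟨m, hm⟩ : ∃ m, Fintype.card F = m + 1 := ⟨_, (Nat.sub_add_cancel hq.le).symm⟩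
  rw [hm]
  simp [Nat.pow_two, Nat.add_mul, Nat.mul_add]
  ring

/-- a `p`-group in `SL₂(q)` has order at most `q` -/
theorem pgroup_sl_two {F : Type*} [Field F] [Fintype F] {n : ℕ} (hn : 1 ≤ n)
    (hF : Fintype.card F = p ^ n) {R : Type*} [Group R] [Finite R] (hR : IsPGroup p R)
    (f : R →* Matrix.SpecialLinearGroup (Fin 2) F) (hf : Function.Injective f) :
    Nat.card R ≤ p ^ n := by
  have hp := (Fact.out : p.Prime)
  obtain ⟨k, hk⟩ := IsPGroup.iff_card.1 hR
  have h1 : p ^ k ∣ p ^ n * ((p ^ n) ^ 2 - 1) := by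
    rw [← hk, ← hF, ← card_sl_two]
    exact Subgroup.card_dvd_of_injective f hf
  have h2 : Nat.Coprime (p ^ k) ((p ^ n) ^ 2 - 1) := by
    refine Nat.Coprime.pow_left k ((hp.coprime_iff_not_dvd).2 fun hd => ?_)
    have h3 : p ∣ (p ^ n) ^ 2 := dvd_pow (dvd_pow_self p (by omega)) two_ne_zero
    have h4 : 1 ≤ (p ^ n) ^ 2 := Nat.one_le_pow _ _ (pow_pos hp.pos _)
    have h5 : p ∣ 1 := by
      have := Nat.dvd_sub h3 hd
      rwa [Nat.sub_sub_self h4] at this
    exact hp.one_lt.ne' (Nat.dvd_one.1 h5)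
  exact hk ▸ Nat.le_of_dvd (pow_pos hp.pos _) (h2.dvd_of_dvd_mul_right h1)

/-- involutions of an odd set with the same fixed even vectors are equal -/
theorem perm_eq_of_fix {N : ℕ} (hN : Odd N) {σ τ : Equiv.Perm (Fin N)} (hσ : σ * σ = 1)
    (hτ : τ * τ = 1) (h : ∀ z : Fin N → ZMod 2, ∑ i, z i = 0 →
      ((∀ i, z (σ i) = z i) ↔ ∀ i, z (τ i) = z i)) : σ = τ := by
  classical
  have htwo : ∀ a : ZMod 2, a + a = 0 := by decide
  suffices main : ∀ σ τ : Equiv.Perm (Fin N), σ * σ = 1 → τ * τ = 1 → (∀ z : Fin N → ZMod 2,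
      ∑ i, z i = 0 → (∀ i, z (σ i) = z i) → ∀ i, z (τ i) = z i) →
      ∀ a, (τ a = a ∨ τ a = σ a) ∧ (σ a = a → τ a = a) by
    refine Equiv.ext fun a => ?_
    obtain ⟨h1, h2⟩ := main σ τ hσ hτ (fun z hz => (h z hz).1) a
    obtain ⟨h3, h4⟩ := main τ σ hτ hσ (fun z hz => (h z hz).2) a
    rcases h1 with h1 | h1
    · rw [h1, h4 h1]
    · exact h1.symm
  intro σ τ hσ hτ h
  have hs : ∀ a, σ (σ a) = a := fun a => by rw [← Equiv.Perm.mul_apply, hσ, Equiv.Perm.one_apply]
  have ht : ∀ a, τ (τ a) = a := fun a => by rw [← Equiv.Perm.mul_apply, hτ, Equiv.Perm.one_apply]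
  let z₂ : Fin N → Fin N → Fin N → ZMod 2 :=
    fun a c i => (if i = a then 1 else 0) + if i = c then 1 else 0
  have hz₂ : ∀ a c, ∑ i, z₂ a c i = 0 := fun a c => by
    simp [z₂, Finset.sum_add_distrib, htwo]
  have hmove : ∀ a, σ a ≠ a → τ a = a ∨ τ a = σ a := by
    intro a ha
    have h1 := h (z₂ a (σ a)) (hz₂ _ _) (fun i => by
      have e1 : σ i = a ↔ i = σ a := ⟨fun he => by rw [← he, hs], fun he => by rw [he, hs]⟩
      have e2 : σ i = σ a ↔ i = a := σ.apply_eq_iff_eq
      simp only [z₂, e1, e2]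
      exact add_comm _ _) a
    by_contra hcon
    push Not at hcon
    simp [z₂, hcon.1, hcon.2, Ne.symm ha] at h1
  intro a
  refine ⟨?_, ?_⟩
  · by_cases ha : σ a = a
    · by_contra hcon
      push Not at hcon
      obtain ⟨c, hc, hca, hcb⟩ : ∃ c, σ c = c ∧ c ≠ a ∧ c ≠ τ a := by
        by_contra hcon'
        push Not at hcon'
        have hb : σ (τ a) = τ a := by
          by_contra hb
          rcases hmove _ hb with h' | h' <;> rw [ht] at h'
          · exact hcon.1 h'.symm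
          · exact hcon.1 (by conv_rhs => rw [← ha, h', hs])
        have hset : (Finset.univ.filter fun i => σ i = i) = {a, τ a} := by
          ext i
          simp only [Finset.mem_filter, Finset.mem_univ, true_and, Finset.mem_insert, Finset.mem_singleton]
          constructor
          · exact fun hi => or_iff_not_imp_left.2 fun hne => hcon' i hi hne
          · rintro (rfl | rfl)
            exacts [ha, hb]
        have h1 : ∑ i, (if σ i = i then (0 : ZMod 2) else 1) = 0 :=
          Finset.sum_involution (fun i _ => σ i)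
            (fun i _ => by
              by_cases hi : σ i = i
              · simp [hi]
              · simp [hi, hs, Ne.symm hi, htwo])
            (fun i _ hi he => hi (by simp [he])) (fun i _ => Finset.mem_univ _) (fun i _ => hs i)
        have h2 : ∑ i : Fin N, (1 : ZMod 2) = (∑ i, if σ i = i then (1 : ZMod 2) else 0) +
            ∑ i, (if σ i = i then (0 : ZMod 2) else 1) := by
          rw [← Finset.sum_add_distrib]
          exact Finset.sum_congr rfl fun i _ => by split_ifs <;> simp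
        rw [h1, add_zero, ← Finset.sum_filter, hset, Finset.sum_pair (Ne.symm hcon.1), htwo,
          Finset.sum_const, Finset.card_univ, Fintype.card_fin, nsmul_one,
          ZMod.natCast_eq_zero_iff] at h2
        exact Nat.not_even_iff_odd.2 hN (even_iff_two_dvd.2 h2)
      have h1 := h (z₂ a c) (hz₂ _ _) (fun i => by
        have e1 : σ i = a ↔ i = a := ⟨fun he => σ.injective (he.trans ha.symm), fun he => by rw [he, ha]⟩
        have e2 : σ i = c ↔ i = c := ⟨fun he => σ.injective (he.trans hc.symm), fun he => by rw [he, hc]⟩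
        simp only [z₂, e1, e2]) a
      simp [z₂, hcon.1, Ne.symm hca, Ne.symm hcb] at h1
    · exact hmove a ha
  · intro ha
    by_contra hne
    have hb : ∀ b, σ b ≠ b → τ b ≠ a := fun b hb he => by
      rcases hmove b hb with h' | h' <;> rw [he] at h'
      · exact hb (h' ▸ ha)
      · exact hb (σ.injective (h'.symm.trans ha.symm) ▸ ha)
    obtain ⟨c, hc, hca, hcb⟩ : ∃ c, σ c = c ∧ c ≠ a ∧ c ≠ τ a := by
      by_contra hcon'
      push Not at hcon'
      have hb' : σ (τ a) = τ a := by_contra fun hb' => hb _ hb' (ht a)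
      have hset : (Finset.univ.filter fun i => σ i = i) = {a, τ a} := by
        ext i
        simp only [Finset.mem_filter, Finset.mem_univ, true_and, Finset.mem_insert, Finset.mem_singleton]
        constructor
        · exact fun hi => or_iff_not_imp_left.2 fun hne => hcon' i hi hne
        · rintro (rfl | rfl)
          exacts [ha, hb']
      have h1 : ∑ i, (if σ i = i then (0 : ZMod 2) else 1) = 0 :=
        Finset.sum_involution (fun i _ => σ i)
          (fun i _ => by
            by_cases hi : σ i = i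
            · simp [hi]
            · simp [hi, hs, Ne.symm hi, htwo])
          (fun i _ hi he => hi (by simp [he])) (fun i _ => Finset.mem_univ _) (fun i _ => hs i)
      have h2 : ∑ i : Fin N, (1 : ZMod 2) = (∑ i, if σ i = i then (1 : ZMod 2) else 0) +
          ∑ i, (if σ i = i then (0 : ZMod 2) else 1) := by
        rw [← Finset.sum_add_distrib]
        exact Finset.sum_congr rfl fun i _ => by split_ifs <;> simp
      rw [h1, add_zero, ← Finset.sum_filter, hset, Finset.sum_pair (Ne.symm hne), htwo,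
        Finset.sum_const, Finset.card_univ, Fintype.card_fin, nsmul_one,
        ZMod.natCast_eq_zero_iff] at h2
      exact Nat.not_even_iff_odd.2 hN (even_iff_two_dvd.2 h2)
    have h1 := h (z₂ a c) (hz₂ _ _) (fun i => by
      have e1 : σ i = a ↔ i = a := ⟨fun he => σ.injective (he.trans ha.symm), fun he => by rw [he, ha]⟩
      have e2 : σ i = c ↔ i = c := ⟨fun he => σ.injective (he.trans hc.symm), fun he => by rw [he, hc]⟩
      simp only [z₂, e1, e2]) a
    simp [z₂, hne, Ne.symm hca, Ne.symm hcb] at h1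

theorem cj_mall_le (k : P) : FFSLTwo.cj k (mall p φ q) ≤ mall p φ q :=
  cj_sSup_le fun _ hx => Mem.conj hx k

theorem mall_normal : (mall p φ q).Normal :=
  ⟨fun _ hx k => cj_mall_le k (conj_mem_cj hx)⟩

namespace Glob

variable {T : Sylow p P} {M : Subgroup P} (g : Glob p φ q T M)
include g

theorem mall_eq {r : ℕ} {Δ : Fin r → Set (Subgroup P)}
    (hb : Blocks (T : Subgroup P) q (Mem p φ q) r Δ) : mall p φ q = ⨆ i, sSup (Δ i) :=
  le_antisymm (_root_.sSup_le fun _ hm => (hb.cover hm).elim fun i hi =>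
    hi.trans (le_iSup (fun i => sSup (Δ i)) i))
    (iSup_le fun i => _root_.sSup_le fun _ hx => le_sSup (hb.mem hx))

/-- the members fix only the zero vector -/
theorem fix_mall {v : V} (hv : v ∈ fixA φ (mall p φ q)) : v = 0 := by
  by_contra hne
  obtain ⟨r, Δ, hb⟩ := g.exists_blocks
  have hne' : fixA φ (mall p φ q) ≠ ⊥ := fun h => hne (AddSubgroup.mem_bot.1 (h ▸ hv))
  obtain ⟨w, hw, hw0, hwT⟩ := exists_fix_mem (φ := φ) g.hc.char T.2 (fixA φ (mall p φ q))
    (fun k _ w hw => fun x hx => by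
      have hx' : k⁻¹ * x * k ∈ mall p φ q := by
        simpa using mall_normal.conj_mem x hx k⁻¹
      have h1 := hw _ hx'
      rw [phi_mul, phi_mul] at h1
      have h2 := congrArg (φ k) h1
      rwa [phi_cancel_inv] at h2) hne'
  refine hw0 (g.hc.fix w ?_)
  have h1 := hb.gen
  rw [← g.mall_eq hb] at h1
  rw [← h1]
  exact mem_fixA_sup hw hwT

/-- elements of order prime to `p` are in the product of the members -/
theorem mem_mall {x : P} (hx : (orderOf x).Coprime p) : x ∈ mall p φ q := by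
  obtain ⟨r, Δ, hb⟩ := g.exists_blocks
  haveI := mall_normal (p := p) (φ := φ) (q := q)
  have h1 : x ∈ mall p φ q ⊔ (T : Subgroup P) := by
    rw [g.mall_eq hb, hb.gen]; exact mem_top x
  obtain ⟨k, hk, t, ht, rfl⟩ := Subgroup.mem_sup_of_normal_left.1 h1
  have e : (QuotientGroup.mk' (mall p φ q)) (k * t) = QuotientGroup.mk' (mall p φ q) t := by
    rw [map_mul, show QuotientGroup.mk' (mall p φ q) k = 1 from (QuotientGroup.eq_one_iff k).2 hk, one_mul]
  obtain ⟨m, hm⟩ := T.2 ⟨t, ht⟩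
  have hm' : t ^ p ^ m = 1 := congrArg Subtype.val hm
  have d1 : orderOf (QuotientGroup.mk' (mall p φ q) (k * t)) ∣ p ^ m :=
    orderOf_dvd_of_pow_eq_one (by rw [e, ← map_pow, hm', map_one])
  have d2 := orderOf_map_dvd (QuotientGroup.mk' (mall p φ q)) (k * t)
  have h2 := orderOf_eq_one_iff.1 (Nat.eq_one_of_dvd_coprimes (Nat.Coprime.pow_right m hx) d2 d1)
  exact (QuotientGroup.eq_one_iff _).1 h2

/-- strict offenders are members -/
theorem strict_card {Y : Subgroup P} (hY : Strict p φ Y) : Nat.card Y = q := by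
  classical
  have hle := g.hq.le Y hY.ne_bot hY.el hY.off
  refine hle.eq_or_lt.elim Eq.symm fun hlt => absurd ?_ (not_le.2 hlt)
  obtain ⟨M', x, hpf⟩ := g.hc.exists_preFrame hY
  obtain ⟨hF, hcoord⟩ := hpf.exists_frame g.hc
  have hp := (Fact.out : p.Prime)
  obtain ⟨k, hk⟩ := IsPGroup.iff_card.1 (isPGroup_el hY.el)
  obtain ⟨A₀, hA₀⟩ := g.nonempty
  obtain ⟨n, hn⟩ := hA₀.1.q_pow g.hc g.hq
  have hq1 := g.hq.one_lt
  have h4 : 4 ≤ Nat.card Y := by
    by_contra h
    have h3 : Nat.card Y = 3 ∧ q = 2 := by omega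
    rw [hk, hn] at h3
    have hn0 : n ≠ 0 := fun h0 => by rw [h0, pow_zero] at h3; omega
    have hk0 : k ≠ 0 := fun h0 => by rw [h0, pow_zero] at h3; omega
    have d1 : p ∣ 2 := h3.2 ▸ dvd_pow_self p hn0
    have d2 : p ∣ 3 := h3.1 ▸ dvd_pow_self p hk0
    exact hp.one_lt.ne' (Nat.dvd_one.1 (show p ∣ 1 from Nat.dvd_sub d2 d1))
  obtain ⟨F, iF, iFF, ⟨K⟩⟩ := hcoord (by omega)
  have hFc : Fintype.card F = Nat.card Y := K.card
  -- the torus puts `Y` into the product of the members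
  have hYK : Y ≤ mall p φ q := by
    obtain ⟨μ, hμ⟩ : ∃ μ : Fˣ, (μ : F) * μ ≠ 1 := by
      by_contra h
      push Not at h
      have h1 : (Finset.univ : Finset Fˣ) ⊆ {1, -1} := fun μ _ => by
        rcases mul_self_eq_one_iff.1 (h μ) with h' | h'
        · simp [Units.ext (h'.trans Units.val_one.symm : (μ : F) = (1 : Fˣ))]
        · have : μ = -1 := Units.ext (by rw [h', Units.val_neg, Units.val_one])
          simp [this]
      have h2 := Finset.card_le_card h1
      rw [Finset.card_univ, Fintype.card_units] at h2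
      have h3 := h2.trans Finset.card_le_two
      omega
    have ht : K.t μ ∈ mall p φ q := by
      refine g.mem_mall (Nat.Coprime.coprime_dvd_left
        ((orderOf_map_dvd (MonoidHom.mk' K.t K.t_mul) μ).trans (orderOf_dvd_natCard μ)) ?_)
      rw [Nat.card_eq_fintype_card, Fintype.card_units, hFc, hk, Nat.coprime_comm,
        hp.coprime_iff_not_dvd]
      intro hd
      have hk0 : k ≠ 0 := fun h0 => by rw [h0, pow_zero] at hk; omega
      have := Nat.dvd_sub (dvd_pow_self p hk0) hd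
      rw [Nat.sub_sub_self (Nat.one_le_pow _ _ hp.pos)] at this
      exact hp.one_lt.ne' (Nat.dvd_one.1 this)
    intro y hy
    obtain ⟨a, ha, hae⟩ := K.ι_surj (K.ι y / ((μ : F) * μ - 1))
    set c := K.t μ * a * (K.t μ)⁻¹ * a⁻¹
    have hc : c ∈ mall p φ q := by
      have h1 := (mall_normal (p := p) (φ := φ) (q := q)).conj_mem _ (inv_mem ht) a
      have e : c = K.t μ * (a * (K.t μ)⁻¹ * a⁻¹) := by simp [c, mul_assoc]
      rw [e]
      exact mul_mem ht h1
    have h1 : K.ι 1 = 0 := by simpa using K.ι_mul 1 Y.one_mem 1 Y.one_mem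
    have h2 : K.ι a⁻¹ = -K.ι a := by
      have := K.ι_mul a ha a⁻¹ (Y.inv_mem ha)
      rw [mul_inv_cancel, h1] at this
      exact eq_neg_of_add_eq_zero_right this.symm
    have hcY : c ∈ Y := Y.mul_mem (K.t_norm μ a ha) (Y.inv_mem ha)
    have hιc : K.ι c = K.ι y := by
      rw [K.ι_mul _ (K.t_norm μ a ha) _ (Y.inv_mem ha), K.ι_t μ a ha, h2, hae]
      rw [← sub_eq_add_neg, ← sub_one_mul, mul_div_cancel₀ _ (sub_ne_zero.2 hμ)]
    have h3 : c⁻¹ * y = 1 := K.ι_zero _ (Y.mul_mem (Y.inv_mem hcY) hy) (by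
      have := K.ι_mul c hcY (c⁻¹ * y) (Y.mul_mem (Y.inv_mem hcY) hy)
      rw [mul_inv_cancel_left, hιc] at this
      exact left_eq_add.1 this)
    rw [← inv_mul_eq_one.1 h3]
    exact hc
  -- one block sees `Y` faithfully
  obtain ⟨r, Δ, hb⟩ := g.exists_blocks
  have hd := g.ff.decomp hb
  rw [g.mall_eq hb] at hYK
  obtain ⟨i, hi⟩ : ∃ i, ∀ y ∈ Y, y ≠ 1 → ∃ w ∈ img φ (sSup (Δ i)), φ y w ≠ w := by
    by_contra hcon
    push Not at hcon
    obtain ⟨y₀, hy₀, hy₀1⟩ := exists_mem_ne_one hY.ne_bot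
    refine hy₀1 (g.hc.inj (DFunLike.ext (F := AddMonoid.End V) _ _ fun v => ?_))
    show φ y₀ v = φ (1 : P) v
    rw [phi_one]
    have hv : v ∈ fixA φ (⨆ i, sSup (Δ i)) ⊔ ⨆ i, img φ (sSup (Δ i)) := hd.split ▸ AddSubgroup.mem_top v
    have hle : fixA φ (⨆ i, sSup (Δ i)) ⊔ ⨆ i, img φ (sSup (Δ i)) ≤ fixA φ Y := by
      refine _root_.sup_le (fixA_anti hYK) (iSup_le fun j w hw => ?_)
      obtain ⟨y, hy, hy1, hfix⟩ := hcon j
      exact hF.cap y hy hy1 w (hfix w hw)
    exact hle hv y₀ hy₀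
  let S : Subgroup P :=
    { carrier := {x | ∃ e ∈ sSup (Δ i), ∀ w ∈ img φ (sSup (Δ i)), φ x w = φ e w}
      one_mem' := ⟨1, one_mem _, fun _ _ => rfl⟩
      mul_mem' := fun {a b} => fun ⟨e, he, hae⟩ ⟨e', he', hbe⟩ => ⟨e * e', mul_mem he he', fun w hw => by
        rw [phi_mul, phi_mul, hbe w hw, hae _ (img_stable he' hw)]⟩
      inv_mem' := fun {a} => fun ⟨e, he, hae⟩ => ⟨e⁻¹, inv_mem he, fun w hw => by
        have h1 := hae _ (img_stable (inv_mem he) hw)
        rw [phi_cancel_inv] at h1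
        have h2 := congrArg (φ a⁻¹) h1
        rw [phi_inv_cancel] at h2
        exact h2.symm⟩ }
  have hS : Y ≤ S := hYK.trans (iSup_le fun j e he => by
    by_cases hji : j = i
    · exact ⟨e, hji ▸ he, fun _ _ => rfl⟩
    · exact ⟨1, one_mem _, fun w hw => by rw [phi_one]; exact hd.zero (Ne.symm hji) e he w hw⟩)
  choose e he hew using fun y : Y => hS y.2
  -- elements of the block are determined by their action on the images
  have hone : ∀ v, ∃ w ∈ img φ (sSup (Δ i)), v - w ∈ fixA φ (sSup (Δ i)) := by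
    intro v
    obtain ⟨m, -, ⟨-, -, F', _, _, ρ, Ψ, -, hs, h0, -⟩ | ⟨-, -, ρ, Ψ, hev, hs, h0, -⟩⟩ := hd.type i
    · obtain ⟨u, hu, h'⟩ := hs (Ψ v)
      exact ⟨u, hu, (h0 _).1 (by rw [map_sub, h', sub_self])⟩
    · obtain ⟨u, hu, h'⟩ := hs (Ψ v) (hev v)
      exact ⟨u, hu, (h0 _).1 (by rw [map_sub, h', sub_self])⟩
  have hdet : ∀ {a b}, a ∈ sSup (Δ i) → b ∈ sSup (Δ i) →
      (∀ w ∈ img φ (sSup (Δ i)), φ a w = φ b w) → a = b := fun {a b} ha hb h =>
    g.hc.inj (DFunLike.ext (F := AddMonoid.End V) _ _ fun v => by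
      obtain ⟨w, hw, hf⟩ := hone v
      show φ a v = φ b v
      rw [← sub_add_cancel v w, map_add, map_add, hf a ha, hf b hb, h w hw])
  let f : Y →* ↥(sSup (Δ i) : Subgroup P) := MonoidHom.mk' (fun y => ⟨e y, he y⟩) fun a b => Subtype.ext
    (hdet (he _) (mul_mem (he a) (he b)) fun w hw => by
      rw [← hew _ w hw, Subgroup.coe_mul, phi_mul, hew b w hw, hew a _ (img_stable (he b) hw)]
      exact (phi_mul _ _ _).symm)
  have hf : Function.Injective f := by
    refine (injective_iff_map_eq_one f).2 fun y hy => ?_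
    by_contra hy1
    obtain ⟨w, hw, hne⟩ := hi y y.2 fun h0 => hy1 (Subtype.ext h0)
    exact hne (by rw [hew y w hw, show e y = 1 from congrArg Subtype.val hy, phi_one])
  obtain ⟨m, hm, ⟨-, hpm, F', iF', iFF', ρ, Ψ, hFc', -, -, -⟩ |
    ⟨hq2, -, ρ, Ψ, hev, hs, h0, hΨ⟩⟩ := hd.type i
  · rw [← hpm]
    exact pgroup_sl_two hm hFc' (isPGroup_el hY.el) (ρ.toMonoidHom.comp f) (ρ.injective.comp hf)
  · -- all nontrivial elements act as the same involution
    exfalso
    have hp2 : p = 2 := g.ff.char_two hA₀.1 hq2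
    have hsq : ∀ y : Y, ρ (f y) * ρ (f y) = 1 := fun y => by
      rw [← map_mul, ← map_mul, show y * y = 1 from Subtype.ext (by
        show (y : P) * y = 1
        rw [← sq]
        have := hY.el.2 y y.2
        rwa [hp2] at this), map_one, map_one]
    have hfixiff : ∀ y : Y, (y : P) ≠ 1 → ∀ u ∈ img φ (sSup (Δ i)),
        (∀ j, Ψ u ((ρ (f y)) j) = Ψ u j) ↔ u ∈ fixA φ Y := by
      intro y hy u hu
      have hself : (ρ (f y))⁻¹ = ρ (f y) := inv_eq_of_mul_eq_one_right (hsq y)
      have hact : ∀ j, Ψ (φ (y : P) u) j = Ψ u ((ρ (f y)) j) := fun j => by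
        rw [hew y u hu]
        exact (hΨ (f y) u j).trans (by rw [hself])
      constructor
      · intro h
        refine hF.cap y y.2 hy u ?_
        have h1 : Ψ (φ (y : P) u - u) = 0 := funext fun j => by
          rw [map_sub, Pi.sub_apply, hact, h, sub_self, Pi.zero_apply]
        have h2 : φ (y : P) u - u ∈ img φ (sSup (Δ i)) := by
          rw [hew y u hu]; exact AddSubgroup.sub_mem _ (img_stable (he y) hu) hu
        refine sub_eq_zero.1 (g.fix_mall ?_)
        rw [g.mall_eq hb, iSup, mem_fixA_sSup]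
        rintro _ ⟨j, rfl⟩
        by_cases hji : j = i
        · exact hji ▸ (h0 _).1 h1
        · exact fun e' he' => hd.zero (Ne.symm hji) e' he' _ h2
      · intro h j
        rw [← hact, h y y.2]
    have hall : ∀ y y' : Y, y ≠ 1 → y' ≠ 1 → y = y' := fun y y' h1 h2 => by
      refine hf (ρ.injective (perm_eq_of_fix ?_ (hsq y) (hsq y') fun z hz => ?_))
      · exact (Nat.even_pow.2 ⟨even_two, by omega⟩).add_one
      · obtain ⟨u, hu, rfl⟩ := hs z hz
        rw [hfixiff y (fun h => h1 (Subtype.ext h)) u hu, hfixiff y' (fun h => h2 (Subtype.ext h)) u hu]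
    obtain ⟨y₀, hy₀, hy₀1⟩ := exists_mem_ne_one hY.ne_bot
    have hset : (Y : Set P) ⊆ {1, y₀} := fun y hy => by
      by_cases hy1 : y = 1
      · exact Or.inl hy1
      · exact Or.inr (congrArg Subtype.val (hall ⟨y, hy⟩ ⟨y₀, hy₀⟩
          (fun h => hy1 (congrArg Subtype.val h)) fun h => hy₀1 (congrArg Subtype.val h)))
    have h5 := Set.ncard_le_ncard hset (Set.toFinite _)
    rw [← Nat.card_coe_set_eq, Set.ncard_pair (Ne.symm hy₀1)] at h5
    change Nat.card Y ≤ 2 at h5
    omega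

/-- every offender contains a member -/
theorem exists_mem_le {D : Subgroup P} (hne : D ≠ ⊥) (hel : Cfsg.IsElementaryAbelian p D)
    (hoff : (fixA φ D).index ≤ Nat.card D) : ∃ Y, Y ≤ D ∧ Mem p φ q Y := by
  obtain ⟨Y, ⟨hYD, hY0, hYoff⟩, hmin⟩ := Set.exists_min_image
    {Y : Subgroup P | Y ≤ D ∧ Y ≠ ⊥ ∧ (fixA φ Y).index ≤ Nat.card Y}
    (fun Y => Nat.card Y) (Set.toFinite _) ⟨D, le_rfl, hne, hoff⟩
  have hYel := Cfsg.Lib.ElemToolkit.elementary_mono hYD hel
  have hstr : Strict p φ Y := ⟨hY0, hYel, hYoff, fun A₀ hle h0 h1 => by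
    by_contra hcon
    exact h1 (eq_of_le_of_card_ge hle (hmin A₀ ⟨hle.trans hYD, h0, not_lt.1 hcon⟩))⟩
  have hc := g.strict_card hstr
  exact ⟨Y, hYD, hYel, hc, hYoff.trans hc.le⟩

/-- offenders are generated by members and are exact -/
theorem offender {D : Subgroup P} (hel : Cfsg.IsElementaryAbelian p D)
    (hoff : (fixA φ D).index ≤ Nat.card D) :
    D ≤ sSup {m | Mem p φ q m ∧ m ≤ D} ∧ (fixA φ D).index = Nat.card D := by
  classical
  induction hN : Nat.card D using Nat.strong_induction_on generalizing D with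
  | _ N ih =>
    subst hN
    by_cases hne : D = ⊥
    · subst hne
      refine ⟨bot_le, ?_⟩
      rw [Subgroup.card_bot, show fixA φ (⊥ : Subgroup P) = ⊤ from eq_top_iff.2 fun v _ a ha => by
        rw [mem_bot.1 ha]; exact phi_one v, AddSubgroup.index_top]
    -- move into the Sylow subgroup
    obtain ⟨S, hS⟩ := (isPGroup_el hel).exists_le_sylow
    obtain ⟨k, hk⟩ := MulAction.exists_smul_eq P S T
    set D' := FFSLTwo.cj k D with hD'
    have hD'T : D' ≤ (T : Subgroup P) := by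
      rw [← hk, Sylow.coe_subgroup_smul]; exact map_mono hS
    suffices h : D' ≤ sSup {m | Mem p φ q m ∧ m ≤ D'} ∧ (fixA φ D').index = Nat.card D' by
      refine ⟨?_, by rw [← card_cj k D, ← index_fix_cj k D]; exact h.2⟩
      have h1 := cj_le_cj (g := k⁻¹) |>.2 h.1
      rw [hD', cj_inv_cj] at h1
      refine h1.trans (cj_sSup_le fun m hm => ⟨hm.1.conj k⁻¹, ?_⟩)
      have h2 := cj_le_cj (g := k⁻¹) |>.2 hm.2
      rwa [cj_inv_cj] at h2
    have hel' := el_cj k hel (p := p)
    have hoff' : (fixA φ D').index ≤ Nat.card D' := by rw [index_fix_cj, card_cj]; exact hoff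
    have hne' : D' ≠ ⊥ := fun h => hne (cj_inj (g := k) (h.trans (cj_bot k).symm))
    obtain ⟨Y, hYD, hY⟩ := g.exists_mem_le hne' hel' hoff'
    have ff := g.ff
    have hYJ : Y ∈ g.inSyl := ⟨hY, hYD.trans hD'T⟩
    obtain ⟨B, hB, hYB⟩ := g.exists_outer_nc hY
    set K := fixA φ Y ⊓ fixA φ B with hK
    let D₁ : Subgroup P :=
      { carrier := {d | d ∈ D' ∧ FFSLTwo.cj d B = B}
        one_mem' := ⟨one_mem _, cj_one B⟩
        mul_mem' := fun {a b} ha hb => ⟨mul_mem ha.1 hb.1, by rw [← cj_mul, hb.2, ha.2]⟩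
        inv_mem' := fun {a} ha => ⟨inv_mem ha.1, by conv_lhs => rw [← ha.2, cj_inv_cj]⟩ }
    have hYfix : ∀ d ∈ D', FFSLTwo.cj d Y = Y := by
      intro d hd
      refine eq_of_le_of_card_ge ?_ (card_cj _ _).ge
      rintro _ ⟨y, hy, rfl⟩
      show d * y * d⁻¹ ∈ Y
      rw [Cfsg.Lib.ElemToolkit.comm_of hel'.1 hd (hYD hy), mul_inv_cancel_right]
      exact hy
    have hcomm : ∀ d ∈ D', ∀ y ∈ Y, d * y = y * d := fun d hd y hy =>
      Cfsg.Lib.ElemToolkit.comm_of hel'.1 hd (hYD hy)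
    have hD₁D : D₁ ≤ D' := fun d hd => hd.1
    have hsup : D' ≤ Y ⊔ D₁ := by
      intro d hd
      have hl : IsLine φ (Mem p φ q) Y B (FFSLTwo.cj d B) :=
        g.class_line hYJ hB (g.cj_outer (g.hTM (hD'T hd)) hB) hYB (by
          rw [← hYfix d hd, comm_cj_iff]; exact hYB)
      rcases ff.line_eq hY hB.1 hYB hl with h | ⟨a, ha, h⟩
      · exact absurd (h ▸ g.inSyl_le hYJ) (g.cj_outer (g.hTM (hD'T hd)) hB).2
      · have h1 : a⁻¹ * d ∈ D₁ := ⟨mul_mem (inv_mem (hYD ha)) hd, by rw [← cj_mul, h, cj_inv_cj]⟩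
        have e : d = a * (a⁻¹ * d) := (mul_inv_cancel_left a d).symm
        rw [e]
        exact mul_mem (mem_sup_left ha) (mem_sup_right h1)
    have hinf : Y ⊓ D₁ = ⊥ := (eq_bot_iff_forall _).2 fun y hy => by
      by_contra hy1
      exact ff.cj_ne hY hB.1 hYB hy.1 hy1 hy.2.2
    have hcard : Nat.card D' = q * Nat.card D₁ := by
      have e : Y ⊔ D₁ = D' := le_antisymm (_root_.sup_le hYD hD₁D) hsup
      have h1 := card_sup_comm (A := Y) (B := D₁) fun y hy d hd => (hcomm d hd.1 y hy).symm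
      have h2 := Cfsg.Lib.ElemToolkit.mul_card_le Y D₁
      rw [e] at h1 h2
      rw [hinf, Subgroup.card_bot, mul_one] at h2
      rw [ff.card hY] at h1 h2
      omega
    -- `D₁` is trivial modulo `K`
    have hfixY : ∀ d ∈ D₁, ∀ x ∈ fixA φ Y, φ d x ∈ fixA φ Y := fun d hd x hx => by
      have h1 : φ d x ∈ fixA φ (FFSLTwo.cj d Y) := mem_fixA_cj.2 (by rw [phi_inv_cancel]; exact hx)
      rwa [hYfix d hd.1] at h1
    have hfixB : ∀ d ∈ D₁, ∀ x ∈ fixA φ B, φ d x ∈ fixA φ B := fun d hd x hx => by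
      have h1 : φ d x ∈ fixA φ (FFSLTwo.cj d B) := mem_fixA_cj.2 (by rw [phi_inv_cancel]; exact hx)
      rwa [hd.2] at h1
    obtain ⟨u, hu, huY, hdu⟩ : ∃ u ∈ fixA φ B, u ∉ fixA φ Y ∧ ∀ d ∈ D₁, dd φ d u ∈ fixA φ Y := by
      set U := fixA φ Y with hU
      let ψ : D₁ →* AddMonoid.End (V ⧸ U) :=
        { toFun := fun d => QuotientAddGroup.map U U (φ (d : P) : V →+ V) (fun x hx => hfixY d d.2 x hx)
          map_one' := DFunLike.ext (F := AddMonoid.End (V ⧸ U)) _ _ fun x => by
            induction x using QuotientAddGroup.induction_on with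
            | _ v =>
              show QuotientAddGroup.mk (φ (1 : P) v) = QuotientAddGroup.mk v
              rw [phi_one]
          map_mul' := fun a b => DFunLike.ext (F := AddMonoid.End (V ⧸ U)) _ _ fun x => by
            induction x using QuotientAddGroup.induction_on with
            | _ v =>
              show QuotientAddGroup.mk (φ ((a : P) * b) v) =
                QuotientAddGroup.mk (φ (a : P) (φ (b : P) v))
              rw [phi_mul] }
      have htop : (⊤ : AddSubgroup (V ⧸ U)) ≠ ⊥ := fun h => by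
        have h1 : Nat.card (⊤ : AddSubgroup (V ⧸ U)) = 1 := by rw [h, AddSubgroup.card_bot]
        rw [AddSubgroup.card_top, show Nat.card (V ⧸ U) = q from ff.index hY] at h1
        exact ff.one_lt.ne' h1
      obtain ⟨x, -, hx0, hx⟩ := exists_fix_mem (φ := ψ) (fun x => by
        induction x using QuotientAddGroup.induction_on with
        | _ v =>
          show p • QuotientAddGroup.mk' U v = 0
          rw [← map_nsmul, g.hc.char, map_zero])
        (R := ⊤) (((isPGroup_el hel').to_le hD₁D).to_subgroup ⊤) ⊤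
        (fun _ _ _ _ => AddSubgroup.mem_top _) htop
      induction x using QuotientAddGroup.induction_on with
      | _ v =>
        obtain ⟨x, hx', u, hu, rfl⟩ := ff.split hY hB.1 (ff.ne_of_nc hY hYB) v
        have hmk : (QuotientAddGroup.mk (x + u) : V ⧸ U) = QuotientAddGroup.mk u := by
          rw [QuotientAddGroup.eq]
          rw [neg_add_rev, add_assoc, add_comm (-x), ← add_assoc, neg_add_cancel, zero_add]
          exact U.neg_mem hx'
        refine ⟨u, hu, fun h => hx0 (by rw [hmk]; exact (QuotientAddGroup.eq_zero_iff u).2 h), ?_⟩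
        intro d hd
        have h2 := hx ⟨d, hd⟩ (mem_top _)
        rw [hmk] at h2
        rw [dd_apply]
        exact (QuotientAddGroup.eq_iff_sub_mem (N := U)).1 h2
    have hKd : ∀ d ∈ D₁, ∀ w ∈ K, dd φ d w ∈ K := fun d hd w hw => by
      rw [dd_apply]
      exact K.sub_mem ⟨hfixY d hd w hw.1, hfixB d hd w hw.2⟩ hw
    have hduK : ∀ d ∈ D₁, dd φ d u ∈ K := fun d hd =>
      ⟨hdu d hd, by rw [dd_apply]; exact (fixA φ B).sub_mem (hfixB d hd u hu) hu⟩
    have hdY : ∀ d ∈ D₁, ∀ x ∈ fixA φ Y, dd φ d x ∈ K := by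
      intro d hd x hx
      obtain ⟨a, ha, hs⟩ := ff.exists_shift hY hB.1 hYB hu huY x
      have hk : x - dd φ a u ∈ K := ⟨(fixA φ Y).sub_mem hx (ff.dd_mem hY ha u), hs⟩
      rw [← sub_add_cancel x (dd φ a u), map_add, dd_comm (hcomm d hd.1 a ha),
        dd_eq_zero.2 ((hduK d hd).1 a ha), add_zero]
      exact hKd d hd _ hk
    have hdK : ∀ d ∈ D₁, ∀ v, dd φ d v ∈ K := by
      intro d hd v
      obtain ⟨x, hx, u', hu', rfl⟩ := ff.split hY hB.1 (ff.ne_of_nc hY hYB) v
      rw [map_add]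
      refine K.add_mem (hdY d hd x hx) ⟨?_, ?_⟩
      · obtain ⟨a, ha, ha1⟩ := ff.exists_ne_one hY
        refine ff.cap hY ha ha1 (dd_eq_zero.1 (ff.nc_zero hY hB.1 hYB ha ?_))
        rw [← dd_comm (hcomm d hd.1 a ha)]
        exact (hdY d hd _ (ff.dd_mem hY ha u')).2
      · rw [dd_apply]; exact (fixA φ B).sub_mem (hfixB d hd u' hu') hu'
    have hdB : ∀ d ∈ D₁, ∀ b ∈ B, d * b = b * d := by
      intro d hd b hb
      have hm : d * b * d⁻¹ * b⁻¹ ∈ B := B.mul_mem (conj_eq_self hd.2 hb) (B.inv_mem hb)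
      suffices h1 : d * b * d⁻¹ * b⁻¹ = 1 by
        rwa [mul_inv_eq_one, mul_inv_eq_iff_eq_mul] at h1
      by_contra h1
      obtain ⟨v, hv⟩ := ff.exists_ne_zero hB.1 hm h1
      refine hv (ff.nc_zero hB.1 hY (fun h => hYB h.symm) hm ?_)
      -- modulo `K` the commutator is trivial
      have hg : ∀ w, QuotientAddGroup.mk (s := K) (φ d w) = QuotientAddGroup.mk w := fun w =>
        (QuotientAddGroup.eq_iff_sub_mem (N := K)).2 (by rw [← dd_apply]; exact hdK d hd w)
      have hKb : ∀ {c}, c ∈ B → ∀ w w', QuotientAddGroup.mk (s := K) w = QuotientAddGroup.mk w' →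
          QuotientAddGroup.mk (s := K) (φ c w) = QuotientAddGroup.mk (φ c w') := fun {c} hc w w' h => by
        rw [QuotientAddGroup.eq_iff_sub_mem] at h ⊢
        rw [← map_sub, h.2 c hc]; exact h
      have hgi : ∀ w, QuotientAddGroup.mk (s := K) (φ d⁻¹ w) = QuotientAddGroup.mk w := fun w => by
        have h2 := hg (φ d⁻¹ w)
        rwa [phi_cancel_inv, eq_comm] at h2
      have e : QuotientAddGroup.mk (s := K) (φ (d * b * d⁻¹ * b⁻¹) v) = QuotientAddGroup.mk v := by
        rw [phi_mul, phi_mul, phi_mul, hg, hKb hb _ _ (hgi _), phi_cancel_inv]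
      rw [QuotientAddGroup.eq_iff_sub_mem, ← dd_apply] at e
      exact e.1
    have hkill : ∀ d ∈ D₁, ∀ b ∈ B, ∀ v, dd φ d (dd φ b v) = 0 := fun d hd b hb v => by
      rw [dd_comm (hdB d hd b hb), dd_eq_zero]
      exact (hdK d hd v).2 b hb
    have htopfix : fixA φ Y ⊔ fixA φ D₁ = ⊤ := by
      refine eq_top_iff.2 fun w _ => ?_
      obtain ⟨x, hx, hxB⟩ := SetLike.not_le_iff_exists.1
        (ff.not_fix_le hY hB.1 (ff.ne_of_nc hY hYB))
      obtain ⟨b, hb, hs⟩ := ff.exists_shift hB.1 hY (fun h => hYB h.symm) hx hxB w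
      rw [← sub_add_cancel w (dd φ b x)]
      exact AddSubgroup.add_mem _ (AddSubgroup.mem_sup_left hs)
        (AddSubgroup.mem_sup_right fun d hd => dd_eq_zero.1 (hkill d hd b hb x))
    have hidx : (fixA φ D').index = q * (fixA φ D₁).index := by
      have e : fixA φ D' = fixA φ Y ⊓ fixA φ D₁ := by
        rw [← fixA_sup, le_antisymm (_root_.sup_le hYD hD₁D) hsup]
      have h1 := index_inf_mul_sup (fixA φ Y) (fixA φ D₁)
      rw [htopfix, AddSubgroup.index_top, mul_one, ← e, ff.index hY] at h1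
      exact h1
    have hq1 := ff.one_lt
    have hlt : Nat.card D₁ < Nat.card D := by
      rw [← card_cj k D, ← hD', hcard]
      exact lt_mul_of_one_lt_left Nat.card_pos hq1
    have hoff₁ : (fixA φ D₁).index ≤ Nat.card D₁ :=
      Nat.le_of_mul_le_mul_left (by rw [← hidx, ← hcard]; exact hoff') (by omega)
    obtain ⟨h1, h2⟩ := ih _ hlt (Cfsg.Lib.ElemToolkit.elementary_mono hD₁D hel') hoff₁ rfl
    refine ⟨hsup.trans (_root_.sup_le (le_sSup ⟨hY, hYD⟩) (h1.trans (sSup_le_sSup ?_))),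
      by rw [hidx, hcard, h2]⟩
    exact fun m hm => ⟨hm.1, hm.2.trans hD₁D⟩

/-- the fixed space of an inner member is spanned by images -/
theorem fix_le_of_invariant {Y : Subgroup P} (hY : Y ∈ g.inSyl) {S : AddSubgroup V}
    (hS : S ≤ fixA φ Y) (hinv : ∀ x, (∀ y ∈ Y, x * y = y * x) → ∀ w ∈ S, φ x w ∈ S)
    (himg : ∀ A ∈ g.inSyl, ∀ a ∈ A, ∀ v, dd φ a v ∈ S) : fixA φ Y ≤ S := by
  classical
  have ff := g.ff
  obtain ⟨B, hB, hYB⟩ := g.exists_outer_nc hY.1
  have hcover : mall p φ q ≤ sSup g.outer := _root_.sSup_le fun m hm => by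
    obtain ⟨x, hx, y, hy, -, hle⟩ := g.exists_pair hm
    exact hle.trans (_root_.sup_le (le_sSup hx) (le_sSup hy))
  -- images of outer members
  have hout : ∀ C ∈ g.outer, ∀ c ∈ C, ∀ v, dd φ c v ∈ S ⊔ img φ B := by
    intro C hC c hc v
    obtain ⟨A, hA, hAC⟩ := g.exists_nc hC
    by_cases hAY : A = Y
    · subst hAY
      rcases ff.line_eq hY.1 hB.1 hYB (g.class_line hY hB hC hYB hAC) with h | ⟨a, ha, h⟩
      · exact absurd (h ▸ g.inSyl_le hY) hC.2
      · subst h
        obtain ⟨b, hb, rfl⟩ := hc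
        show dd φ (a * b * a⁻¹) v ∈ _
        rw [dd_cj, phi_eq_add a]
        exact AddSubgroup.add_mem _ (AddSubgroup.mem_sup_right (dd_mem_img hb _))
          (AddSubgroup.mem_sup_left (himg _ hY a ha _))
    · refine AddSubgroup.mem_sup_left ?_
      obtain ⟨x, hx, u, hu, rfl⟩ := ff.split hA.1 hC.1 (ff.ne_of_nc hA.1 hAC) v
      rw [map_add, dd_eq_zero.2 (hu c hc), add_zero]
      obtain ⟨u₀, hu₀, hu₀'⟩ := SetLike.not_le_iff_exists.1
        (ff.not_fix_le hC.1 hA.1 (ff.ne_of_nc hA.1 hAC).symm)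
      obtain ⟨a, ha, hs⟩ := ff.exists_shift hA.1 hC.1 hAC hu₀ hu₀' x
      rw [← sub_add_cancel x (dd φ a u₀), map_add, dd_eq_zero.2 (hs c hc), zero_add, dd_apply]
      have hAS := himg A hA a ha u₀
      refine S.sub_mem (hinv c (fun y hy => ?_) _ hAS) hAS
      exact (g.other_comm hA hY hC hAC (Ne.symm hAY) y hy c hc).symm
  obtain ⟨r, Δ, hb⟩ := g.exists_blocks
  have hd := ff.decomp hb
  have htop : ∀ v, v ∈ S ⊔ img φ B := by
    intro v
    have h1 : fixA φ (⨆ i, sSup (Δ i)) ⊔ ⨆ i, img φ (sSup (Δ i)) ≤ S ⊔ img φ B := by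
      refine _root_.sup_le (fun w hw => ?_) (iSup_le fun i => le_trans ?_
        (img_sSup_le (s := g.outer) hout))
      · rw [g.fix_mall (v := w) ((g.mall_eq hb).symm ▸ hw)]; exact AddSubgroup.zero_mem _
      · refine AddSubgroup.closure_mono ?_
        rintro w ⟨x, hx, v', rfl⟩
        exact ⟨x, hcover ((g.mall_eq hb).ge ((le_iSup (fun i => sSup (Δ i)) i) hx)), v', rfl⟩
    exact h1 (hd.split ▸ AddSubgroup.mem_top v)
  have hzero : ∀ w ∈ img φ B, w ∈ fixA φ Y → w = 0 := by
    intro w hw hwY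
    rcases Nat.lt_or_ge 2 q with hq | hq
    · refine g.fix_mall ((fun h => fixA_anti hcover (mem_fixA_sSup.2 h)) fun C hC => ?_)
      by_cases hcom : Comm B C
      · have hle : img φ B ≤ fixA φ C := (AddSubgroup.closure_le _).2 fun z ⟨b, hb', v, hz⟩ =>
          hz ▸ (ff.comm_mem hB.1 hC.1 hcom hb' v).2
        exact hle hw
      · obtain ⟨A, hA, hAC⟩ := g.exists_nc hC
        have he := g.class_eq hq hY hA hB hC hYB hAC hcom
        subst he
        refine (g.class_line hY hB hC hYB hAC).2 ⟨hwY, ?_⟩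
        have hle : img φ B ≤ fixA φ B := (AddSubgroup.closure_le _).2 fun z ⟨b, hb', v, hz⟩ =>
          hz ▸ ff.dd_mem hB.1 hb' v
        exact hle hw
    · obtain ⟨t, ht, ht1, htA, w₀, -, hw2, f, -, hf0, hf1⟩ :=
        ff.transvection hB.1 (le_antisymm hq ff.one_lt)
      let U : AddSubgroup V :=
        { carrier := {z | ∃ v, dd φ t v = z}
          zero_mem' := ⟨0, map_zero _⟩
          add_mem' := fun {a b} => fun ⟨v, hv⟩ ⟨v', hv'⟩ => ⟨v + v', by rw [map_add, hv, hv']⟩
          neg_mem' := fun {a} => fun ⟨v, hv⟩ => ⟨-v, by rw [map_neg, hv]⟩ }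
      have hle : img φ B ≤ U := (AddSubgroup.closure_le _).2 fun z ⟨b, hb', v, hz⟩ => by
        rcases htA b hb' with rfl | rfl
        · exact ⟨0, by rw [map_zero, ← hz, dd_apply, phi_one, sub_self]⟩
        · exact ⟨v, hz⟩
      obtain ⟨v, rfl⟩ := hle hw
      exact ff.nc_zero hB.1 hY.1 (fun h => hYB h.symm) ht hwY
  intro v hv
  obtain ⟨s, hs, w, hw, rfl⟩ := AddSubgroup.mem_sup.1 (htop v)
  have hwY : w ∈ fixA φ Y := by
    have := (fixA φ Y).sub_mem hv (hS hs)
    rwa [add_sub_cancel_left] at this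
  rw [hzero w hw hwY, add_zero]
  exact hs

/-- all members are conjugate -/
theorem mem_conj {A B : Subgroup P} (hA : Mem p φ q A) (hB : Mem p φ q B) :
    ∃ k, FFSLTwo.cj k A = B := by
  have h : ∀ {A}, Mem p φ q A → ∃ k, FFSLTwo.cj k A ∈ g.inSyl := fun {A} hA => by
    obtain ⟨S, hS⟩ := (isPGroup_el hA.el).exists_le_sylow
    obtain ⟨k, hk⟩ := MulAction.exists_smul_eq P S T
    exact ⟨k, hA.conj k, by rw [← hk, Sylow.coe_subgroup_smul]; exact map_mono hS⟩
  obtain ⟨k, hk⟩ := h hA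
  obtain ⟨l, hl⟩ := h hB
  obtain ⟨t, -, ht⟩ := g.transitive hk hl
  exact ⟨l⁻¹ * (t * k), by rw [← cj_mul, ← cj_mul, ht, cj_inv_cj]⟩

end Glob

end Cfsg.Lib.FFModule
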