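import Cfsg.Agent.PLocal.FFModule.Frame

/-!
Consequences of a frame, in coordinates.
-/

set_option autoImplicit false
set_option linter.unusedSectionVars false
set_option linter.style.haveILetI false

namespace Cfsg.Lib.FFModule

open Subgroup Cfsg.Lib.FFSLTwo

variable {P : Type*} [Group P] [Finite P] {V : Type*} [AddCommGroup V] [Finite V]
variable {p : ℕ} [Fact p.Prime] {φ : P →* AddMonoid.End V}

/-- the numerical consequences of a frame -/
structure Frame (p : ℕ) (φ : P →* AddMonoid.End V) (A M X : Subgroup P) : Prop where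
  pt : IsPt p M
  hA : A ≤ M
  hX : ¬ X ≤ M
  strictA : Strict p φ A
  cap : ∀ a ∈ A, a ≠ 1 → ∀ v, φ a v = v → v ∈ fixA φ A
  index : (fixA φ A).index = Nat.card A
  sup : fixA φ A ⊔ fixA φ X = ⊤
  cover : ∀ v, v ∉ fixA φ A → ∃ a ∈ A, v ∈ fixA φ (cj a X)
  span : fixA φ A ≤ AddSubgroup.closure {w | ∃ a ∈ A, ∃ v, dd φ a v = w} ⊔ (fixA φ A ⊓ fixA φ X)

/-- vectors of the point are fixed -/
theorem Frame.sv_mem {A M X : Subgroup P} (h : Frame p φ A M X) {v : V} (hv : Ctx.SV φ M v) :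
    v ∈ fixA φ A := by
  by_contra hout
  obtain ⟨a, ha, hmem⟩ := h.cover v hout
  refine h.hX fun y hy => ?_
  have h1 := M.mul_mem (M.mul_mem (M.inv_mem (h.hA ha)) (hv _ (hmem _ (conj_mem_cj hy)))) (h.hA ha)
  simpa [mul_assoc] using h1

/-- coordinates of a frame -/
structure Coord (φ : P →* AddMonoid.End V) (A M X : Subgroup P) (F : Type) [Field F] [Fintype F] where
  card : Fintype.card F = Nat.card A
  t : Fˣ → P
  π : V →+ V
  cA : V →+ F
  cX : V →+ F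
  sA : F →+ V
  sX : F →+ V
  ι : P → F
  t_mem : ∀ μ, t μ ∈ M
  t_mul : ∀ μ ν, t (μ * ν) = t μ * t ν
  t_norm : ∀ μ, ∀ a ∈ A, t μ * a * (t μ)⁻¹ ∈ A
  ι_t : ∀ μ : Fˣ, ∀ a ∈ A, ι (t μ * a * (t μ)⁻¹) = (μ : F) * μ * ι a
  ι_zero : ∀ a ∈ A, ι a = 0 → a = 1
  ι_surj : ∀ r, ∃ a ∈ A, ι a = r
  ι_mul : ∀ a ∈ A, ∀ b ∈ A, ι (a * b) = ι a + ι b
  act : ∀ a ∈ A, ∀ v, cA (dd φ a v) = ι a * cX v
  decomp : ∀ v, π v + sA (cA v) + sX (cX v) = v
  π_mem : ∀ v, π v ∈ fixA φ A ⊓ fixA φ X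
  π_id : ∀ v ∈ fixA φ A ⊓ fixA φ X, π v = v
  π_t : ∀ μ v, π (φ (t μ) v) = π v
  π_sA : ∀ r, π (sA r) = 0
  π_sX : ∀ r, π (sX r) = 0
  cA_sA : ∀ r, cA (sA r) = r
  cX_sA : ∀ r, cX (sA r) = 0
  cA_sX : ∀ r, cA (sX r) = 0
  cX_sX : ∀ r, cX (sX r) = r
  memA : ∀ v, v ∈ fixA φ A ↔ cX v = 0
  memX : ∀ v, v ∈ fixA φ X ↔ cA v = 0
  t_fix : ∀ μ, ∀ v ∈ fixA φ A ⊓ fixA φ X, φ (t μ) v = v
  t_sA : ∀ μ : Fˣ, ∀ r, φ (t μ) (sA r) = sA ((μ : F) * r)
  t_sX : ∀ μ : Fˣ, ∀ r, φ (t μ) (sX r) = sX (((μ⁻¹ : Fˣ) : F) * r)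
  sA_mem : ∀ r, sA r ∈ AddSubgroup.closure {w | ∃ a ∈ A, ∃ v, dd φ a v = w}
  sX_mem : ∀ r, sX r ∈ AddSubgroup.closure {w | ∃ a ∈ X, ∃ v, dd φ a v = w}
  πW : ∀ y ∈ X, ∀ v, ∃ a ∈ A, ∃ v', π (dd φ y v) = π (dd φ a v')

/-- `diag(μ, μ⁻¹)` -/
def diagFun {F : Type} [Field F] (μ : Fˣ) : Matrix.SpecialLinearGroup (Fin 2) F :=
  ⟨!![(μ : F), 0; 0, ((μ⁻¹ : Fˣ) : F)], by simp [Matrix.det_fin_two]⟩

theorem diagFun_coe {F : Type} [Field F] (μ : Fˣ) :
    ((diagFun μ : Matrix.SpecialLinearGroup (Fin 2) F) : Matrix (Fin 2) (Fin 2) F) =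
      !![(μ : F), 0; 0, ((μ⁻¹ : Fˣ) : F)] := rfl

/-- `diag(μ, μ⁻¹)` as a homomorphism -/
def diagEl {F : Type} [Field F] : Fˣ →* Matrix.SpecialLinearGroup (Fin 2) F where
  toFun := diagFun
  map_one' := by ext i j; fin_cases i <;> fin_cases j <;> simp [diagFun_coe]
  map_mul' μ ν := by
    ext i j; fin_cases i <;> fin_cases j <;>
      simp [diagFun_coe, Matrix.SpecialLinearGroup.coe_mul, Matrix.mul_apply, Fin.sum_univ_two, mul_comm]

theorem diagEl_coe {F : Type} [Field F] (μ : Fˣ) :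
    ((diagEl μ : Matrix.SpecialLinearGroup (Fin 2) F) : Matrix (Fin 2) (Fin 2) F) =
      !![(μ : F), 0; 0, ((μ⁻¹ : Fˣ) : F)] := rfl

theorem diagEl_mulVec {F : Type} [Field F] (μ : Fˣ) (z : Fin 2 → F) :
    ((diagEl μ : Matrix.SpecialLinearGroup (Fin 2) F) : Matrix (Fin 2) (Fin 2) F).mulVec z =
      ![(μ : F) * z 0, ((μ⁻¹ : Fˣ) : F) * z 1] := by
  ext i; fin_cases i <;> simp [diagEl_coe, Matrix.mulVec, dotProduct, Fin.sum_univ_two]

theorem diagEl_conj {F : Type} [Field F] (μ : Fˣ) (r : F) :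
    diagEl μ * Cfsg.Lib.RootSub.upEl r * (diagEl μ)⁻¹ = Cfsg.Lib.RootSub.upEl ((μ : F) * μ * r) := by
  rw [mul_inv_eq_iff_eq_mul]
  ext i j; fin_cases i <;> fin_cases j <;>
    simp [Matrix.SpecialLinearGroup.coe_mul, diagEl_coe, Cfsg.Lib.RootSub.upEl_coe, Matrix.mul_apply, Fin.sum_univ_two]
  field_simp

theorem diagEl_conj_lo {F : Type} [Field F] (μ : Fˣ) (r : F) :
    diagEl μ * Cfsg.Lib.RootSub.loEl r * (diagEl μ)⁻¹ =
      Cfsg.Lib.RootSub.loEl (((μ⁻¹ : Fˣ) : F) * ((μ⁻¹ : Fˣ) : F) * r) := by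
  rw [mul_inv_eq_iff_eq_mul]
  ext i j; fin_cases i <;> fin_cases j <;>
    simp [Matrix.SpecialLinearGroup.coe_mul, diagEl_coe, Cfsg.Lib.RootSub.loEl_coe, Matrix.mul_apply, Fin.sum_univ_two]
  field_simp

/-- the Weyl element -/
def weylEl {F : Type} [Field F] : Matrix.SpecialLinearGroup (Fin 2) F :=
  ⟨!![0, 1; -1, 0], by simp [Matrix.det_fin_two]⟩

theorem weylEl_coe {F : Type} [Field F] :
    ((weylEl : Matrix.SpecialLinearGroup (Fin 2) F) : Matrix (Fin 2) (Fin 2) F) =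
      !![0, 1; -1, 0] := rfl

theorem weylEl_conj {F : Type} [Field F] (r : F) :
    weylEl * Cfsg.Lib.RootSub.upEl r * weylEl⁻¹ = Cfsg.Lib.RootSub.loEl (-r) := by
  rw [mul_inv_eq_iff_eq_mul]
  ext i j; fin_cases i <;> fin_cases j <;>
    simp [Matrix.SpecialLinearGroup.coe_mul, weylEl_coe, Cfsg.Lib.RootSub.loEl_coe,
      Cfsg.Lib.RootSub.upEl_coe, Matrix.mul_apply, Fin.sum_univ_two]

theorem weylEl_diag {F : Type} [Field F] (μ : Fˣ) : diagEl μ * weylEl = weylEl * diagEl μ⁻¹ := by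
  ext i j; fin_cases i <;> fin_cases j <;>
    simp [Matrix.SpecialLinearGroup.coe_mul, weylEl_coe, diagEl_coe, Matrix.mul_apply, Fin.sum_univ_two]

theorem PreFrame.exists_frame (hc : Ctx p φ) {A M : Subgroup P} {x : P} (h : PreFrame p φ A M x) :
    Frame p φ A M (cj x A) ∧
      (2 < Nat.card A → ∃ (F : Type) (_ : Field F) (_ : Fintype F),
        Nonempty (Coord φ A M (cj x A) F)) := by
  classical
  set X := cj x A with hXdef
  set E := A ⊔ X with hE
  have hAE : A ≤ E := le_sup_left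
  have hXE : X ≤ E := le_sup_right
  have hxM : x ∉ M := fun hx => h.hx (by
    rintro _ ⟨a, ha, rfl⟩
    exact M.mul_mem (M.mul_mem hx (h.hA ha)) (M.inv_mem hx))
  let ψ : E →* AddMonoid.End V := φ.comp E.subtype
  have hfix : ∀ {H : Subgroup P}, H ≤ E → fixA ψ (H.subgroupOf E) = fixA φ H := fun {H} hH => by
    ext v
    exact ⟨fun hv a ha => hv ⟨a, hH ha⟩ (mem_subgroupOf.2 ha), fun hv a ha => hv _ (mem_subgroupOf.1 ha)⟩
  have hcard : ∀ {H : Subgroup P}, H ≤ E → Nat.card (H.subgroupOf E) = Nat.card H :=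
    fun {H} hH => Nat.card_congr (subgroupOfEquivOfLe hH).toEquiv
  obtain ⟨T', hT'⟩ := ((isPGroup_el h.strict.el).comap_subtype :
    IsPGroup p ↥(A.subgroupOf E)).exists_le_sylow
  set S := (T' : Subgroup E).map E.subtype with hS
  have hAS : A ≤ S := fun a ha => ⟨⟨a, hAE ha⟩, hT' (mem_subgroupOf.2 ha), rfl⟩
  have hSp : IsPGroup p S := T'.2.map _
  have hSM : S ≤ M := h.sylM S (map_subtype_le _) hAS hSp
  have hEM : ¬ E ≤ M := fun hh => h.hx (hXE.trans hh)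
  have hcjE : ∀ y : E, cj y (A.subgroupOf E) = (cj (y : P) A).subgroupOf E := fun y => by
    ext z; simp [mem_cj, mem_subgroupOf]
  have hgen : ∀ y : E, y ∉ M.subgroupOf E → A.subgroupOf E ⊔ cj y (A.subgroupOf E) = ⊤ := by
    intro y hy
    have hle : cj (y : P) A ≤ E := by
      rintro _ ⟨a, ha, rfl⟩
      exact mul_mem (mul_mem y.2 (hAE ha)) (inv_mem y.2)
    rw [hcjE, eq_top_iff]
    intro z _
    have h1 : (z : P) ∈ A ⊔ cj (y : P) A := (h.gen y y.2 fun h0 => hy (mem_subgroupOf.2 h0)).symm ▸ z.2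
    have h2 : (A ⊔ cj (y : P) A).subgroupOf E = A.subgroupOf E ⊔ (cj (y : P) A).subgroupOf E :=
      subgroupOf_sup hAE hle
    exact h2 ▸ mem_subgroupOf.2 h1
  have hH : Hyp p ψ T' (A.subgroupOf E) (M.subgroupOf E) :=
    { inj := hc.inj.comp E.subtype_injective
      char := hc.char
      coatom := ⟨fun h0 => hEM (subgroupOf_eq_top.1 h0), fun K hK => by
        obtain ⟨k, hk, hkM⟩ := SetLike.exists_of_lt hK
        refine top_le_iff.1 (hgen k hkM ▸ sup_le ?_ ?_)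
        · exact fun a ha => hK.le (mem_subgroupOf.2 (h.hA (mem_subgroupOf.1 ha)))
        · rintro _ ⟨a, ha, rfl⟩
          exact K.mul_mem (K.mul_mem hk (hK.le (mem_subgroupOf.2 (h.hA (mem_subgroupOf.1 ha)))))
            (K.inv_mem hk)⟩
      hTM := fun z hz => mem_subgroupOf.2 (hSM ⟨z, hz, rfl⟩)
      uniq := fun K hK hK' k hk => by
        by_contra hkM
        refine hK' (top_le_iff.1 (hgen k hkM ▸ sup_le (hT'.trans hK) ?_))
        rintro _ ⟨a, ha, rfl⟩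
        exact K.mul_mem (K.mul_mem hk (hK (hT' ha))) (K.inv_mem hk)
      hAT := hT'
      ne_bot := fun h0 => h.strict.ne_bot (by
        rw [← map_subgroupOf_eq_of_le hAE, h0, Subgroup.map_bot])
      off := by
        rw [hcard hAE, hfix hAE, ← AddSubgroup.index_mul_card (fixA φ A)]
        exact Nat.mul_le_mul_right _ h.strict.off
      strict := fun A₀ hA₀ h0 h1 => by
        have e : (A₀.map E.subtype).subgroupOf E = A₀ := comap_map_eq_self_of_injective E.subtype_injective A₀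
        have hle : A₀.map E.subtype ≤ E := map_subtype_le _
        rw [← e] at hA₀ h0 h1 ⊢
        rw [hcard hle, hcard hAE, hfix hle, hfix hAE]
        set B := A₀.map E.subtype
        have hBA : B ≤ A := fun b hb => mem_subgroupOf.1 (hA₀ (mem_subgroupOf.2 hb : (⟨b, hle hb⟩ : E) ∈ B.subgroupOf E))
        have hlt := h.strict.strict B hBA (fun he => h0 (by rw [he]; simp)) (fun he => h1 (by rw [he]))
        calc Nat.card B * Nat.card (fixA φ B) < (fixA φ B).index * Nat.card (fixA φ B) :=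
              (Nat.mul_lt_mul_right Nat.card_pos).2 hlt
          _ = Nat.card V := AddSubgroup.index_mul_card _
          _ = (fixA φ A).index * Nat.card (fixA φ A) := (AddSubgroup.index_mul_card _).symm
          _ ≤ _ := Nat.mul_le_mul_right _ h.strict.off
      quad := fun a ha b hb v => hc.quad h.strict a (mem_subgroupOf.1 ha) b (mem_subgroupOf.1 hb) v
      moved := by
        obtain ⟨v, hv, hv0, hsv⟩ := hc.exists_sv h.pt hSp hSM
        refine ⟨v, fun z hz => hv z ⟨z, hz, rfl⟩, fun hfixE => hEM fun y hy => hsv y ?_⟩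
        exact hfixE ⟨y, hy⟩ (mem_top _)
      gen := hgen }
  have hxS : (⟨x, h.hxE⟩ : E) ∉ M.subgroupOf E := fun h0 => hxM (mem_subgroupOf.1 h0)
  have htopfix : fixA ψ (⊤ : Subgroup E) = fixA φ A ⊓ fixA φ X := by
    rw [← fixA_sup, ← subgroupOf_self, hfix le_rfl]
  obtain ⟨F, iF, iFF, ρ, Ψ, hFc, hΨs, hΨ0, hΨ, hspan, hmA, hmX, hup, hlo⟩ := hH.natural_coord hxS
  rw [hcjE, hfix hXE] at hmX
  rw [hfix hAE, htopfix] at hspan
  rw [hfix hAE] at hmA
  rw [hcard hAE] at hFc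
  rw [htopfix] at hΨ0
  obtain ⟨hUcard, hUtop⟩ := hH.counts hxS
  rw [hcjE, hfix hXE, hfix hAE] at hUtop
  rw [hcard hAE, htopfix, hfix hAE] at hUcard
  have hρup : ∀ a ∈ A, ∃ ha : a ∈ E, ∃ r, ρ ⟨a, ha⟩ = Cfsg.Lib.RootSub.upEl r := by
    intro a ha
    refine ⟨hAE ha, ?_⟩
    let f : F → A := fun r => ⟨((hup r).choose : E), mem_subgroupOf.1 (hup r).choose_spec.1⟩
    have hf : Function.Injective f := fun r s hrs => by
      have h0 : (f r : P) = f s := congrArg Subtype.val hrs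
      have h1 : (hup r).choose = (hup s).choose := Subtype.ext h0
      have h2 := (hup r).choose_spec.2
      rw [h1, (hup s).choose_spec.2] at h2
      exact (Cfsg.Lib.RootSub.upEl_inj h2).symm
    obtain ⟨r, hr⟩ := ((Nat.bijective_iff_injective_and_card f).2
      ⟨hf, by rw [Nat.card_eq_fintype_card, hFc]⟩).2 ⟨a, ha⟩
    refine ⟨r, ?_⟩
    rw [← (hup r).choose_spec.2]
    exact congrArg ρ (Subtype.ext (congrArg Subtype.val hr).symm)
  let ι : P → F := fun a => if ha : a ∈ E then (ρ ⟨a, ha⟩ : Matrix (Fin 2) (Fin 2) F) 0 1 else 0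
  have hι : ∀ a ∈ A, ∃ ha : a ∈ E, ρ ⟨a, ha⟩ = Cfsg.Lib.RootSub.upEl (ι a) := by
    intro a ha
    obtain ⟨haE, r, hr⟩ := hρup a ha
    refine ⟨haE, ?_⟩
    have : ι a = r := by simp [ι, haE, hr, Cfsg.Lib.RootSub.upEl_coe]
    rw [this, hr]
  have hact : ∀ a ∈ A, ∀ v, Ψ (dd φ a v) = ![ι a * Ψ v 1, 0] := by
    intro a ha v
    obtain ⟨haE, hρ⟩ := hι a ha
    have h1 := hΨ ⟨a, haE⟩ v
    rw [hρ, show Ψ v = ![Ψ v 0, Ψ v 1] by ext i; fin_cases i <;> rfl,
      upEl_mulVec] at h1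
    rw [dd_apply, map_sub, show Ψ (φ a v) = ![Ψ v 0 + ι a * Ψ v 1, Ψ v 1] from h1]
    ext i; fin_cases i <;> simp
  have hframe : Frame p φ A M X := by
    refine { pt := h.pt, hA := h.hA, hX := h.hx, strictA := h.strict, cap := ?_, index := ?_,
             sup := hUtop, cover := ?_, span := ?_ }
    · intro a ha ha1 v hv
      obtain ⟨haE, hρ⟩ := hι a ha
      have hne : ι a ≠ 0 := fun h0 => ha1 (by
        have : (⟨a, haE⟩ : E) = 1 := ρ.injective (by rw [hρ, h0, map_one, Cfsg.Lib.RootSub.upEl_zero])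
        exact congrArg Subtype.val this)
      have h1 := congrFun (hact a ha v) 0
      rw [dd_eq_zero.2 hv, map_zero] at h1
      exact (hmA v).2 ((mul_eq_zero.1 h1.symm).resolve_left hne)
    · have h1 := card_sup_mul_card_inf (fixA φ A) (fixA φ X)
      rw [hUtop, AddSubgroup.card_top, show Nat.card (fixA φ X) = Nat.card (fixA φ A) by
        have := card_fix_cj x A (⊤ : AddSubgroup V) (φ := φ) fun _ _ _ => AddSubgroup.mem_top _
        simpa using this] at h1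
      have h2 := AddSubgroup.index_mul_card (fixA φ A)
      refine Nat.eq_of_mul_eq_mul_right (Nat.mul_pos (Nat.card_pos (α := fixA φ A))
        (Nat.card_pos (α := ↥(fixA φ A ⊓ fixA φ X)))) ?_
      rw [← mul_assoc, h2, h1, ← mul_assoc, mul_right_comm, ← hUcard]
    · intro v hv
      obtain ⟨a, ha, hmem⟩ := hH.mem_translate hxS (v := v) (by rwa [hfix hAE])
      refine ⟨(a : P), mem_subgroupOf.1 ha, ?_⟩
      rw [mem_fixA_cj] at hmem ⊢
      intro y hy
      have h1 : ψ (a * ⟨x, h.hxE⟩)⁻¹ v ∈ fixA φ A := hfix hAE ▸ hmem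
      have h2 : φ ((a : P) * x)⁻¹ v ∈ fixA φ A := h1
      rw [mul_inv_rev, phi_mul] at h2
      exact (mem_fixA_cj.2 h2 : φ (a : P)⁻¹ v ∈ fixA φ X) y hy
    · refine hspan.trans (sup_le_sup_right ((AddSubgroup.closure_le _).2 ?_) _)
      rintro w ⟨a, ha, v, rfl⟩
      exact AddSubgroup.subset_closure ⟨a, mem_subgroupOf.1 ha, v, rfl⟩
  refine ⟨hframe, fun h2 => ⟨F, iF, iFF, ?_⟩⟩
  -- the torus
  let d : Fˣ →* P := E.subtype.comp (ρ.symm.toMonoidHom.comp diagEl)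
  have hdE : ∀ μ, d μ ∈ E := fun μ => SetLike.coe_mem (ρ.symm (diagEl μ))
  have hρd : ∀ μ, ρ ⟨d μ, hdE μ⟩ = diagEl μ := fun μ => ρ.apply_symm_apply _
  have hΨd : ∀ μ v, Ψ (φ (d μ) v) = ![(μ : F) * Ψ v 0, ((μ⁻¹ : Fˣ) : F) * Ψ v 1] := fun μ v => by
    have h1 := hΨ ⟨d μ, hdE μ⟩ v
    rw [hρd, diagEl_mulVec] at h1
    exact h1
  have hnormA : ∀ μ, ∀ a ∈ A, d μ * a * (d μ)⁻¹ ∈ A ∧ ι (d μ * a * (d μ)⁻¹) = (μ : F) * μ * ι a := by
    intro μ a ha
    obtain ⟨haE, hρ⟩ := hι a ha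
    obtain ⟨b, hb, hρb⟩ := hup ((μ : F) * μ * ι a)
    have e : (⟨d μ, hdE μ⟩ * ⟨a, haE⟩ * (⟨d μ, hdE μ⟩)⁻¹ : E) = b := ρ.injective (by
      rw [map_mul, map_mul, map_inv, hρd, hρ, hρb, diagEl_conj])
    have e' : d μ * a * (d μ)⁻¹ = (b : P) := congrArg Subtype.val e
    have hbA : (b : P) ∈ A := mem_subgroupOf.1 hb
    rw [e']
    refine ⟨hbA, ?_⟩
    obtain ⟨hbE, hρb'⟩ := hι _ hbA
    exact Cfsg.Lib.RootSub.upEl_inj (hρb'.symm.trans hρb)
  have hdM : ∀ μ, d μ ∈ M := by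
    intro μ
    by_contra hμ
    have h1 : ¬ (d μ ∈ M) := hμ
    have h2 := hH.fix_inf ⟨d μ, hdE μ⟩ (fun h0 => h1 (mem_subgroupOf.1 h0))
    rw [hfix hAE, htopfix, hcjE] at h2
    have h3 : cj (d μ) A = A := by
      refine eq_of_le_of_card_ge ?_ (card_cj _ _).ge
      rintro _ ⟨a, ha, rfl⟩
      exact (hnormA μ a ha).1
    rw [h3, hfix hAE, inf_idem] at h2
    -- `fixA φ A = C₀` is impossible
    have h5 : Nat.card A * Nat.card ↥(fixA φ A ⊓ fixA φ X) = 1 * Nat.card ↥(fixA φ A ⊓ fixA φ X) := by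
      rw [← hUcard, one_mul, ← h2]
    have h6 := Nat.eq_of_mul_eq_mul_right Nat.card_pos h5
    omega
  set q := Fintype.card F with hq
  have hpq : ∀ v : V, (q : ℕ) • v = 0 := fun v => by
    haveI := isPGroup_el (p := p) h.strict.el
    obtain ⟨k, hk⟩ := IsPGroup.iff_card.1 (isPGroup_el (p := p) h.strict.el)
    have hk0 : k ≠ 0 := by rintro rfl; rw [pow_zero] at hk; omega
    obtain ⟨j, rfl⟩ := Nat.exists_eq_succ_of_ne_zero hk0
    rw [hFc, hk, pow_succ, mul_nsmul, smul_comm, hc.char]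
    all_goals simp [hc.char]
  let π : V →+ V := AddMonoidHom.mk' (fun v => -∑ μ : Fˣ, φ (d μ) v) fun v w => by
    simp only [map_add, Finset.sum_add_distrib, neg_add]
  have hπ : ∀ v, π v = -∑ μ : Fˣ, φ (d μ) v := fun v => rfl
  obtain ⟨ν, hν⟩ : ∃ ν : Fˣ, ν ≠ 1 := by
    have h1 : 1 < Fintype.card Fˣ := by rw [Fintype.card_units]; omega
    exact Fintype.exists_ne_of_one_lt_card h1 1
  have hsum : ∀ (f : Fˣ → F), (∀ μ, f (ν * μ) = (ν : F) * f μ) → ∑ μ, f μ = 0 := by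
    intro f hf
    have h1 : ∑ μ, f μ = (ν : F) * ∑ μ, f μ := by
      rw [Finset.mul_sum]
      conv_lhs => rw [← Equiv.sum_comp (Equiv.mulLeft ν) f]
      exact Finset.sum_congr rfl fun μ _ => hf μ
    have h2 : ((ν : F) - 1) * ∑ μ, f μ = 0 := by rw [sub_mul, one_mul, ← h1, sub_self]
    refine (mul_eq_zero.1 h2).resolve_left fun h0 => hν (Units.ext ?_)
    exact (sub_eq_zero.1 h0).trans Units.val_one.symm
  have hπ0 : ∀ v, Ψ (π v) = 0 := by
    intro v
    rw [hπ, map_neg, map_sum, neg_eq_zero]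
    ext i
    rw [Finset.sum_apply]
    simp only [hΨd]
    fin_cases i
    · exact hsum _ fun μ => by simp [mul_assoc]
    · have e : ∑ μ : Fˣ, ((μ⁻¹ : Fˣ) : F) * Ψ v 1 = ∑ μ : Fˣ, (μ : F) * Ψ v 1 :=
        (Equiv.sum_comp (Equiv.inv Fˣ) fun μ : Fˣ => (μ : F) * Ψ v 1)
      show ∑ μ : Fˣ, ((μ⁻¹ : Fˣ) : F) * Ψ v 1 = 0
      rw [e]
      exact hsum _ fun μ => by simp [mul_assoc]
  have hπid : ∀ v ∈ fixA φ A ⊓ fixA φ X, π v = v := by
    intro v hv
    rw [hπ]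
    have h1 : ∀ μ : Fˣ, φ (d μ) v = v := fun μ => by
      have : v ∈ fixA φ (A ⊔ X) := (fixA_sup A X).ge hv
      exact this _ (hdE μ)
    simp only [h1, Finset.sum_const, Finset.card_univ, Fintype.card_units]
    have h3 : (q - 1) • v + v = 0 := by
      rw [← succ_nsmul, show q - 1 + 1 = q by omega, hpq]
    exact neg_eq_of_add_eq_zero_right h3
  have hπd : ∀ μ v, π (φ (d μ) v) = π v := by
    intro μ v
    rw [hπ, hπ]
    congr 1
    conv_rhs => rw [← Equiv.sum_comp (Equiv.mulRight μ) (fun ν : Fˣ => φ (d ν) v)]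
    refine Finset.sum_congr rfl fun ν _ => ?_
    show φ (d ν) (φ (d μ) v) = φ (d (ν * μ)) v
    rw [map_mul, phi_mul]
  -- the section
  choose lift hlift using hΨs
  let s : (Fin 2 → F) →+ V := AddMonoidHom.mk' (fun z => lift z - π (lift z)) fun z w => by
    have h1 : lift (z + w) - (lift z + lift w) ∈ fixA φ A ⊓ fixA φ X := by
      rw [← hΨ0, map_sub, map_add, hlift, hlift, hlift, sub_self]
    have h2 := hπid _ h1
    rw [map_sub, map_add] at h2
    rw [← sub_eq_zero]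
    calc lift (z + w) - π (lift (z + w)) - (lift z - π (lift z) + (lift w - π (lift w)))
        = (lift (z + w) - (lift z + lift w)) - (π (lift (z + w)) - (π (lift z) + π (lift w))) := by abel
      _ = 0 := by rw [h2, sub_self]
  have hs : ∀ u, s (Ψ u) = u - π u := by
    intro u
    have h1 : lift (Ψ u) - u ∈ fixA φ A ⊓ fixA φ X := by
      rw [← hΨ0, map_sub, hlift, sub_self]
    have h2 := hπid _ h1
    rw [map_sub] at h2
    show lift (Ψ u) - π (lift (Ψ u)) = u - π u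
    rw [sub_eq_sub_iff_sub_eq_sub]
    exact h2.symm
  have hΨs' : ∀ z, Ψ (s z) = z := fun z => by
    show Ψ (lift z - π (lift z)) = z
    rw [map_sub, hlift, hπ0, sub_zero]
  have hπmem : ∀ v, π v ∈ fixA φ A ⊓ fixA φ X := fun v => (hΨ0 _).1 (hπ0 v)
  have hπs : ∀ z, π (s z) = 0 := fun z => by
    show π (lift z - π (lift z)) = 0
    rw [map_sub, hπid _ (hπmem _), sub_self]
  have hts : ∀ μ z, φ (d μ) (s z) = s ![(μ : F) * z 0, ((μ⁻¹ : Fˣ) : F) * z 1] := by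
    intro μ z
    rw [← hlift z, hs, ← hΨd, hs, map_sub, hπd]
    congr 1
    have h3 : π (lift z) ∈ fixA φ (A ⊔ X) := (fixA_sup A X).ge (hπmem _)
    exact h3 _ (hdE μ)
  let e0 : F →+ (Fin 2 → F) := AddMonoidHom.mk' (fun r => ![r, 0]) fun r s => by
    ext i; fin_cases i <;> simp
  let e1 : F →+ (Fin 2 → F) := AddMonoidHom.mk' (fun r => ![0, r]) fun r s => by
    ext i; fin_cases i <;> simp
  have hsplit : ∀ z : Fin 2 → F, e0 (z 0) + e1 (z 1) = z := fun z => by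
    ext i; fin_cases i <;> simp [e0, e1]
  refine ⟨{
    card := hFc
    t := d
    π := π
    cA := (Pi.evalAddMonoidHom (fun _ : Fin 2 => F) 0).comp Ψ
    cX := (Pi.evalAddMonoidHom (fun _ : Fin 2 => F) 1).comp Ψ
    sA := s.comp e0
    sX := s.comp e1
    ι := ι
    t_mem := hdM
    t_mul := map_mul d
    t_norm := fun μ a ha => (hnormA μ a ha).1
    ι_t := fun μ a ha => (hnormA μ a ha).2
    ι_zero := ?_
    ι_surj := ?_
    ι_mul := ?_
    act := fun a ha v => congrFun (hact a ha v) 0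
    decomp := ?_
    π_mem := hπmem
    π_id := hπid
    π_t := hπd
    π_sA := fun r => hπs _
    π_sX := fun r => hπs _
    cA_sA := fun r => congrFun (hΨs' (e0 r)) 0
    cX_sA := fun r => congrFun (hΨs' (e0 r)) 1
    cA_sX := fun r => congrFun (hΨs' (e1 r)) 0
    cX_sX := fun r => congrFun (hΨs' (e1 r)) 1
    memA := hmA
    memX := hmX
    t_fix := fun μ v hv => ((fixA_sup A X).ge hv) _ (hdE μ)
    t_sA := ?_
    t_sX := ?_
    sA_mem := ?_
    sX_mem := ?_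
    πW := ?_ }⟩
  · intro a ha h0
    obtain ⟨haE, hρ⟩ := hι a ha
    have : (⟨a, haE⟩ : E) = 1 := ρ.injective (by rw [hρ, h0, map_one, Cfsg.Lib.RootSub.upEl_zero])
    exact congrArg Subtype.val this
  · intro r
    obtain ⟨b, hb, hρb⟩ := hup r
    obtain ⟨hbE, hρ'⟩ := hι _ (mem_subgroupOf.1 hb)
    exact ⟨b, mem_subgroupOf.1 hb, Cfsg.Lib.RootSub.upEl_inj (hρ'.symm.trans hρb)⟩
  · intro a ha b hb
    obtain ⟨haE, hρa⟩ := hι a ha
    obtain ⟨hbE, hρb⟩ := hι b hb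
    obtain ⟨hcE, hρc⟩ := hι _ (A.mul_mem ha hb)
    refine Cfsg.Lib.RootSub.upEl_inj ?_
    rw [← hρc, ← Cfsg.Lib.RootSub.upEl_mul, ← hρa, ← hρb, ← map_mul]
    rfl
  · intro v
    show π v + s (e0 (Ψ v 0)) + s (e1 (Ψ v 1)) = v
    rw [add_assoc, ← map_add, hsplit, hs, add_sub_cancel]
  · intro μ r
    show φ (d μ) (s (e0 r)) = s (e0 ((μ : F) * r))
    rw [hts]; congr 1; ext i; fin_cases i <;> simp [e0]
  · intro μ r
    show φ (d μ) (s (e1 r)) = s (e1 (((μ⁻¹ : Fˣ) : F) * r))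
    rw [hts]; congr 1; ext i; fin_cases i <;> simp [e1]
  · intro r
    obtain ⟨b, hb, hρb⟩ := hup 1
    have hbA : (b : P) ∈ A := mem_subgroupOf.1 hb
    obtain ⟨hbE, hρ'⟩ := hι _ hbA
    have hι1 : ι (b : P) = 1 := Cfsg.Lib.RootSub.upEl_inj (hρ'.symm.trans hρb)
    set W := AddSubgroup.closure {w | ∃ a ∈ A, ∃ v, dd φ a v = w}
    have hWd : ∀ μ, ∀ w ∈ W, φ (d μ) w ∈ W := by
      intro μ w hw
      induction hw using AddSubgroup.closure_induction with
      | mem w hw =>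
        obtain ⟨a, ha, v, rfl⟩ := hw
        have h1 : φ (d μ) (dd φ a v) = dd φ (d μ * a * (d μ)⁻¹) (φ (d μ) v) := by
          rw [dd_cj, phi_inv_cancel]
        rw [h1]
        exact AddSubgroup.subset_closure ⟨_, (hnormA μ a ha).1, _, rfl⟩
      | zero => rw [map_zero]; exact W.zero_mem
      | add u w _ _ hu hw => rw [map_add]; exact W.add_mem hu hw
      | neg u _ hu => rw [map_neg]; exact W.neg_mem hu
    set w := dd φ (b : P) (lift ![0, r]) with hw
    have hwW : w ∈ W := AddSubgroup.subset_closure ⟨_, hbA, _, rfl⟩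
    have hπW : π w ∈ W := by
      rw [hπ]; exact W.neg_mem (AddSubgroup.sum_mem _ fun μ _ => hWd μ w hwW)
    have hΨw : Ψ w = e0 r := by
      rw [hw, hact _ hbA, hlift, hι1]
      ext i; fin_cases i <;> simp [e0]
    show s (e0 r) ∈ W
    rw [← hΨw, hs]
    exact W.sub_mem hwW hπW
  · intro r
    obtain ⟨b, hb, hρb⟩ := hlo 1
    have hbX : (b : P) ∈ X := by
      rw [hcjE] at hb
      exact mem_subgroupOf.1 hb
    have hloX : ∀ r, ∀ e : E, ρ e = Cfsg.Lib.RootSub.loEl r → (e : P) ∈ X := by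
      intro r e he
      obtain ⟨b', hb', hρb'⟩ := hlo r
      rw [hcjE] at hb'
      rw [ρ.injective (he.trans hρb'.symm)]
      exact mem_subgroupOf.1 hb'
    have hloI : ∀ y ∈ X, ∃ hy : y ∈ E, ∃ r, ρ ⟨y, hy⟩ = Cfsg.Lib.RootSub.loEl r := by
      intro y hy
      refine ⟨hXE hy, ?_⟩
      let f : F → X := fun r => ⟨((hlo r).choose : E), hloX r _ (hlo r).choose_spec.2⟩
      have hf : Function.Injective f := fun r r' hrs => by
        have h0 : (f r : P) = f r' := congrArg Subtype.val hrs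
        have h1 : (hlo r).choose = (hlo r').choose := Subtype.ext h0
        have h3 := (hlo r).choose_spec.2
        rw [h1, (hlo r').choose_spec.2] at h3
        exact (Cfsg.Lib.RootSub.loEl_inj h3).symm
      obtain ⟨r, hr⟩ := ((Nat.bijective_iff_injective_and_card f).2
        ⟨hf, by rw [Nat.card_eq_fintype_card, show Fintype.card F = Nat.card A from hFc, hXdef, card_cj]⟩).2 ⟨y, hy⟩
      refine ⟨r, ?_⟩
      rw [← (hlo r).choose_spec.2]
      exact congrArg ρ (Subtype.ext (congrArg Subtype.val hr).symm)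
    set W := AddSubgroup.closure {w | ∃ a ∈ X, ∃ v, dd φ a v = w}
    have hWd : ∀ μ, ∀ w ∈ W, φ (d μ) w ∈ W := by
      intro μ w hw
      induction hw using AddSubgroup.closure_induction with
      | mem w hw =>
        obtain ⟨a, ha, v, rfl⟩ := hw
        obtain ⟨haE, r', hρa⟩ := hloI a ha
        have h1 : φ (d μ) (dd φ a v) = dd φ (d μ * a * (d μ)⁻¹) (φ (d μ) v) := by
          rw [dd_cj, phi_inv_cancel]
        rw [h1]
        have hmem : ((⟨d μ, hdE μ⟩ * ⟨a, haE⟩ * (⟨d μ, hdE μ⟩)⁻¹ : E) : P) ∈ X :=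
          hloX _ _ (by rw [map_mul, map_mul, map_inv, hρd, hρa, diagEl_conj_lo])
        exact AddSubgroup.subset_closure ⟨_, hmem, _, rfl⟩
      | zero => rw [map_zero]; exact W.zero_mem
      | add u w _ _ hu hw => rw [map_add]; exact W.add_mem hu hw
      | neg u _ hu => rw [map_neg]; exact W.neg_mem hu
    set w := dd φ (b : P) (lift ![r, 0]) with hw
    have hwW : w ∈ W := AddSubgroup.subset_closure ⟨_, hbX, _, rfl⟩
    have hπW : π w ∈ W := by
      rw [hπ]; exact W.neg_mem (AddSubgroup.sum_mem _ fun μ _ => hWd μ w hwW)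
    have hΨw : Ψ w = e1 r := by
      have h1 := hΨ b (lift ![r, 0])
      rw [hρb, hlift, loEl_mulVec] at h1
      rw [hw, dd_apply, map_sub, show Ψ (φ (b : P) (lift ![r, 0])) = ![r, 0 + 1 * r] from h1, hlift]
      ext i; fin_cases i <;> simp [e1]
    show s (e1 r) ∈ W
    rw [← hΨw, hs]
    exact W.sub_mem hwW hπW
  · intro y hy v
    have hyE : y ∈ E := hXE hy
    let w : E := ρ.symm weylEl
    have hρw : ρ w = weylEl := ρ.apply_symm_apply _
    -- the element of `A` corresponding to `y`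
    let f : A → X := fun a => ⟨((w * ⟨a, hAE a.2⟩ * w⁻¹ : E) : P), by
      obtain ⟨haE, hρa⟩ := hι _ a.2
      obtain ⟨b, hb, hρb⟩ := hlo (-ι (a : P))
      rw [hcjE] at hb
      have : (w * ⟨a, hAE a.2⟩ * w⁻¹ : E) = b := ρ.injective (by
        rw [map_mul, map_mul, map_inv, hρw, hρa, hρb, weylEl_conj])
      rw [this]
      exact mem_subgroupOf.1 hb⟩
    have hf : Function.Injective f := fun a a' haa => by
      have h1 : (w * ⟨a, hAE a.2⟩ * w⁻¹ : E) = w * ⟨a', hAE a'.2⟩ * w⁻¹ :=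
        Subtype.ext (congrArg (fun z : X => (z : P)) haa)
      exact Subtype.ext (congrArg (fun z : E => (z : P)) (mul_left_cancel (mul_right_cancel h1)))
    obtain ⟨a, ha⟩ := ((Nat.bijective_iff_injective_and_card f).2
      ⟨hf, by rw [hXdef, card_cj]⟩).2 ⟨y, hy⟩
    refine ⟨a, a.2, φ (w : P)⁻¹ v, ?_⟩
    have e : y = (w : P) * a * (w : P)⁻¹ := (congrArg (fun z : X => (z : P)) ha).symm
    rw [e, dd_cj]
    show π (φ (w : P) _) = _
    set u := dd φ (a : P) (φ (w : P)⁻¹ v)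
    have hfixπ : φ (w : P) (π u) = π u := ((fixA_sup A X).ge (hπmem u)) _ w.2
    conv_rhs => rw [← hfixπ]
    rw [hπ, hπ, map_neg, map_sum]
    congr 1
    conv_rhs => rw [← Equiv.sum_comp (Equiv.inv Fˣ)]
    refine Finset.sum_congr rfl fun μ _ => ?_
    rw [← phi_mul, ← phi_mul]
    congr 2
    have h1 : (⟨d μ, hdE μ⟩ : E) * w = w * ⟨d μ⁻¹, hdE μ⁻¹⟩ := ρ.injective (by
      rw [map_mul, map_mul, hρd, hρd, hρw, weylEl_diag])
    exact congrArg (fun z : E => (z : P)) h1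

end Cfsg.Lib.FFModule
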