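import Cfsg.Agent.PLocal.FFModule.Offender

/-!
The section on which the setting holds: commutator with the residual group modulo its centraliser.
-/

set_option autoImplicit false
set_option linter.unusedSectionVars false
set_option linter.style.haveILetI false

namespace Cfsg.Lib.FFModule

open Subgroup Cfsg.Lib.FFSLTwo

variable {P : Type*} [Group P] [Finite P] {V : Type*} [AddCommGroup V] [Finite V]

/-- the subgroup generated by the elements of order prime to `p` -/
def opN (P : Type*) [Group P] (p : ℕ) : Subgroup P := Subgroup.closure {x | (orderOf x).Coprime p}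

theorem opN_normal (p : ℕ) : (opN P p).Normal := by
  refine ⟨fun x hx k => ?_⟩
  have h : opN P p ≤ (opN P p).comap (MulAut.conj k).toMonoidHom := by
    show Subgroup.closure _ ≤ _
    rw [closure_le]
    intro y hy
    refine subset_closure ?_
    show (orderOf (MulAut.conj k y)).Coprime p
    rw [MulEquiv.orderOf_eq]
    exact hy
  exact h hx

theorem exists_pow_coprime {p : ℕ} [hp : Fact p.Prime] (x : P) :
    ∃ k, (orderOf (x ^ p ^ k)).Coprime p := by
  refine ⟨(orderOf x).factorization p, ?_⟩
  rw [orderOf_pow_of_dvd (pow_ne_zero _ hp.out.ne_zero) (Nat.ordProj_dvd _ _), Nat.coprime_comm,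
    hp.out.coprime_iff_not_dvd]
  exact Nat.not_dvd_ordCompl hp.out (orderOf_pos x).ne'

theorem img_closure_le {φ : P →* AddMonoid.End V} {s : Set P} {U : AddSubgroup V}
    (h : ∀ a ∈ s, ∀ v, dd φ a v ∈ U) : img φ (closure s) ≤ U := by
  let S : Subgroup P :=
    { carrier := {g | ∀ v, dd φ g v ∈ U}
      one_mem' := fun v => by rw [dd_apply, phi_one, sub_self]; exact U.zero_mem
      mul_mem' := fun {a b} ha hb v => by
        rw [show dd φ (a * b) v = dd φ a (φ b v) + dd φ b v by
          rw [dd_apply, dd_apply, dd_apply, phi_mul]; abel]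
        exact U.add_mem (ha _) (hb v)
      inv_mem' := fun {a} ha v => by
        rw [show dd φ a⁻¹ v = -dd φ a (φ a⁻¹ v) by
          rw [dd_apply, dd_apply, phi_cancel_inv]; abel]
        exact U.neg_mem (ha _) }
  have hle : closure s ≤ S := (closure_le _).2 h
  refine (AddSubgroup.closure_le _).2 ?_
  rintro _ ⟨g, hg, v, rfl⟩
  exact hle hg v

theorem img_normal_stable {φ : P →* AddMonoid.End V} {N : Subgroup P} (hN : N.Normal) (k : P)
    {w : V} (hw : w ∈ img φ N) : φ k w ∈ img φ N := by
  have hle : img φ N ≤ (img φ N).comap (φ k : V →+ V) := by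
    refine (AddSubgroup.closure_le _).2 ?_
    rintro _ ⟨g, hg, v, rfl⟩
    show φ k (dd φ g v) ∈ img φ N
    have h1 : dd φ (k * g * k⁻¹) (φ k v) = φ k (dd φ g v) := by rw [dd_cj, phi_inv_cancel]
    rw [← h1]
    exact dd_mem_img (hN.conj_mem g hg k) _
  exact hle hw

theorem fix_normal_stable {φ : P →* AddMonoid.End V} {N : Subgroup P} (hN : N.Normal) (k : P)
    {w : V} (hw : w ∈ fixA φ N) : φ k w ∈ fixA φ N := fun x hx => by
  have h1 := hw (k⁻¹ * x * k) (by simpa using hN.conj_mem x hx k⁻¹)
  rw [phi_mul, phi_mul] at h1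
  have h2 := congrArg (φ k) h1
  rwa [phi_cancel_inv] at h2

variable {p : ℕ} [Fact p.Prime]

/-- elements of order prime to `p` do not move into their fixed points -/
theorem dd_zero_of_coprime {φ : P →* AddMonoid.End V} (hchar : ∀ v : V, p • v = 0) {x : P}
    (hx : (orderOf x).Coprime p) {v : V} (h : φ x (dd φ x v) = dd φ x v) : dd φ x v = 0 := by
  have e : ∀ n : ℕ, φ (x ^ n) v = v + n • dd φ x v := by
    intro n
    induction n with
    | zero => rw [pow_zero, phi_one, zero_smul, add_zero]
    | succ n ih =>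
      rw [pow_succ', phi_mul, ih, map_add, map_nsmul, h, phi_eq_add x v, succ_nsmul]
      abel
  have h1 := e (orderOf x)
  rw [pow_orderOf_eq_one, phi_one, left_eq_add] at h1
  exact AddMonoid.addOrderOf_eq_one_iff.1 (Nat.eq_one_of_dvd_coprimes hx
    (addOrderOf_dvd_of_nsmul_eq_zero h1) (addOrderOf_dvd_of_nsmul_eq_zero (hchar _)))

variable (p) (φ : P →* AddMonoid.End V)

/-- the commutator with the residual group -/
def ys : AddSubgroup V := img φ (opN P p)

/-- its part centralised by the residual group -/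
def zs : AddSubgroup (ys p φ) := (fixA φ (opN P p)).addSubgroupOf (ys p φ)

/-- the section -/
abbrev Sec := ↥(ys p φ) ⧸ zs p φ

/-- the action on the commutator -/
def res (k : P) : ys p φ →+ ys p φ :=
  AddMonoidHom.mk' (fun y => ⟨φ k y, img_normal_stable (opN_normal p) k y.2⟩) fun a b =>
    Subtype.ext (map_add (φ k) (a : V) (b : V))

/-- the action on the section -/
def act : P →* AddMonoid.End (Sec p φ) where
  toFun k := QuotientAddGroup.map (zs p φ) (zs p φ) (res p φ k) fun y hy =>
    AddSubgroup.mem_comap.2 (AddSubgroup.mem_addSubgroupOf.2 (show φ k (y : V) ∈ fixA φ (opN P p) from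
      fix_normal_stable (opN_normal p) k (AddSubgroup.mem_addSubgroupOf.1
        (show y ∈ (fixA φ (opN P p)).addSubgroupOf (ys p φ) from hy))))
  map_one' := DFunLike.ext (F := AddMonoid.End (Sec p φ)) _ _ fun x => by
    induction x using QuotientAddGroup.induction_on with
    | _ v =>
      show QuotientAddGroup.mk (res p φ 1 v) = QuotientAddGroup.mk v
      exact congrArg _ (Subtype.ext (phi_one (φ := φ) (v : V)))
  map_mul' a b := DFunLike.ext (F := AddMonoid.End (Sec p φ)) _ _ fun x => by
    induction x using QuotientAddGroup.induction_on with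
    | _ v =>
      show QuotientAddGroup.mk (res p φ (a * b) v) = QuotientAddGroup.mk (res p φ a (res p φ b v))
      exact congrArg _ (Subtype.ext (phi_mul (φ := φ) a b (v : V)))

/-- the class of a vector -/
def cls : ys p φ →+ Sec p φ := QuotientAddGroup.mk' (zs p φ)

theorem cls_surj : Function.Surjective (cls p φ) := QuotientAddGroup.mk'_surjective _

theorem cls_eq_zero {y : ys p φ} : cls p φ y = 0 ↔ (y : V) ∈ fixA φ (opN P p) :=
  (QuotientAddGroup.eq_zero_iff y).trans AddSubgroup.mem_addSubgroupOf

theorem act_cls (k : P) (y : ys p φ) : act p φ k (cls p φ y) = cls p φ (res p φ k y) := rfl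

theorem res_coe (k : P) (y : ys p φ) : ((res p φ k y : ys p φ) : V) = φ k (y : V) := rfl

theorem dd_mem_ys (k : P) (y : ys p φ) : dd φ k (y : V) ∈ ys p φ := by
  rw [dd_apply]
  exact AddSubgroup.sub_mem _ (res p φ k y).2 y.2

theorem dd_cls (k : P) (y : ys p φ) :
    dd (act p φ) k (cls p φ y) = cls p φ ⟨dd φ k (y : V), dd_mem_ys p φ k y⟩ := by
  rw [dd_apply, act_cls, ← map_sub]
  rfl

theorem act_fix_iff (k : P) (y : ys p φ) :
    act p φ k (cls p φ y) = cls p φ y ↔ dd φ k (y : V) ∈ fixA φ (opN P p) := by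
  rw [← dd_eq_zero, dd_cls, cls_eq_zero]

variable {p} {φ}

/-- fixed vectors give fixed classes -/
theorem cls_mem_fix {D : Subgroup P} {y : ys p φ} (h : (y : V) ∈ fixA φ D) :
    cls p φ y ∈ fixA (act p φ) D := fun d hd => (act_fix_iff p φ d y).2 (by
  rw [dd_eq_zero.2 (h d hd)]; exact AddSubgroup.zero_mem _)

/-- offenders pass to the section -/
theorem index_le (D : Subgroup P) :
    (fixA (act p φ) D).index ≤ (fixA φ D).relIndex (ys p φ) ∧
      (fixA φ D).relIndex (ys p φ) ≤ (fixA φ D).index := by
  refine ⟨?_, Nat.le_of_dvd (Nat.pos_of_ne_zero AddSubgroup.index_ne_zero_of_finite)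
    (AddSubgroup.relIndex_dvd_index_of_normal _ _)⟩
  rw [← AddSubgroup.index_comap_of_surjective (H := fixA (act p φ) D) (f := cls p φ) (cls_surj p φ)]
  refine Nat.le_of_dvd (Nat.pos_of_ne_zero AddSubgroup.index_ne_zero_of_finite) ?_
  refine AddSubgroup.index_dvd_of_le fun y hy => ?_
  exact cls_mem_fix (AddSubgroup.mem_addSubgroupOf.1 hy)

/-- the setting holds on the section -/
theorem ctx_section (hinj : Function.Injective φ) (hchar : ∀ v : V, p • v = 0)
    (hpmin : Cfsg.IsPMinimal p P) (hcore : Cfsg.pCore p P = ⊥) : Ctx p (act p φ) := by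
  have hp := (Fact.out : p.Prime)
  have hcharS : ∀ x : Sec p φ, p • x = 0 := fun x => by
    obtain ⟨y, rfl⟩ := cls_surj p φ x
    rw [← map_nsmul, show p • y = 0 from Subtype.ext (hchar (y : V)), map_zero]
  have hgen : ∀ {x : P}, (orderOf x).Coprime p → x ∈ opN P p := fun hx => subset_closure hx
  have hkerN : ∀ x : P, (orderOf x).Coprime p → act p φ x = 1 → x = 1 := by
    intro x hx h1
    have hY : ∀ y : ys p φ, φ x (y : V) = (y : V) := fun y => by
      refine dd_eq_zero.1 (dd_zero_of_coprime hchar hx ?_)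
      exact (act_fix_iff p φ x y).1 (by rw [h1]; rfl) x (hgen hx)
    refine hinj (DFunLike.ext (F := AddMonoid.End V) _ _ fun v => ?_)
    show φ x v = φ (1 : P) v
    rw [phi_one]
    refine dd_eq_zero.1 (dd_zero_of_coprime hchar hx ?_)
    exact hY ⟨dd φ x v, dd_mem_img (hgen hx) v⟩
  have hinjS : Function.Injective (act p φ) := by
    refine (MonoidHom.ker_eq_bot_iff _).1 (le_bot_iff.1 (hcore ▸ le_sSup ⟨inferInstance, ?_⟩))
    rintro ⟨g, hg⟩
    obtain ⟨k, hk⟩ := exists_pow_coprime (p := p) g
    refine ⟨k, Subtype.ext (hkerN _ hk ?_)⟩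
    show act p φ (g ^ p ^ k) = 1
    rw [map_pow, (hg : act p φ g = 1), one_pow]
  refine ⟨hinjS, hcharS, hpmin, hcore, fun x hx => ?_, fun f hf => ?_, ?_⟩
  · obtain ⟨y, rfl⟩ := cls_surj p φ x
    rw [cls_eq_zero]
    have hle : opN P p ≤ (⊤ : Subgroup P) := le_top
    let S : Subgroup P :=
      { carrier := {g | φ g (y : V) = y}
        one_mem' := phi_one _
        mul_mem' := fun {a b} ha hb => by
          show φ (a * b) (y : V) = y
          rw [phi_mul, show φ b (y : V) = y from hb, show φ a (y : V) = y from ha]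
        inv_mem' := fun {a} ha => by
          show φ a⁻¹ (y : V) = y
          conv_lhs => rw [← (show φ a (y : V) = y from ha)]
          exact phi_inv_cancel a (y : V) }
    have hS : opN P p ≤ S := by
      show Subgroup.closure _ ≤ S
      rw [closure_le]
      intro g hg
      exact dd_eq_zero.1 (dd_zero_of_coprime hchar hg
        ((act_fix_iff p φ g y).1 (hx g (mem_top g)) g (hgen hg)))
    exact fun g hg => hS hg
  · have hinv : ∀ g y, f (cls p φ (res p φ g y)) = f (cls p φ y) := fun g y => by
      have h1 := dual_fix_iff.1 hf g (mem_top g) (cls p φ y)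
      rw [dd_apply, map_sub, sub_eq_zero, act_cls] at h1
      exact h1
    let U : AddSubgroup V := ((f.comp (cls p φ)).ker).map (ys p φ).subtype
    have hU : ys p φ ≤ U := by
      refine img_closure_le fun x (hx : (orderOf x).Coprime p) v => ?_
      set w : ys p φ := ⟨dd φ x v, dd_mem_img (hgen hx) v⟩ with hw
      refine ⟨w, ?_, rfl⟩
      show f (cls p φ w) = 0
      have key : ∀ m : ℕ, ∀ h : φ (x ^ m) v - v ∈ ys p φ,
          f (cls p φ ⟨φ (x ^ m) v - v, h⟩) = m • f (cls p φ w) := by
        intro m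
        induction m with
        | zero =>
          intro h
          rw [zero_smul, show (⟨φ (x ^ 0) v - v, h⟩ : ys p φ) = 0 from
            Subtype.ext (by show φ (x ^ 0) v - v = 0; rw [pow_zero, phi_one, sub_self]), map_zero, map_zero]
        | succ m ih =>
          intro h
          have hm : φ (x ^ m) v - v ∈ ys p φ := by
            rw [← dd_apply]; exact dd_mem_img (pow_mem (hgen hx) m) v
          rw [show (⟨φ (x ^ (m + 1)) v - v, h⟩ : ys p φ) = res p φ x ⟨φ (x ^ m) v - v, hm⟩ + w from
            Subtype.ext (by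
              show φ (x ^ (m + 1)) v - v = φ x (φ (x ^ m) v - v) + dd φ x v
              rw [pow_succ', phi_mul, map_sub, dd_apply]; abel),
            map_add, map_add, hinv, ih hm, succ_nsmul]
      have h0 : φ (x ^ orderOf x) v - v = 0 := by rw [pow_orderOf_eq_one, phi_one, sub_self]
      have h1 := key (orderOf x) (h0 ▸ AddSubgroup.zero_mem _)
      rw [show (⟨φ (x ^ orderOf x) v - v, h0 ▸ AddSubgroup.zero_mem _⟩ : ys p φ) = 0 from Subtype.ext h0,
        map_zero, map_zero] at h1
      exact AddMonoid.addOrderOf_eq_one_iff.1 (Nat.eq_one_of_dvd_coprimes hx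
        (addOrderOf_dvd_of_nsmul_eq_zero h1.symm) (addOrderOf_dvd_of_nsmul_eq_zero (by simp)))
    refine AddMonoidHom.ext fun x => ?_
    obtain ⟨y, rfl⟩ := cls_surj p φ x
    obtain ⟨z, hz, hze⟩ := hU y.2
    rw [← show z = y from Subtype.ext hze]
    exact hz
  · by_contra hne
    haveI : Subsingleton (Sec p φ) := not_nontrivial_iff_subsingleton.1 hne
    obtain ⟨S⟩ : Nonempty (Sylow p P) := inferInstance
    haveI : Subsingleton P := ⟨fun a b => hinjS (DFunLike.ext (F := AddMonoid.End (Sec p φ)) _ _
      fun _ => Subsingleton.elim _ _)⟩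
    exact (hpmin S).1 ⟨fun n hn k => by rwa [Subsingleton.elim (k * n * k⁻¹) n]⟩

end Cfsg.Lib.FFModule
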