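import Cfsg.Agent.PLocal.FFModule.Bridge

/-!
The decomposition read inside the acting group.
-/

set_option autoImplicit false
set_option linter.unusedSectionVars false
set_option linter.style.haveILetI false

namespace Cfsg.Lib.FFModule

open Subgroup Cfsg.Lib.FFSLTwo
open scoped commutatorElement

variable {G : Type*} [Group G] [Finite G] {V G₀ : Subgroup G}
variable {P : Type*} [Group P] [Finite P] {W : Type*} [AddCommGroup W] [Finite W]
variable {φ : P →* AddMonoid.End W} {f : G₀ →* P} {e : Additive V ≃+ W}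

namespace Bridge

variable (br : Bridge φ f e)
include br

theorem up_bot_le : up f (⊥ : Subgroup P) ≤ Subgroup.centralizer (V : Set G) := fun x hx => by
  obtain ⟨hx₀, h⟩ := mem_up.1 hx
  exact (br.kernel hx₀).1 (mem_bot.1 h)

theorem centralizer_le_up (hC : Subgroup.centralizer (V : Set G) ≤ G₀) (E : Subgroup P) :
    Subgroup.centralizer (V : Set G) ≤ up f E := fun x hx =>
  mem_up.2 ⟨hC hx, by rw [(br.kernel (hC hx)).2 hx]; exact E.one_mem⟩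

theorem up_iSup {ι : Type*} [Nonempty ι] (E : ι → Subgroup P) :
    up f (⨆ i, E i) = ⨆ i, up f (E i) := by
  refine le_antisymm ?_ (iSup_le fun i => up_mono (le_iSup E i))
  intro x hx
  obtain ⟨hx₀, h⟩ := mem_up.1 hx
  set H := (⨆ i, up f (E i)).subgroupOf G₀
  have hker : f.ker ≤ H := fun y hy => by
    obtain ⟨i⟩ := (inferInstance : Nonempty ι)
    refine mem_subgroupOf.2 (le_iSup (fun i => up f (E i)) i (mem_up.2 ⟨y.2, ?_⟩))
    rw [show f ⟨y, y.2⟩ = 1 from hy]; exact (E i).one_mem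
  have hle : (⨆ i, E i) ≤ H.map f := iSup_le fun i a ha => by
    obtain ⟨y, rfl⟩ := br.surj a
    exact ⟨y, mem_subgroupOf.2 (le_iSup (fun i => up f (E i)) i (mem_up.2 ⟨y.2, ha⟩)), rfl⟩
  obtain ⟨y, hy, hye⟩ := hle h
  have h1 : y⁻¹ * ⟨x, hx₀⟩ ∈ f.ker := by rw [MonoidHom.mem_ker, map_mul, map_inv, hye, inv_mul_cancel]
  have h2 := H.mul_mem hy (hker h1)
  rw [mul_inv_cancel_left] at h2
  exact mem_subgroupOf.1 h2

/-- the decomposition inside `G` -/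
theorem translate {p q r : ℕ} {T : Subgroup P} {E : Fin r → Subgroup P}
    (hd : Decomp p q φ T r E) (Tg : Subgroup G)
    (hT : ∀ t ∈ T, ∃ g, g ∈ Tg ∧ ∃ h : g ∈ G₀, f ⟨g, h⟩ = t) :
    (∀ i j, i ≠ j → ⁅up f (E i), up f (E j)⁆ ≤ Subgroup.centralizer (V : Set G)) ∧
    (∀ i, up f (E i) ⊓ (⨆ j ∈ {j | j ≠ i}, up f (E j)) ≤ Subgroup.centralizer (V : Set G)) ∧
    (G₀ ≤ (⨆ i, up f (E i)) ⊔ Tg) ∧
    (∀ i j, ∃ t ∈ Tg, (up f (E i)).map (MulAut.conj t).toMonoidHom = up f (E j)) ∧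
    (V ⊓ Subgroup.centralizer (((⨆ i, up f (E i)) : Subgroup G) : Set G)) ⊔
        (⨆ i, ⁅V, up f (E i)⁆) = V ∧
    (∀ i j, i ≠ j → ⁅⁅V, up f (E i)⁆, up f (E j)⁆ = ⊥) := by
  classical
  haveI : Nonempty (Fin r) := ⟨⟨0, hd.pos⟩⟩
  refine ⟨fun i j hij => Subgroup.commutator_le.2 fun x hx y hy => br.up_bot_le ?_, fun i => ?_, ?_,
    fun i j => ?_, ?_, fun i j hij => ?_⟩
  · obtain ⟨hx₀, hxE⟩ := mem_up.1 hx
    obtain ⟨hy₀, hyE⟩ := mem_up.1 hy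
    refine mem_up.2 ⟨?_, ?_⟩
    · rw [commutatorElement_def]
      exact mul_mem (mul_mem (mul_mem hx₀ hy₀) (inv_mem hx₀)) (inv_mem hy₀)
    · rw [mem_bot, show (⟨⁅x, y⁆, _⟩ : G₀) = ⁅(⟨x, hx₀⟩ : G₀), ⟨y, hy₀⟩⁆ from Subtype.ext rfl,
        map_commutatorElement, commutatorElement_eq_one_iff_mul_comm]
      exact hd.comm hij _ hxE _ hyE
  · refine le_trans ?_ br.up_bot_le
    intro x hx
    obtain ⟨hx₀, hxE⟩ := mem_up.1 hx.1
    have hle : (⨆ j ∈ {j | j ≠ i}, up f (E j)) ≤ up f (⨆ j ∈ {j | j ≠ i}, E j) :=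
      iSup₂_le fun j hj => up_mono (le_iSup₂_of_le j hj le_rfl)
    obtain ⟨_, hxs⟩ := mem_up.1 (hle hx.2)
    exact mem_up.2 ⟨hx₀, hd.inf i ▸ ⟨hxE, hxs⟩⟩
  · intro x hx
    set H := ((⨆ i, up f (E i)) ⊔ Tg).subgroupOf G₀
    have hker : f.ker ≤ H := fun y hy => mem_subgroupOf.2 (mem_sup_left
      (le_iSup (fun i => up f (E i)) ⟨0, hd.pos⟩ (mem_up.2 ⟨y.2, by
        rw [show f ⟨y, y.2⟩ = 1 from hy]; exact Subgroup.one_mem _⟩)))
    have hle : (⨆ i, E i) ⊔ T ≤ H.map f := by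
      refine _root_.sup_le (iSup_le fun i a ha => ?_) fun t ht => ?_
      · obtain ⟨y, rfl⟩ := br.surj a
        exact ⟨y, mem_subgroupOf.2 (mem_sup_left
          (le_iSup (fun i => up f (E i)) i (mem_up.2 ⟨y.2, ha⟩))), rfl⟩
      · obtain ⟨g, hg, h, he⟩ := hT t ht
        exact ⟨⟨g, h⟩, mem_subgroupOf.2 (mem_sup_right hg), he⟩
    obtain ⟨y, hy, hye⟩ := hle (hd.gen ▸ mem_top (f ⟨x, hx⟩))
    have h1 : y⁻¹ * ⟨x, hx⟩ ∈ f.ker := by rw [MonoidHom.mem_ker, map_mul, map_inv, hye, inv_mul_cancel]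
    have h2 := H.mul_mem hy (hker h1)
    rw [mul_inv_cancel_left] at h2
    exact mem_subgroupOf.1 h2
  · obtain ⟨t, ht, hij⟩ := hd.trans i j
    obtain ⟨g, hg, hg₀, rfl⟩ := hT t ht
    refine ⟨g, hg, ?_⟩
    ext x
    constructor
    · rintro ⟨y, hy, rfl⟩
      obtain ⟨hy₀, hyE⟩ := mem_up.1 hy
      refine mem_up.2 ⟨mul_mem (mul_mem hg₀ hy₀) (inv_mem hg₀), ?_⟩
      rw [← hij]
      have e' : f ⟨g * y * g⁻¹, mul_mem (mul_mem hg₀ hy₀) (inv_mem hg₀)⟩ =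
          f ⟨g, hg₀⟩ * f ⟨y, hy₀⟩ * (f ⟨g, hg₀⟩)⁻¹ := by
        rw [← map_inv, ← map_mul, ← map_mul]; rfl
      show f ⟨g * y * g⁻¹, _⟩ ∈ _
      rw [e']
      exact conj_mem_cj hyE
    · intro hx
      obtain ⟨hx₀, hxE⟩ := mem_up.1 hx
      refine ⟨g⁻¹ * x * g, mem_up.2 ⟨mul_mem (mul_mem (inv_mem hg₀) hx₀) hg₀, ?_⟩, by simp [mul_assoc]⟩
      rw [← hij, mem_cj, ← map_inv, ← map_mul, ← map_mul] at hxE
      exact hxE
  · refine le_antisymm (_root_.sup_le inf_le_left (iSup_le fun i => by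
      rw [br.commutator (E i)]; exact pull_le _)) ?_
    intro x hx
    rw [← br.up_iSup, br.inf_centralizer]
    simp only [br.commutator]
    refine br.pull_sup_le (U := (⊤ : AddSubgroup W)) (fixA φ (⨆ i, E i)) (fun i => img φ (E i))
      hd.split.ge le_sup_left (fun i => le_sup_of_le_right (le_iSup (fun i => pull e (img φ (E i))) i))
      (mem_pull.2 ⟨hx, AddSubgroup.mem_top _⟩)
  · rw [br.commutator (E i), Subgroup.commutator_eq_bot_iff_le_centralizer]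
    intro x hx
    obtain ⟨hxV, hx'⟩ := mem_pull.1 hx
    rw [Subgroup.mem_centralizer_iff]
    intro y hy
    obtain ⟨hy₀, hyE⟩ := mem_up.1 hy
    exact (br.fix_iff ⟨y, hy₀⟩ ⟨x, hxV⟩).1 (hd.zero hij _ hyE _ hx')

end Bridge

end Cfsg.Lib.FFModule
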