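import Cfsg.Agent.PLocal.FFModule.Lines

/-!
Pairwise non-commuting members of order two generate a symmetric group on its natural module.
-/

set_option autoImplicit false
set_option linter.unusedSectionVars false
set_option linter.style.haveILetI false

namespace Cfsg.Lib.FFModule

open Subgroup Cfsg.Lib.FFSLTwo

variable {P : Type*} [Group P] [Finite P] {V : Type*} [AddCommGroup V] [Finite V]
variable {p : ℕ} [Fact p.Prime] {φ : P →* AddMonoid.End V}
variable {q : ℕ} {𝓜 : Subgroup P → Prop}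

/-- the span of the images -/
def img (φ : P →* AddMonoid.End V) (E : Subgroup P) : AddSubgroup V :=
  AddSubgroup.closure {w | ∃ g ∈ E, ∃ v, dd φ g v = w}

theorem dd_mem_img {E : Subgroup P} {g : P} (hg : g ∈ E) (v : V) : dd φ g v ∈ img φ E :=
  AddSubgroup.subset_closure ⟨g, hg, v, rfl⟩

theorem img_stable {E : Subgroup P} {g : P} (hg : g ∈ E) {w : V} (hw : w ∈ img φ E) :
    φ g w ∈ img φ E := by
  rw [phi_eq_add]
  exact (img φ E).add_mem hw (dd_mem_img hg w)

/-- images of generators control images -/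
theorem img_sSup_le {s : Set (Subgroup P)} {U : AddSubgroup V}
    (h : ∀ x ∈ s, ∀ a ∈ x, ∀ v, dd φ a v ∈ U) : img φ (sSup s) ≤ U := by
  let S : Subgroup P :=
    { carrier := {g | ∀ v, dd φ g v ∈ U}
      one_mem' := fun v => by rw [dd_apply, phi_one, sub_self]; exact U.zero_mem
      mul_mem' := fun {a b} ha hb v => by
        rw [show dd φ (a * b) v = dd φ a (φ b v) + dd φ b v by
          rw [dd_apply, dd_apply, dd_apply, phi_mul]; abel]
        exact U.add_mem (ha _) (hb v)
      inv_mem' := fun {a} ha v => by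
        rw [show dd φ a⁻¹ v = -dd φ a (φ a⁻¹ v) by
          rw [dd_apply, dd_apply, phi_cancel_inv]; abel]
        exact U.neg_mem (ha _) }
  have hle : sSup s ≤ S := sSup_le fun x hx a ha => h x hx a ha
  refine (AddSubgroup.closure_le _).2 ?_
  rintro _ ⟨g, hg, v, rfl⟩
  exact hle hg v

theorem mem_fixA_sSup {s : Set (Subgroup P)} {v : V} :
    v ∈ fixA φ (sSup s) ↔ ∀ x ∈ s, v ∈ fixA φ x := by
  constructor
  · exact fun h x hx => fixA_anti (le_sSup hx) h
  · intro h
    let S : Subgroup P :=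
      { carrier := {g | φ g v = v}
        one_mem' := phi_one v
        mul_mem' := fun {a b} ha hb => by
          show φ (a * b) v = v
          rw [phi_mul, show φ b v = v from hb, show φ a v = v from ha]
        inv_mem' := fun {a} ha => by
          show φ a⁻¹ v = v
          conv_lhs => rw [← (show φ a v = v from ha)]
          exact phi_inv_cancel a v }
    exact fun g hg => (sSup_le fun x hx a ha => h x hx a ha : sSup s ≤ S) hg

theorem FF.char_two (ff : FF p φ q 𝓜) {A : Subgroup P} (hA : 𝓜 A) (hq : q = 2) : p = 2 := by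
  obtain ⟨a, ha, ha1⟩ := ff.exists_ne_one hA
  have h1 : orderOf (⟨a, ha⟩ : A) = p :=
    orderOf_eq_prime (Subtype.ext ((ff.el hA).2 a ha)) (fun h => ha1 (congrArg Subtype.val h))
  have h2 := orderOf_dvd_natCard (⟨a, ha⟩ : A)
  rw [h1, ff.card hA, hq] at h2
  exact (Nat.prime_dvd_prime_iff_eq (Fact.out : p.Prime) Nat.prime_two).1 h2

/-- a member of order two is generated by a transvection -/
theorem FF.transvection (ff : FF p φ q 𝓜) {A : Subgroup P} (hA : 𝓜 A) (hq : q = 2) :
    ∃ t ∈ A, t ≠ 1 ∧ (∀ a ∈ A, a = 1 ∨ a = t) ∧ ∃ w : V, w ≠ 0 ∧ w + w = 0 ∧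
      ∃ f : V →+ ZMod 2, (∀ v, f v = 0 ↔ v ∈ fixA φ A) ∧ (∀ v, f v = 0 → dd φ t v = 0) ∧
        ∀ v, f v = 1 → dd φ t v = w := by
  classical
  obtain ⟨t, ht, ht1⟩ := ff.exists_ne_one hA
  obtain ⟨v₁, hv₁⟩ := ff.exists_ne_zero hA ht ht1
  have hchar : ∀ v : V, v + v = 0 := fun v => by
    rw [← two_nsmul, ← ff.char_two hA hq]; exact ff.char v
  refine ⟨t, ht, ht1, fun a ha => ?_, dd φ t v₁, hv₁, hchar _, ?_⟩
  · by_contra h
    push Not at h
    have h1 : ({1, t, a} : Set P) ⊆ A := by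
      rintro z (rfl | rfl | rfl)
      exacts [one_mem _, ht, ha]
    have h2 := Set.ncard_le_ncard h1 (Set.toFinite _)
    rw [← Nat.card_coe_set_eq (s := (A : Set P)), Set.ncard_insert_of_notMem (by simp [Ne.symm ht1, Ne.symm h.1]),
      Set.ncard_pair (Ne.symm h.2)] at h2
    change _ ≤ Nat.card A at h2
    rw [ff.card hA] at h2
    omega
  have hidx : (fixA φ A).index = 2 := (ff.index hA).trans hq
  have hadd : ∀ u v : V, u + v ∈ fixA φ A ↔ (u ∈ fixA φ A ↔ v ∈ fixA φ A) :=
    fun u v => AddSubgroup.add_mem_iff_of_index_two hidx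
  refine ⟨AddMonoidHom.mk' (fun v => if v ∈ fixA φ A then (0 : ZMod 2) else 1) fun u v => ?_,
    fun v => ?_, fun v hv => ?_, fun v hv => ?_⟩
  · by_cases hu : u ∈ fixA φ A <;> by_cases hv : v ∈ fixA φ A <;> simp [hadd, hu, hv] <;> decide
  · show (if v ∈ fixA φ A then (0 : ZMod 2) else 1) = 0 ↔ _
    split_ifs with h <;> simp [h]
  · have h : v ∈ fixA φ A := by
      by_contra h
      change (if v ∈ fixA φ A then (0 : ZMod 2) else 1) = 0 at hv
      rw [if_neg h] at hv
      exact one_ne_zero hv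
    exact dd_eq_zero.2 (h t ht)
  · have h : v ∉ fixA φ A := fun h => by
      change (if v ∈ fixA φ A then (0 : ZMod 2) else 1) = 1 at hv
      rw [if_pos h] at hv
      exact zero_ne_one hv
    have h' : v₁ ∉ fixA φ A := fun h' => hv₁ (dd_eq_zero.2 (h' t ht))
    have h2 : dd φ t (v + v₁) = 0 := dd_eq_zero.2 ((hadd v v₁).2 (iff_of_false h h') t ht)
    rw [map_add] at h2
    rw [eq_neg_of_add_eq_zero_left h2, neg_eq_iff_add_eq_zero]
    exact hchar _

/-- pairwise non-commuting members of order two, with their transpositions -/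
theorem FF.perm_swap (ff : FF p φ q 𝓜) (hq : q = 2) {D : Set (Subgroup P)} (hD : ∀ x ∈ D, 𝓜 x)
    (hnc : ∀ x ∈ D, ∀ y ∈ D, x ≠ y → ¬ Comm x y) {n : ℕ} (hn : 1 ≤ n)
    (hcard : Nat.card D = 2 ^ n) :
    ∃ (ρ : ↥(sSup D) ≃* Equiv.Perm (Fin (2 ^ n + 1))) (Ψ : V →+ (Fin (2 ^ n + 1) → ZMod 2))
      (o : Fin (2 ^ n + 1)) (ι : D → Fin (2 ^ n + 1)),
      (∀ v, ∑ i, Ψ v i = 0) ∧
      (∀ z : Fin (2 ^ n + 1) → ZMod 2, ∑ i, z i = 0 → ∃ u ∈ img φ (sSup D), Ψ u = z) ∧
      (∀ v, Ψ v = 0 ↔ v ∈ fixA φ (sSup D)) ∧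
      (∀ (g : ↥(sSup D)) v i, Ψ (φ (g : P) v) i = Ψ v ((ρ g)⁻¹ i)) ∧
      (∀ v ∈ img φ (sSup D), Ψ v = 0 → v = 0) ∧ Function.Injective ι ∧ (∀ x, ι x ≠ o) ∧
      ∀ (x : D) (a : P) (ha : a ∈ (x : Subgroup P)), a ≠ 1 →
        ρ ⟨a, le_sSup x.2 ha⟩ = Equiv.swap o (ι x) := by
  classical
  haveI : Fintype D := Fintype.ofFinite _
  have hDc : Fintype.card D = 2 ^ n := by rw [← Nat.card_eq_fintype_card]; exact hcard
  choose t ht ht1 htA w hw hw2 f hf hf0 hf1 using fun x : D => ff.transvection (hD x x.2) hq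
  have hfw : ∀ x y : D, f y (w x) = if x = y then 0 else 1 := by
    intro x y
    obtain ⟨v, hv⟩ := ff.exists_ne_zero (hD x x.2) (ht x) (ht1 x)
    have hwx : dd φ (t x) v = w x := by
      rcases (by decide : ∀ a : ZMod 2, a = 0 ∨ a = 1) (f x v) with h | h
      · exact absurd (hf0 x v h) hv
      · exact hf1 x v h
    split_ifs with hxy
    · subst hxy
      rw [hf, ← hwx]
      exact ff.dd_mem (hD x x.2) (ht x) v
    · rcases (by decide : ∀ a : ZMod 2, a = 0 ∨ a = 1) (f y (w x)) with h | h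
      · exfalso
        refine hnc x x.2 y y.2 (fun he => hxy (Subtype.ext he))
          (ff.comm_of_image (hD x x.2) (hD y y.2) (ht x) (v := v) ?_ hv)
        rw [hwx]; exact (hf y _).1 h
      · exact h
  set E := sSup D with hE
  have hfixE : ∀ v, v ∈ fixA φ E ↔ ∀ x, f x v = 0 := fun v => by
    rw [hE, mem_fixA_sSup]
    exact ⟨fun h x => (hf x v).2 (h x x.2), fun h x hx => (hf ⟨x, hx⟩ v).1 (h ⟨x, hx⟩)⟩
  have htwo : ∀ a : ZMod 2, a + a = 0 := by decide
  -- the coordinates
  let Ψ₀ : V →+ (Option D → ZMod 2) := AddMonoidHom.mk'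
    (fun v o => o.elim (∑ x, f x v) fun x => (∑ x, f x v) + f x v) fun u v => by
      funext o
      cases o <;> simp [Finset.sum_add_distrib, add_add_add_comm]
  have hnone : ∀ v, Ψ₀ v none = ∑ x, f x v := fun v => rfl
  have hsome : ∀ v x, Ψ₀ v (some x) = (∑ x, f x v) + f x v := fun v x => rfl
  have hevenD : ((2 ^ n : ℕ) : ZMod 2) = 0 := by
    rw [ZMod.natCast_eq_zero_iff]
    exact dvd_pow_self 2 (by omega)
  have hsum0 : ∀ v, ∑ o, Ψ₀ v o = 0 := fun v => by
    rw [Fintype.sum_option, hnone]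
    simp only [hsome, Finset.sum_add_distrib, Finset.sum_const, Finset.card_univ, hDc, nsmul_eq_mul,
      hevenD, zero_mul, zero_add]
    exact htwo _
  have hΨw : ∀ x o, Ψ₀ (w x) o = if o = none ∨ o = some x then 1 else 0 := by
    intro x o
    have hS : ∑ y, f y (w x) = 1 := by
      have h1 : (∑ y, f y (w x)) + 1 = 0 := by
        have h2 : ∀ y, f y (w x) = 1 + (if x = y then 1 else 0) := fun y => by
          rw [hfw]; split_ifs <;> decide
        simp only [h2, Finset.sum_add_distrib, Finset.sum_const, Finset.card_univ, hDc, nsmul_eq_mul,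
          hevenD, zero_mul, zero_add, Finset.sum_ite_eq, Finset.mem_univ, if_true]
        decide
      calc ∑ y, f y (w x) = (∑ y, f y (w x)) + 1 + 1 := by rw [add_assoc, htwo, add_zero]
        _ = 1 := by rw [h1, zero_add]
    cases o with
    | none => rw [hnone, hS, if_pos (Or.inl rfl)]
    | some y =>
      rw [hsome, hS, hfw]
      by_cases hxy : x = y
      · subst hxy; simp
      · simp [hxy, Ne.symm hxy, htwo]
  have hker : ∀ v, Ψ₀ v = 0 ↔ v ∈ fixA φ E := by
    intro v
    rw [hfixE]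
    constructor
    · intro h x
      have h1 := congrFun h (some x)
      have h2 := congrFun h none
      rw [hnone] at h2
      rw [hsome, h2] at h1
      simpa using h1
    · intro h
      funext o
      cases o with
      | none => rw [hnone]; simp [h]
      | some x => rw [hsome]; simp [h]
  -- the inverse map
  let Φ : (Option D → ZMod 2) → V := fun z => ∑ x, if z (some x) = 0 then 0 else w x
  have hΦadd : ∀ z z', Φ (z + z') = Φ z + Φ z' := fun z z' => by
    show (∑ x, _) = (∑ x, _) + ∑ x, _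
    rw [← Finset.sum_add_distrib]
    refine Finset.sum_congr rfl fun x _ => ?_
    show (if z (some x) + z' (some x) = 0 then (0 : V) else w x) = _
    rcases (by decide : ∀ a : ZMod 2, a = 0 ∨ a = 1) (z (some x)) with h | h <;>
      rcases (by decide : ∀ a : ZMod 2, a = 0 ∨ a = 1) (z' (some x)) with h' | h' <;>
      simp [h, h', htwo, hw2]
  let Φh : (Option D → ZMod 2) →+ V := AddMonoidHom.mk' Φ hΦadd
  have hΦw : ∀ x, Φh (Ψ₀ (w x)) = w x := fun x => by
    show ∑ y, (if Ψ₀ (w x) (some y) = 0 then (0 : V) else w y) = w x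
    rw [Finset.sum_eq_single x]
    · rw [hΨw, if_pos (Or.inr rfl), if_neg one_ne_zero]
    · intro y _ hy
      simp [hΨw, hy]
    · exact fun h => absurd (Finset.mem_univ x) h
  have himg : ∀ v ∈ img φ E, Φh (Ψ₀ v) = v := by
    intro v hv
    have hle : img φ E ≤ (Φh.comp Ψ₀).eqLocus (AddMonoidHom.id V) := by
      rw [hE]
      refine img_sSup_le fun x hx a ha u => ?_
      show Φh (Ψ₀ (dd φ a u)) = dd φ a u
      rcases htA ⟨x, hx⟩ a ha with rfl | rfl
      · rw [dd_apply, phi_one, sub_self, map_zero, map_zero]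
      · rcases (by decide : ∀ a : ZMod 2, a = 0 ∨ a = 1) (f ⟨x, hx⟩ u) with h | h
        · rw [hf0 _ _ h, map_zero, map_zero]
        · rw [hf1 _ _ h, hΦw]
    exact hle hv
  have hwimg : ∀ x, w x ∈ img φ E := fun x => by
    obtain ⟨v, hv⟩ := ff.exists_ne_zero (hD x x.2) (ht x) (ht1 x)
    have hwx : dd φ (t x) v = w x := by
      rcases (by decide : ∀ a : ZMod 2, a = 0 ∨ a = 1) (f x v) with h | h
      · exact absurd (hf0 x v h) hv
      · exact hf1 x v h
    exact hwx ▸ dd_mem_img (le_sSup x.2 (ht x)) v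
  have hsurj : ∀ z : Option D → ZMod 2, ∑ o, z o = 0 → ∃ u ∈ img φ E, Ψ₀ u = z := by
    intro z hz
    refine ⟨Φ z, AddSubgroup.sum_mem _ fun x _ => ?_, ?_⟩
    · split_ifs
      exacts [(img φ E).zero_mem, hwimg x]
    funext o
    rw [map_sum, Finset.sum_apply]
    have h1 : ∀ x, Ψ₀ (if z (some x) = 0 then (0 : V) else w x) o =
        z (some x) * if o = none ∨ o = some x then 1 else 0 := fun x => by
      rcases (by decide : ∀ a : ZMod 2, a = 0 ∨ a = 1) (z (some x)) with h | h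
      · simp [h]
      · rw [if_neg (by rw [h]; exact one_ne_zero), hΨw, h, one_mul]
    simp only [h1]
    cases o with
    | none =>
      simp only [true_or, if_true, mul_one]
      rw [Fintype.sum_option] at hz
      rw [eq_neg_of_add_eq_zero_left hz, ZMod.neg_eq_self_mod_two]
    | some y => simp
  -- the action of the generators
  have hact : ∀ x v o, Ψ₀ (φ (t x) v) o = Ψ₀ v (Equiv.swap none (some x) o) := by
    intro x v o
    rw [phi_eq_add, map_add, Pi.add_apply]
    rcases (by decide : ∀ a : ZMod 2, a = 0 ∨ a = 1) (f x v) with h | h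
    · rw [hf0 _ _ h, map_zero, Pi.zero_apply, add_zero]
      have he : Ψ₀ v (some x) = Ψ₀ v none := by rw [hsome, hnone, h, add_zero]
      rcases eq_or_ne o none with rfl | h1
      · rw [Equiv.swap_apply_left, he]
      rcases eq_or_ne o (some x) with rfl | h2
      · rw [Equiv.swap_apply_right, he]
      · rw [Equiv.swap_apply_of_ne_of_ne h1 h2]
    · rw [hf1 _ _ h, hΨw]
      rcases eq_or_ne o none with rfl | h1
      · rw [Equiv.swap_apply_left, if_pos (Or.inl rfl), hsome, hnone, h]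
      rcases eq_or_ne o (some x) with rfl | h2
      · rw [Equiv.swap_apply_right, if_pos (Or.inr rfl), hsome, hnone, h, add_assoc, htwo, add_zero]
      · rw [Equiv.swap_apply_of_ne_of_ne h1 h2, if_neg (by simp [h1, h2]), add_zero]
  let Good : Subgroup P :=
    { carrier := {g | ∃ σ : Equiv.Perm (Option D), ∀ v o, Ψ₀ (φ g v) o = Ψ₀ v (σ⁻¹ o)}
      one_mem' := ⟨1, fun v o => by rw [phi_one]; rfl⟩
      mul_mem' := fun {a b} => fun ⟨σ, hσ⟩ ⟨τ, hτ⟩ => ⟨σ * τ, fun v o => by
        rw [phi_mul, hσ, hτ, mul_inv_rev]; rfl⟩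
      inv_mem' := fun {a} => fun ⟨σ, hσ⟩ => ⟨σ⁻¹, fun v o => by
        have h1 := hσ (φ a⁻¹ v) (σ o)
        rw [phi_cancel_inv, show σ⁻¹ (σ o) = o from σ.symm_apply_apply o] at h1
        rw [inv_inv, h1]⟩ }
  have hgood : E ≤ Good := sSup_le fun x hx a ha => by
    rcases htA ⟨x, hx⟩ a ha with rfl | rfl
    · exact Good.one_mem
    · exact ⟨Equiv.swap none (some ⟨x, hx⟩), fun v o => by rw [Equiv.swap_inv, hact]⟩
  have huniq : ∀ σ τ : Equiv.Perm (Option D),
      (∀ v o, Ψ₀ v (σ o) = Ψ₀ v (τ o)) → σ = τ := by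
    intro σ τ h
    refine Equiv.ext fun o => by_contra fun hne => ?_
    obtain ⟨c, hc⟩ : ∃ c, c ∉ ({σ o, τ o} : Finset (Option D)) := by
      by_contra hcon
      push Not at hcon
      have h1 := Finset.card_le_card (s := Finset.univ) (t := {σ o, τ o}) fun c _ => hcon c
      rw [Finset.card_univ, Fintype.card_option, hDc, Finset.card_pair hne] at h1
      have h2 : 2 ≤ 2 ^ n := by simpa using Nat.pow_le_pow_right two_pos hn
      omega
    simp only [Finset.mem_insert, Finset.mem_singleton, not_or] at hc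
    obtain ⟨u, -, hu⟩ := hsurj (fun o' => (if o' = σ o then 1 else 0) + if o' = c then 1 else 0)
      (by rw [Finset.sum_add_distrib, Finset.sum_ite_eq', Finset.sum_ite_eq']; simp [htwo])
    have h3 := h u o
    rw [hu] at h3
    simp [hc.1, hc.2, Ne.symm hc.1, Ne.symm hc.2, Ne.symm hne] at h3
  choose σ hσ using fun g : E => hgood g.2
  let ρ₀ : E →* Equiv.Perm (Option D) := MonoidHom.mk' σ fun a b => by
    refine inv_injective (huniq _ _ fun v o => ?_)
    rw [← hσ, mul_inv_rev, Equiv.Perm.mul_apply, ← hσ, ← hσ, Subgroup.coe_mul, phi_mul]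
  have hρinj : Function.Injective ρ₀ := by
    refine (injective_iff_map_eq_one ρ₀).2 fun g hg => ?_
    have hd : ∀ v, dd φ (g : P) v ∈ fixA φ E := fun v => by
      rw [← hker, dd_apply, map_sub]
      funext o
      rw [Pi.sub_apply, hσ, show σ g = 1 from hg, inv_one]
      exact sub_self _
    refine Subtype.ext (ff.inj (DFunLike.ext (F := AddMonoid.End V) _ _ fun v => ?_))
    obtain ⟨u, hu, hue⟩ := hsurj (Ψ₀ v) (hsum0 v)
    have h1 : v - u ∈ fixA φ E := by rw [← hker, map_sub, hue, sub_self]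
    have h2 : dd φ (g : P) u = 0 := by
      rw [← himg _ (dd_mem_img g.2 u), (hker _).2 (hd u), map_zero]
    show φ (g : P) v = φ (1 : P) v
    rw [phi_one, ← sub_add_cancel v u, map_add, h1 _ g.2, dd_eq_zero.1 h2]
  have hρsurj : Function.Surjective ρ₀ := by
    rw [← MonoidHom.range_eq_top, eq_top_iff, ← Equiv.Perm.closure_isSwap, closure_le]
    have hbase : ∀ x, Equiv.swap none (some x) ∈ ρ₀.range := fun x => by
      refine ⟨⟨t x, le_sSup x.2 (ht x)⟩, inv_injective (huniq _ _ fun v o => ?_)⟩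
      show Ψ₀ v ((σ _)⁻¹ o) = _
      rw [← hσ, Equiv.swap_inv, hact]
    rintro τ ⟨a, b, hab, rfl⟩
    rcases a with _ | x <;> rcases b with _ | y
    · exact absurd rfl hab
    · exact hbase y
    · rw [Equiv.swap_comm]; exact hbase x
    · have h1 := mul_mem (mul_mem (hbase x) (hbase y)) (inv_mem (hbase x))
      have h2 : Equiv.swap (some x) (some y) =
          Equiv.swap none (some x) * Equiv.swap none (some y) * (Equiv.swap none (some x))⁻¹ := by
        rw [← Equiv.swap_apply_apply, Equiv.swap_apply_left,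
          Equiv.swap_apply_of_ne_of_ne (Option.some_ne_none y) (Ne.symm hab)]
      rw [h2]
      exact h1
  let e : Option D ≃ Fin (2 ^ n + 1) :=
    Fintype.equivFinOfCardEq (by rw [Fintype.card_option, hDc])
  have hbase' : ∀ x, ρ₀ ⟨t x, le_sSup x.2 (ht x)⟩ = Equiv.swap none (some x) := fun x => by
    refine inv_injective (huniq _ _ fun v o => ?_)
    show Ψ₀ v ((σ _)⁻¹ o) = _
    rw [← hσ, Equiv.swap_inv, hact]
  refine ⟨(MulEquiv.ofBijective ρ₀ ⟨hρinj, hρsurj⟩).trans e.permCongrHom,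
    AddMonoidHom.mk' (fun v i => Ψ₀ v (e.symm i)) (fun u v => by rw [map_add]; rfl), e none, fun x => e (some x),
    fun v => ?_, fun z hz => ?_, fun v => ?_, fun g v i => ?_, fun v hv h0 => ?_,
    fun x y hxy => Option.some_injective _ (e.injective hxy), fun x => fun hxy => Option.some_ne_none x (e.injective hxy),
    fun x a ha ha1 => ?_⟩
  · exact (Equiv.sum_comp e.symm (Ψ₀ v)).trans (hsum0 v)
  · obtain ⟨u, hu, hue⟩ := hsurj (fun o => z (e o)) ((Equiv.sum_comp e z).trans hz)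
    exact ⟨u, hu, funext fun i => by show Ψ₀ u (e.symm i) = z i; simp [hue]⟩
  · rw [← hker]
    exact ⟨fun h => funext fun o => by have := congrFun h (e o); simpa using this,
      fun h => funext fun i => congrFun h (e.symm i)⟩
  · show Ψ₀ (φ (g : P) v) (e.symm i) = Ψ₀ v (e.symm ((e.permCongrHom (σ g))⁻¹ i))
    rw [hσ, ← map_inv]
    simp [Equiv.permCongrHom, Equiv.permCongr_apply]
  · rw [← himg v hv, show Ψ₀ v = 0 from funext fun o => by have := congrFun h0 (e o); simpa using this, map_zero]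
  · obtain rfl : a = t x := (htA x a ha).resolve_left ha1
    show e.permCongrHom (ρ₀ _) = _
    rw [hbase']
    simp [Equiv.permCongrHom, Equiv.permCongr_def, Equiv.symm_trans_swap_trans]

/-- pairwise non-commuting members of order two -/
theorem FF.perm (ff : FF p φ q 𝓜) (hq : q = 2) {D : Set (Subgroup P)} (hD : ∀ x ∈ D, 𝓜 x)
    (hnc : ∀ x ∈ D, ∀ y ∈ D, x ≠ y → ¬ Comm x y) {n : ℕ} (hn : 1 ≤ n)
    (hcard : Nat.card D = 2 ^ n) :
    ∃ (ρ : ↥(sSup D) ≃* Equiv.Perm (Fin (2 ^ n + 1))) (Ψ : V →+ (Fin (2 ^ n + 1) → ZMod 2)),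
      (∀ v, ∑ i, Ψ v i = 0) ∧
      (∀ z : Fin (2 ^ n + 1) → ZMod 2, ∑ i, z i = 0 → ∃ u ∈ img φ (sSup D), Ψ u = z) ∧
      (∀ v, Ψ v = 0 ↔ v ∈ fixA φ (sSup D)) ∧
      ∀ (g : ↥(sSup D)) v i, Ψ (φ (g : P) v) i = Ψ v ((ρ g)⁻¹ i) := by
  obtain ⟨ρ, Ψ, -, -, h1, h2, h3, h4, -⟩ := ff.perm_swap hq hD hnc hn hcard
  exact ⟨ρ, Ψ, h1, h2, h3, h4⟩

end Cfsg.Lib.FFModule
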