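import Cfsg.Agent.PLocal.FFModule.Final
import Cfsg.Agent.Coprime.Fitting
import Cfsg.Agent.Thompson.FactorBasics

/-!
Minimal parabolic groups of characteristic `p` acting on `Ω₁(Z(O_p))`.
-/

set_option autoImplicit false
set_option linter.unusedSectionVars false
set_option linter.style.haveILetI false

namespace Cfsg.Lib.FFModule

open Subgroup Cfsg.Lib.FFSLTwo

variable {G : Type*} [Group G] {p : ℕ}

theorem omegaOneCenter_mem {X : Subgroup G} {x : G} (h : x ∈ Cfsg.omegaOneCenter p X) :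
    x ∈ X ⊓ Subgroup.centralizer (X : Set G) :=
  ((Subgroup.closure_le _).2 fun _ hy => hy.1 : Cfsg.omegaOneCenter p X ≤ _) h

theorem omegaOneCenter_elementary (X : Subgroup G) :
    Cfsg.IsElementaryAbelian p (Cfsg.omegaOneCenter p X) := by
  have hcomm : ∀ x ∈ Cfsg.omegaOneCenter p X, ∀ y ∈ Cfsg.omegaOneCenter p X, x * y = y * x :=
    fun x hx y hy => Subgroup.mem_centralizer_iff.1 (omegaOneCenter_mem hy).2 x (omegaOneCenter_mem hx).1
  refine ⟨⟨⟨fun a b => Subtype.ext (hcomm a a.2 b b.2)⟩⟩, fun a ha => ?_⟩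
  have : a ∈ Cfsg.omegaOneCenter p X := ha
  clear ha
  unfold Cfsg.omegaOneCenter Cfsg.omegaOne at this hcomm
  induction this using Subgroup.closure_induction with
  | mem x hx => exact hx.2
  | one => exact one_pow _
  | mul x y hx hy ihx ihy =>
    rw [Commute.mul_pow (hcomm x hx y hy), ihx, ihy, one_mul]
  | inv x _ ih => rw [inv_pow, ih, inv_one]

theorem omegaOneCenter_normal {X : Subgroup G} (hX : X.Normal) :
    (Cfsg.omegaOneCenter p X).Normal := by
  refine ⟨fun x hx k => ?_⟩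
  have h : Cfsg.omegaOneCenter p X ≤
      (Cfsg.omegaOneCenter p X).comap (MulAut.conj k).toMonoidHom := by
    unfold Cfsg.omegaOneCenter Cfsg.omegaOne
    rw [Subgroup.closure_le]
    rintro y ⟨⟨hy, hyc⟩, hyp⟩
    refine Subgroup.subset_closure ⟨⟨hX.conj_mem y hy k, Subgroup.mem_centralizer_iff.2 fun z hz => ?_⟩, ?_⟩
    · have h1 := Subgroup.mem_centralizer_iff.1 hyc _ (hX.conj_mem z hz k⁻¹)
      have h2 := congrArg (fun w => k * w * k⁻¹) h1
      simp only [MulEquiv.coe_toMonoidHom, MulAut.conj_apply]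
      simpa [mul_assoc] using h2
    · rw [← map_pow, hyp, map_one]
  exact h hx

theorem centralizer_normal {V : Subgroup G} (hV : V.Normal) :
    (Subgroup.centralizer (V : Set G)).Normal := by
  refine ⟨fun x hx k => Subgroup.mem_centralizer_iff.2 fun v hv => ?_⟩
  have h1 := Subgroup.mem_centralizer_iff.1 hx _ (hV.conj_mem v hv k⁻¹)
  have h2 := congrArg (fun w => k * w * k⁻¹) h1
  simpa [mul_assoc] using h2

variable [Finite G] [Fact p.Prime]

theorem thompsonSubgroup_normal : (Cfsg.thompsonSubgroup p G).Normal := by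
  refine ⟨fun x hx k => ?_⟩
  have h : Cfsg.thompsonSubgroup p G ≤
      (Cfsg.thompsonSubgroup p G).comap (MulAut.conj k).toMonoidHom := by
    refine sSup_le fun A hA => map_le_iff_le_comap.1 (le_sSup ⟨?_, fun B hB => ?_⟩)
    · exact (Cfsg.Lib.Thompson.isElementaryAbelian_map_iff (MulAut.conj k).injective.injOn).2 hA.1
    · rw [Cfsg.Lib.Thompson.card_map_of_injOn (f := (MulAut.conj k).toMonoidHom) (MulAut.conj k).injective.injOn]
      exact hA.2 B hB
  exact h hx

/-- an elementary subgroup of largest order is a best offender on an elementary subgroup of the same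
Sylow subgroup -/
theorem bestOffender_of_max {S V A : Subgroup G} (hVS : V ≤ S) (hV : Cfsg.IsElementaryAbelian p V)
    (hA : Cfsg.Lib.Thompson.IsMaxElem p S A) : Cfsg.IsBestOffenderOn p V A := by
  refine ⟨fun B hB => ?_, ?_, fun a ha => ?_⟩
  · set X := V ⊓ Subgroup.centralizer (B : Set G) with hX
    have hBel := Cfsg.Lib.ElemToolkit.elementary_mono hB hA.2.1
    have hXel := Cfsg.Lib.ElemToolkit.elementary_mono (inf_le_left : X ≤ V) hV
    have hel := Cfsg.Lib.ElemToolkit.elementary_sup hBel hXel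
      fun a ha b hb => Subgroup.mem_centralizer_iff.1 hb.2 a ha
    have h1 := hA.2.2 (B ⊔ X) (_root_.sup_le (hB.trans hA.1) (inf_le_left.trans hVS)) hel
    have h2 := Cfsg.Lib.ElemToolkit.mul_card_le B X
    have h3 : Nat.card ↥(B ⊓ X) ≤ Nat.card ↥(V ⊓ Subgroup.centralizer (A : Set G)) :=
      Cfsg.Lib.ElemToolkit.card_le_card_of_le fun x hx => ⟨hx.2.1, Subgroup.mem_centralizer_iff.2
        fun a ha => Cfsg.Lib.ElemToolkit.comm_of hA.2.1.1 ha (hB hx.1)⟩
    exact h2.trans (Nat.mul_le_mul h1 h3)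
  · refine (Subgroup.commutator_le.2 fun a ha b hb => ?_ : ⁅A, A⁆ ≤ (⊥ : Subgroup G)).trans bot_le
    rw [Subgroup.mem_bot, commutatorElement_eq_one_iff_mul_comm]
    exact Cfsg.Lib.ElemToolkit.comm_of hA.2.1.1 ha hb
  · rw [hA.2.1.2 a ha]
    exact Subgroup.one_mem _

/-- a coatom over a Sylow subgroup contains every subgroup over it which is proper -/
theorem le_coatom (hmin : Cfsg.IsPMinimal p G) {S : Sylow p G} {M K : Subgroup G} (hM : IsCoatom M)
    (hSM : (S : Subgroup G) ≤ M) (hK : (S : Subgroup G) ≤ K) (hK' : K ≠ ⊤) : K ≤ M := by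
  obtain ⟨N, hN, hKN⟩ := (eq_top_or_exists_le_coatom K).resolve_left hK'
  obtain ⟨M₀, -, hM₀⟩ := (hmin S).2
  rw [hM₀ M ⟨hM, hSM⟩, ← hM₀ N ⟨hN, hK.trans hKN⟩]
  exact hKN

/-- passing to a quotient by a normal subgroup inside the maximal subgroup -/
theorem isPMinimal_quotient (hmin : Cfsg.IsPMinimal p G) {C : Subgroup G} [hCn : C.Normal]
    {T : Sylow p G} {M : Subgroup G} (hM : IsCoatom M) (hTM : (T : Subgroup G) ≤ M) (hCM : C ≤ M) :
    Cfsg.IsPMinimal p (G ⧸ C) := by
  intro S'
  set π := QuotientGroup.mk' C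
  have hπ : Function.Surjective π := QuotientGroup.mk'_surjective C
  obtain ⟨S, rfl⟩ := Sylow.mapSurjective_surjective hπ p S'
  obtain ⟨hSn, M', ⟨hM', hSM'⟩, huniq⟩ := hmin S
  obtain ⟨k, hk⟩ := MulAction.exists_smul_eq G T S
  have hCS : C ⊔ (S : Subgroup G) ≠ ⊤ := by
    intro h
    refine hM.1 (top_le_iff.1 ?_)
    have h1 : C ⊔ (S : Subgroup G) ≤ M.map (MulAut.conj k).toMonoidHom := by
      refine _root_.sup_le (fun c hc => ⟨k⁻¹ * c * k, hCM (by simpa using hCn.conj_mem c hc k⁻¹), by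
        simp [mul_assoc]⟩) ?_
      rw [← hk, Sylow.coe_subgroup_smul]
      exact map_mono hTM
    rw [h] at h1
    intro x _
    obtain ⟨y, hy, hye⟩ := h1 (Subgroup.mem_top (k * x * k⁻¹))
    have : y = x := (MulAut.conj k).injective hye
    exact this ▸ hy
  have hCM' : C ≤ M' := le_sup_left.trans (le_coatom hmin hM' hSM' le_sup_right hCS)
  have hcoe : ((S.mapSurjective hπ : Sylow p (G ⧸ C)) : Subgroup (G ⧸ C)) = (S : Subgroup G).map π :=
    Sylow.coe_mapSurjective hπ S
  rw [hcoe]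
  have hker : π.ker = C := QuotientGroup.ker_mk' C
  refine ⟨fun hn => ?_, M'.map π, ⟨?_, map_mono hSM'⟩, ?_⟩
  · have hn' : (((S : Subgroup G).map π).comap π).Normal := hn.comap π
    rw [comap_map_eq, hker] at hn'
    obtain ⟨Q, hQ⟩ := card_sylow_inf S ((S : Subgroup G) ⊔ C)
    haveI := hn'
    have hfr := Sylow.normalizer_sup_eq_top Q
    rw [hQ, inf_eq_left.2 le_sup_left] at hfr
    refine hM'.1 (top_le_iff.1 (hfr ▸ _root_.sup_le ?_ (_root_.sup_le hSM' hCM')))
    exact le_coatom hmin hM' hSM' Subgroup.le_normalizer fun h => hSn (normalizer_eq_top_iff.1 h)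
  · have hcm : (M'.map π).comap π = M' := by rw [comap_map_eq, hker, sup_eq_left.2 hCM']
    refine ⟨fun h => hM'.1 (by rw [← hcm, h, comap_top]), fun K hK => ?_⟩
    have h1 : M' < K.comap π := by
      rw [← hcm]; exact (comap_lt_comap_of_surjective hπ).2 hK
    rw [← map_comap_eq_self_of_surjective hπ K, hM'.2 _ h1, map_top_of_surjective π hπ]
  · rintro N ⟨hN, hSN⟩
    have hNc : IsCoatom (N.comap π) := by
      refine ⟨fun h => hN.1 ?_, fun K hK => ?_⟩
      · rw [← map_comap_eq_self_of_surjective hπ N, h, map_top_of_surjective π hπ]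
      · have hCK : C ≤ K := le_trans (fun c hc => show π c ∈ N by rw [show π c = 1 from (QuotientGroup.eq_one_iff c).2 hc]; exact N.one_mem) hK.le
        have h1 : N < K.map π := by
          refine (comap_lt_comap_of_surjective hπ).1 ?_
          rw [comap_map_eq, hker, sup_eq_left.2 hCK]
          exact hK
        have h2 := congrArg (Subgroup.comap π) (hN.2 _ h1)
        rwa [comap_map_eq, hker, sup_eq_left.2 hCK, comap_top] at h2
    rw [← huniq _ ⟨hNc, map_le_iff_le_comap.1 hSN⟩, map_comap_eq_self_of_surjective hπ]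

end Cfsg.Lib.FFModule
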