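import Cfsg.Agent.PLocal.FFModule.Lift
import Cfsg.Prelude.Def_BaumannBlocks

/-!
Translation between subgroups acting by conjugation and modules.
-/

set_option autoImplicit false
set_option linter.unusedSectionVars false
set_option linter.style.haveILetI false

namespace Cfsg.Lib.FFModule

open Subgroup Cfsg.Lib.FFSLTwo
open scoped commutatorElement

universe u v w

variable {G : Type u} [Group G] [Finite G] {V G₀ : Subgroup G}
variable {P : Type v} [Group P] [Finite P] {W : Type w} [AddCommGroup W] [Finite W]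

/-- `G₀` acting on `V` by conjugation induces the module `W` of `P` -/
structure Bridge (φ : P →* AddMonoid.End W) (f : G₀ →* P) (e : Additive V ≃+ W) : Prop where
  inj : Function.Injective φ
  surj : Function.Surjective f
  norm : G₀ ≤ Subgroup.normalizer (V : Set G)
  equiv : ∀ (g : G₀) (x : V) (h : (g : G) * x * (g : G)⁻¹ ∈ V),
    φ (f g) (e (Additive.ofMul x)) = e (Additive.ofMul ⟨(g : G) * x * (g : G)⁻¹, h⟩)

/-- the subgroup of `G` over a subgroup of `P` -/
def up (f : G₀ →* P) (E : Subgroup P) : Subgroup G := (E.comap f).map G₀.subtype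

/-- the subgroup of `G` inside `V` over a submodule -/
def pull (e : Additive V ≃+ W) (U : AddSubgroup W) : Subgroup G :=
  ((AddSubgroup.toSubgroup' (U.comap e.toAddMonoidHom) : Subgroup V)).map V.subtype

variable {φ : P →* AddMonoid.End W} {f : G₀ →* P} {e : Additive V ≃+ W}

theorem mem_up {E : Subgroup P} {x : G} : x ∈ up f E ↔ ∃ h : x ∈ G₀, f ⟨x, h⟩ ∈ E := by
  constructor
  · rintro ⟨y, hy, rfl⟩; exact ⟨y.2, hy⟩
  · rintro ⟨h, hx⟩; exact ⟨⟨x, h⟩, hx, rfl⟩

theorem mem_pull {U : AddSubgroup W} {x : G} :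
    x ∈ pull e U ↔ ∃ h : x ∈ V, e (Additive.ofMul ⟨x, h⟩) ∈ U := by
  constructor
  · rintro ⟨y, hy, rfl⟩; exact ⟨y.2, hy⟩
  · rintro ⟨h, hx⟩; exact ⟨⟨x, h⟩, hx, rfl⟩

theorem up_le (E : Subgroup P) : up f E ≤ G₀ := map_subtype_le _

theorem pull_le (U : AddSubgroup W) : pull e U ≤ V := map_subtype_le _

theorem pull_mono {U U' : AddSubgroup W} (h : U ≤ U') : pull e U ≤ pull e U' := fun x hx => by
  obtain ⟨h', h''⟩ := mem_pull.1 hx
  exact mem_pull.2 ⟨h', h h''⟩

theorem up_mono {E E' : Subgroup P} (h : E ≤ E') : up f E ≤ up f E' := map_mono (comap_mono h)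

/-- the group homomorphism on an `up` subgroup -/
def down (f : G₀ →* P) (E : Subgroup P) : ↥(up f E) →* E :=
  MonoidHom.mk' (fun g => ⟨f ⟨g, up_le E g.2⟩, (mem_up.1 g.2).2⟩) fun a b => Subtype.ext (by
    show f ⟨(a : G) * b, _⟩ = f ⟨a, _⟩ * f ⟨b, _⟩
    rw [← map_mul]
    rfl)

namespace Bridge

variable (br : Bridge φ f e)
include br

theorem conj_mem {g : G} (hg : g ∈ G₀) {x : G} (hx : x ∈ V) : g * x * g⁻¹ ∈ V :=
  (Subgroup.mem_normalizer_iff.1 (br.norm hg) x).1 hx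

theorem act_eq (g : G₀) (x : V) :
    φ (f g) (e (Additive.ofMul x)) = e (Additive.ofMul ⟨(g : G) * x * (g : G)⁻¹, br.conj_mem g.2 x.2⟩) :=
  br.equiv g x _

theorem fix_iff (g : G₀) (x : V) :
    φ (f g) (e (Additive.ofMul x)) = e (Additive.ofMul x) ↔ (g : G) * x = x * (g : G) := by
  rw [br.act_eq, e.injective.eq_iff, Additive.ofMul.injective.eq_iff, ← Subtype.coe_inj,
    mul_inv_eq_iff_eq_mul]

theorem inf_centralizer (E : Subgroup P) :
    V ⊓ Subgroup.centralizer ((up f E : Subgroup G) : Set G) = pull e (fixA φ E) := by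
  ext x
  rw [mem_pull, Subgroup.mem_inf, Subgroup.mem_centralizer_iff]
  constructor
  · rintro ⟨hx, h⟩
    refine ⟨hx, fun a ha => ?_⟩
    obtain ⟨g, rfl⟩ := br.surj a
    exact (br.fix_iff g ⟨x, hx⟩).2 (h g (mem_up.2 ⟨g.2, ha⟩))
  · rintro ⟨hx, h⟩
    refine ⟨hx, fun g hg => ?_⟩
    obtain ⟨hg₀, hgE⟩ := mem_up.1 hg
    exact (br.fix_iff ⟨g, hg₀⟩ ⟨x, hx⟩).1 (h _ hgE)

theorem commutator_elt (g : G₀) (x : V) : ∃ h : ⁅(x : G), (g : G)⁆ ∈ V,
    e (Additive.ofMul ⟨⁅(x : G), (g : G)⁆, h⟩) = -dd φ (f g) (e (Additive.ofMul x)) := by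
  have h1 : (g : G) * (x⁻¹ : V) * (g : G)⁻¹ ∈ V := br.conj_mem g.2 (x⁻¹).2
  have he : ⁅(x : G), (g : G)⁆ = ((x * ⟨_, h1⟩ : V) : G) := by
    rw [commutatorElement_def]
    show _ = (x : G) * ((g : G) * (x : G)⁻¹ * (g : G)⁻¹)
    simp only [mul_assoc]
  refine ⟨he ▸ (x * ⟨_, h1⟩ : V).2, ?_⟩
  rw [show (⟨⁅(x : G), (g : G)⁆, he ▸ (x * ⟨_, h1⟩ : V).2⟩ : V) = x * ⟨_, h1⟩ from Subtype.ext he,
    ofMul_mul, map_add, ← br.equiv g x⁻¹ h1, ofMul_inv, map_neg, map_neg, dd_apply, neg_sub,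
    sub_eq_add_neg]

theorem commutator (E : Subgroup P) : ⁅V, up f E⁆ = pull e (img φ E) := by
  refine le_antisymm (Subgroup.commutator_le.2 fun x hx g hg => ?_) fun x hx => ?_
  · obtain ⟨hg₀, hgE⟩ := mem_up.1 hg
    obtain ⟨h, he⟩ := br.commutator_elt ⟨g, hg₀⟩ ⟨x, hx⟩
    exact mem_pull.2 ⟨h, he ▸ AddSubgroup.neg_mem _ (dd_mem_img hgE _)⟩
  · obtain ⟨hxV, hx'⟩ := mem_pull.1 hx
    let U : AddSubgroup W :=
      { carrier := {w | ((Additive.toMul (e.symm w) : V) : G) ∈ ⁅V, up f E⁆}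
        zero_mem' := by
          show ((Additive.toMul (e.symm 0) : V) : G) ∈ ⁅V, up f E⁆
          rw [map_zero]
          exact one_mem _
        add_mem' := fun {a b} ha hb => by
          show ((Additive.toMul (e.symm (a + b)) : V) : G) ∈ ⁅V, up f E⁆
          rw [map_add]
          exact mul_mem ha hb
        neg_mem' := fun {a} ha => by
          show ((Additive.toMul (e.symm (-a)) : V) : G) ∈ ⁅V, up f E⁆
          rw [map_neg]
          exact inv_mem ha }
    have hle : img φ E ≤ U := by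
      refine (AddSubgroup.closure_le _).2 ?_
      rintro _ ⟨a, ha, v, rfl⟩
      obtain ⟨g, rfl⟩ := br.surj a
      obtain ⟨y, rfl⟩ := e.surjective v
      obtain ⟨h, he⟩ := br.commutator_elt g (Additive.toMul y)
      show ((Additive.toMul (e.symm (dd φ (f g) (e y))) : V) : G) ∈ ⁅V, up f E⁆
      rw [show dd φ (f g) (e y) = -e (Additive.ofMul ⟨_, h⟩) from by rw [he, neg_neg]; rfl, map_neg,
        e.symm_apply_apply]
      exact inv_mem (Subgroup.commutator_mem_commutator (Additive.toMul y).2 (mem_up.2 ⟨g.2, ha⟩))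
    have h2 := hle hx'
    change ((Additive.toMul (e.symm (e (Additive.ofMul ⟨x, hxV⟩))) : V) : G) ∈ ⁅V, up f E⁆ at h2
    rwa [e.symm_apply_apply] at h2

theorem pull_sup_le {U : AddSubgroup W} {H : Subgroup G} {ι : Type*} (U₀ : AddSubgroup W)
    (Us : ι → AddSubgroup W) (hU : U ≤ U₀ ⊔ ⨆ i, Us i) (h₀ : pull e U₀ ≤ H)
    (h : ∀ i, pull e (Us i) ≤ H) : pull e U ≤ H := by
  let S : AddSubgroup W :=
    { carrier := {w | ((Additive.toMul (e.symm w) : V) : G) ∈ H}
      zero_mem' := by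
        show ((Additive.toMul (e.symm 0) : V) : G) ∈ H
        rw [map_zero]
        exact one_mem _
      add_mem' := fun {a b} ha hb => by
        show ((Additive.toMul (e.symm (a + b)) : V) : G) ∈ H
        rw [map_add]
        exact mul_mem ha hb
      neg_mem' := fun {a} ha => by
        show ((Additive.toMul (e.symm (-a)) : V) : G) ∈ H
        rw [map_neg]
        exact inv_mem ha }
  have key : ∀ {U' : AddSubgroup W}, pull e U' ≤ H → U' ≤ S := fun {U'} h w hw =>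
    h (mem_pull.2 ⟨(Additive.toMul (e.symm w)).2, by
      show e (Additive.ofMul (Additive.toMul (e.symm w))) ∈ U'
      rw [ofMul_toMul, e.apply_symm_apply]; exact hw⟩)
  have hle : U ≤ S := hU.trans (_root_.sup_le (key h₀) (iSup_le fun i => key (h i)))
  intro x hx
  obtain ⟨hxV, hx'⟩ := mem_pull.1 hx
  have h2 := hle hx'
  change ((Additive.toMul (e.symm (e (Additive.ofMul ⟨x, hxV⟩))) : V) : G) ∈ H at h2
  rwa [e.symm_apply_apply] at h2

theorem norm_pull_img (E : Subgroup P) :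
    up f E ≤ Subgroup.normalizer ((pull e (img φ E) : Subgroup G) : Set G) := by
  have h : ∀ g ∈ up f E, ∀ x ∈ pull e (img φ E), g * x * g⁻¹ ∈ pull e (img φ E) := by
    intro g hg x hx
    obtain ⟨hg₀, hgE⟩ := mem_up.1 hg
    obtain ⟨hxV, hx'⟩ := mem_pull.1 hx
    refine mem_pull.2 ⟨br.conj_mem hg₀ hxV, ?_⟩
    rw [← br.act_eq ⟨g, hg₀⟩ ⟨x, hxV⟩]
    exact img_stable hgE hx'
  intro g hg
  rw [Subgroup.mem_normalizer_iff]
  intro x
  refine ⟨h g hg x, fun hx => ?_⟩
  simpa [mul_assoc] using h g⁻¹ (inv_mem hg) _ hx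

theorem kernel {x : G} (hx : x ∈ G₀) :
    f ⟨x, hx⟩ = 1 ↔ x ∈ Subgroup.centralizer (V : Set G) := by
  rw [Subgroup.mem_centralizer_iff]
  constructor
  · intro h y hy
    refine ((br.fix_iff ⟨x, hx⟩ ⟨y, hy⟩).1 ?_).symm
    rw [h, phi_one]
  · intro h
    refine br.inj (DFunLike.ext (F := AddMonoid.End W) _ _ fun v => ?_)
    obtain ⟨y, rfl⟩ := e.surjective v
    rw [phi_one]
    exact (br.fix_iff ⟨x, hx⟩ (Additive.toMul y)).2 (h _ (Additive.toMul y).2).symm

theorem down_surj (E : Subgroup P) : Function.Surjective (down f E) := fun a => by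
  obtain ⟨g, hg⟩ := br.surj a
  exact ⟨⟨g, mem_up.2 ⟨g.2, hg.symm ▸ a.2⟩⟩, Subtype.ext hg⟩

theorem acts_sl {E : Subgroup P} {n : ℕ} {p : ℕ} (h : BlockSL p φ E n) :
    ∃ (F : Type) (_ : Field F) (_ : Fintype F) (ρ : ↥E ≃* Matrix.SpecialLinearGroup (Fin 2) F),
      Fintype.card F = p ^ n ∧
      Cfsg.ActsAsSL2OnSection F ⊤ (up f E) ⁅V, up f E⁆
        (⁅V, up f E⁆ ⊓ Subgroup.centralizer ((up f E : Subgroup G) : Set G)) := by
  obtain ⟨F, iF, iFF, ρ, Ψ, hc, hs, h0, hΨ⟩ := h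
  refine ⟨F, iF, iFF, ρ, hc, ?_⟩
  rw [br.commutator E]
  refine ⟨br.norm_pull_img E, inf_le_left, ρ.toMonoidHom.comp (down f E),
    MonoidHom.mk' (fun x => Multiplicative.ofAdd (Ψ (e (Additive.ofMul ⟨x, pull_le _ x.2⟩))))
      (fun a b => by
        rw [← ofAdd_add, ← map_add, ← map_add, ← ofMul_mul]
        rfl), ?_, ?_, ?_, ?_⟩
  · exact MonoidHom.range_eq_top.2 (ρ.surjective.comp (br.down_surj E))
  · intro z
    obtain ⟨u, hu, he⟩ := hs (Multiplicative.toAdd z)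
    obtain ⟨y, rfl⟩ := e.surjective u
    exact ⟨⟨_, mem_pull.2 ⟨(Additive.toMul y).2, hu⟩⟩, congrArg Multiplicative.ofAdd he⟩
  · intro x
    rw [MonoidHom.mk'_apply, ofAdd_eq_one, h0, Subgroup.mem_inf]
    have hiff := SetLike.ext_iff.1 (br.inf_centralizer E) (x : G)
    rw [Subgroup.mem_inf, mem_pull] at hiff
    exact ⟨fun hh => ⟨x.2, (hiff.2 ⟨pull_le _ x.2, hh⟩).2⟩,
      fun hh => (hiff.1 ⟨pull_le _ x.2, hh.2⟩).2⟩
  · intro g x
    refine ⟨⟨(g : G) * x * (g : G)⁻¹,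
      (Subgroup.mem_normalizer_iff.1 (br.norm_pull_img E g.2) x).1 x.2⟩, rfl, ?_⟩
    show Ψ (e (Additive.ofMul ⟨(g : G) * x * (g : G)⁻¹, _⟩)) =
      ((ρ (down f E g) : Matrix.SpecialLinearGroup (Fin 2) F) :
        Matrix (Fin 2) (Fin 2) F).mulVec (Ψ (e (Additive.ofMul ⟨x, _⟩)))
    rw [← hΨ, show ((down f E g : E) : P) = f ⟨g, up_le E g.2⟩ from rfl, br.act_eq]

theorem acts_perm {E : Subgroup P} {n : ℕ} (h : BlockPerm φ E n) :
    ∃ _ρ : ↥E ≃* Equiv.Perm (Fin (2 ^ n + 1)),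
      Cfsg.ActsAsOddPermModuleOnSection (2 ^ n + 1) ⊤ (up f E) ⁅V, up f E⁆
        (⁅V, up f E⁆ ⊓ Subgroup.centralizer ((up f E : Subgroup G) : Set G)) := by
  obtain ⟨ρ, Ψ, hev, hs, h0, hΨ⟩ := h
  refine ⟨ρ, ?_⟩
  rw [br.commutator E]
  refine ⟨br.norm_pull_img E, inf_le_left, ρ.toMonoidHom.comp (down f E),
    MonoidHom.mk' (fun x => Multiplicative.ofAdd (Ψ (e (Additive.ofMul ⟨x, pull_le _ x.2⟩))))
      (fun a b => by
        rw [← ofAdd_add, ← map_add, ← map_add, ← ofMul_mul]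
        rfl), ?_, fun x => hev _, ?_, ?_, ?_⟩
  · exact MonoidHom.range_eq_top.2 (ρ.surjective.comp (br.down_surj E))
  · intro z hz
    obtain ⟨u, hu, he⟩ := hs z hz
    obtain ⟨y, rfl⟩ := e.surjective u
    exact ⟨⟨_, mem_pull.2 ⟨(Additive.toMul y).2, hu⟩⟩, he⟩
  · intro x
    rw [MonoidHom.mk'_apply, ofAdd_eq_one, h0, Subgroup.mem_inf]
    have hiff := SetLike.ext_iff.1 (br.inf_centralizer E) (x : G)
    rw [Subgroup.mem_inf, mem_pull] at hiff
    exact ⟨fun hh => ⟨x.2, (hiff.2 ⟨pull_le _ x.2, hh⟩).2⟩,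
      fun hh => (hiff.1 ⟨pull_le _ x.2, hh.2⟩).2⟩
  · intro g x
    refine ⟨⟨(g : G) * x * (g : G)⁻¹,
      (Subgroup.mem_normalizer_iff.1 (br.norm_pull_img E g.2) x).1 x.2⟩, rfl, fun i => ?_⟩
    show Ψ (e (Additive.ofMul ⟨(g : G) * x * (g : G)⁻¹, _⟩)) i =
      Ψ (e (Additive.ofMul ⟨x, _⟩)) ((ρ (down f E g))⁻¹ i)
    rw [← hΨ, show ((down f E g : E) : P) = f ⟨g, up_le E g.2⟩ from rfl, br.act_eq]

theorem card_fix (E : Subgroup P) :
    Nat.card ↥(V ⊓ Subgroup.centralizer ((up f E : Subgroup G) : Set G)) = Nat.card (fixA φ E) := by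
  rw [br.inf_centralizer E]
  refine (Nat.card_congr ?_).trans rfl
  exact
    { toFun := fun x => ⟨e (Additive.ofMul ⟨x, (mem_pull.1 x.2).1⟩), (mem_pull.1 x.2).2⟩
      invFun := fun w => ⟨((Additive.toMul (e.symm w.1) : V) : G), mem_pull.2
        ⟨(Additive.toMul (e.symm w.1)).2, by
          show e (Additive.ofMul (Additive.toMul (e.symm w.1))) ∈ fixA φ E
          rw [ofMul_toMul, e.apply_symm_apply]; exact w.2⟩⟩
      left_inv := fun x => Subtype.ext (by simp)
      right_inv := fun w => Subtype.ext (by simp) }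

theorem card_V : Nat.card V = Nat.card W :=
  (Nat.card_congr Additive.ofMul).trans (Nat.card_congr e.toEquiv)

/-- an offender in `G₀` gives an offender in `P` -/
theorem offender {p : ℕ} [Fact p.Prime] {A : Subgroup G} (hA : A ≤ G₀)
    (hbest : Cfsg.IsBestOffenderOn p V A) :
    Cfsg.IsElementaryAbelian p ((A.subgroupOf G₀).map f) ∧
      (fixA φ ((A.subgroupOf G₀).map f)).index ≤ Nat.card ((A.subgroupOf G₀).map f) ∧
      ((A.subgroupOf G₀).map f = ⊥ → A ≤ Subgroup.centralizer (V : Set G)) := by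
  classical
  obtain ⟨hmeas, hcomm, hpow⟩ := hbest
  set D := (A.subgroupOf G₀).map f
  refine ⟨⟨⟨⟨?_⟩⟩, ?_⟩, ?_, fun hbot a ha => ?_⟩
  · rintro ⟨_, a, ha, rfl⟩ ⟨_, b, hb, rfl⟩
    refine Subtype.ext ?_
    show f a * f b = f b * f a
    rw [← mul_inv_eq_one, mul_inv_rev, ← mul_assoc, ← map_inv, ← map_inv, ← map_mul, ← map_mul,
      ← map_mul]
    refine (br.kernel (a * b * a⁻¹ * b⁻¹ : G₀).2).2 (hcomm ?_)
    exact Subgroup.commutator_mem_commutator ha hb
  · rintro _ ⟨a, ha, rfl⟩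
    rw [← map_pow]
    exact (br.kernel (a ^ p : G₀).2).2 (hpow _ ha)
  · -- compare with the trivial subgroup
    have hker : ∀ {a : G} (ha : a ∈ A), f ⟨a, hA ha⟩ = 1 ↔ a ∈ Subgroup.centralizer (V : Set G) :=
      fun ha => br.kernel (hA ha)
    set C := A ⊓ Subgroup.centralizer (V : Set G) with hC
    have h1 := hmeas C inf_le_left
    have hCV : V ⊓ Subgroup.centralizer (C : Set G) = V := inf_eq_left.2 fun v hv =>
      Subgroup.mem_centralizer_iff.2 fun c hc => (Subgroup.mem_centralizer_iff.1 hc.2 v hv).symm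
    have hAV : V ⊓ Subgroup.centralizer (A : Set G) =
        V ⊓ Subgroup.centralizer ((up f D : Subgroup G) : Set G) := by
      refine le_antisymm (fun v hv => ⟨hv.1, Subgroup.mem_centralizer_iff.2 fun g hg => ?_⟩)
        (inf_le_inf_left _ (Subgroup.centralizer_le fun a ha => mem_up.2 ⟨hA ha, ⟨a, hA ha⟩, ha, rfl⟩))
      obtain ⟨hg₀, a, ha, he⟩ := mem_up.1 hg
      refine (br.fix_iff ⟨g, hg₀⟩ ⟨v, hv.1⟩).1 ?_
      rw [← he]
      exact (br.fix_iff a ⟨v, hv.1⟩).2 (Subgroup.mem_centralizer_iff.1 hv.2 a ha)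
    rw [hCV, hAV, br.card_fix D, br.card_V] at h1
    let fA : A →* P := f.comp (Subgroup.inclusion hA)
    have hrange : fA.range = D := by
      ext x
      constructor
      · rintro ⟨a, rfl⟩; exact ⟨Subgroup.inclusion hA a, a.2, rfl⟩
      · rintro ⟨a, ha, rfl⟩; exact ⟨⟨a, ha⟩, rfl⟩
    have hkerA : fA.ker = C.subgroupOf A := by
      ext a
      rw [MonoidHom.mem_ker, mem_subgroupOf, hC, Subgroup.mem_inf]
      exact ⟨fun h => ⟨a.2, (hker a.2).1 h⟩, fun h => (hker a.2).2 h.2⟩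
    have h2 := Subgroup.card_eq_card_quotient_mul_card_subgroup fA.ker
    rw [Nat.card_congr (QuotientGroup.quotientKerEquivRange fA).toEquiv, hrange, hkerA,
      Nat.card_congr (subgroupOfEquivOfLe inf_le_left).toEquiv] at h2
    rw [h2, ← AddSubgroup.index_mul_card (fixA φ D), mul_comm (Nat.card D) (Nat.card C), mul_assoc] at h1
    exact Nat.le_of_mul_le_mul_right (Nat.le_of_mul_le_mul_left h1 Nat.card_pos) Nat.card_pos
  · refine (br.kernel (hA ha)).1 ?_
    have h1 : f ⟨a, hA ha⟩ ∈ D := ⟨⟨a, hA ha⟩, ha, rfl⟩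
    rw [hbot] at h1
    exact mem_bot.1 h1

end Bridge

/-- conjugation gives a module -/
theorem exists_module {p : ℕ} (hV : Cfsg.IsElementaryAbelian p V)
    (hG₀ : G₀ ≤ Subgroup.normalizer (V : Set G)) :
    ∃ (W : Type u) (_ : AddCommGroup W) (_ : Finite W) (φ : G₀ →* AddMonoid.End W)
      (e : Additive V ≃+ W), (∀ w : W, p • w = 0) ∧
      ∀ (g : G₀) (x : V) (h : (g : G) * x * (g : G)⁻¹ ∈ V),
        φ g (e (Additive.ofMul x)) = e (Additive.ofMul ⟨(g : G) * x * (g : G)⁻¹, h⟩) := by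
  have hconjV : ∀ g ∈ G₀, ∀ v ∈ V, g * v * g⁻¹ ∈ V := fun g hg v hv =>
    (Subgroup.mem_normalizer_iff.1 (hG₀ hg) v).1 hv
  have hVc : IsMulCommutative V := hV.1
  letI : CommGroup V := { (inferInstance : Group V) with mul_comm := fun a b => hVc.is_comm.comm a b }
  let φ : G₀ →* AddMonoid.End (Additive V) :=
    { toFun := fun g => AddMonoidHom.mk'
        (fun v => Additive.ofMul ⟨(g : G) * (Additive.toMul v : V) * (g : G)⁻¹,
          hconjV _ g.2 _ (Additive.toMul v).2⟩) (fun v w => by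
            apply Additive.toMul.injective
            apply Subtype.ext
            show (g : G) * ((Additive.toMul v : V) * (Additive.toMul w : V) : G) * (g : G)⁻¹ =
              (g : G) * (Additive.toMul v : V) * (g : G)⁻¹ *
                ((g : G) * (Additive.toMul w : V) * (g : G)⁻¹)
            group)
      map_one' := by
        refine DFunLike.ext (F := AddMonoid.End (Additive V)) _ _ fun (v : Additive V) => ?_
        apply Additive.toMul.injective
        apply Subtype.ext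
        show (1 : G) * (Additive.toMul v : V) * (1 : G)⁻¹ = (Additive.toMul v : V)
        group
      map_mul' := fun g h => by
        refine DFunLike.ext (F := AddMonoid.End (Additive V)) _ _ fun (v : Additive V) => ?_
        apply Additive.toMul.injective
        apply Subtype.ext
        show ((g : G) * h) * (Additive.toMul v : V) * ((g : G) * h)⁻¹ =
          (g : G) * ((h : G) * (Additive.toMul v : V) * (h : G)⁻¹) * (g : G)⁻¹
        group }
  refine ⟨Additive V, inferInstance, inferInstance, φ, AddEquiv.refl _, fun w => ?_, fun g x h => rfl⟩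
  apply Additive.toMul.injective
  rw [toMul_nsmul, toMul_zero]
  exact Subtype.ext (hV.2 _ (Additive.toMul w).2)

end Cfsg.Lib.FFModule
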