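import Cfsg.Agent.PLocal.FFModule.Basic

/-!
Points (maximal subgroups over Sylow subgroups), vectors and functionals attached to them, and
quadratic action of strict offenders.
-/

set_option autoImplicit false
set_option linter.unusedSectionVars false
set_option linter.style.haveILetI false

namespace Cfsg.Lib.FFModule

open Subgroup Cfsg.Lib.FFSLTwo

variable {P : Type*} [Group P] [Finite P] {V : Type*} [AddCommGroup V] [Finite V]
variable {p : ℕ} [Fact p.Prime] {φ : P →* AddMonoid.End V}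

/-- the setting -/
structure Ctx (p : ℕ) [Fact p.Prime] (φ : P →* AddMonoid.End V) : Prop where
  inj : Function.Injective φ
  char : ∀ v : V, p • v = 0
  pmin : Cfsg.IsPMinimal p P
  core : Cfsg.pCore p P = ⊥
  fix : ∀ v, v ∈ fixA φ (⊤ : Subgroup P) → v = 0
  fixd : ∀ f, f ∈ fixA (dual p φ) (⊤ : Subgroup P) → f = 0
  ne : Nontrivial V

/-- a maximal subgroup containing a Sylow subgroup -/
def IsPt (p : ℕ) (M : Subgroup P) : Prop :=
  IsCoatom M ∧ ∃ S : Sylow p P, (S : Subgroup P) ≤ M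

/-- a strict offender -/
structure Strict (p : ℕ) (φ : P →* AddMonoid.End V) (A : Subgroup P) : Prop where
  ne_bot : A ≠ ⊥
  el : Cfsg.IsElementaryAbelian p A
  off : (fixA φ A).index ≤ Nat.card A
  strict : ∀ A₀ : Subgroup P, A₀ ≤ A → A₀ ≠ ⊥ → A₀ ≠ A → Nat.card A₀ < (fixA φ A₀).index

theorem isPGroup_el {A : Subgroup P} (h : Cfsg.IsElementaryAbelian p A) : IsPGroup p A :=
  fun a => ⟨1, Subtype.ext (by rw [pow_one]; push_cast; exact h.2 a a.2)⟩

theorem Strict.cj {A : Subgroup P} (h : Strict p φ A) (g : P) : Strict p φ (FFSLTwo.cj g A) where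
  ne_bot := fun h0 => h.ne_bot (cj_inj (g := g) (by rw [h0, cj_bot]))
  el := el_cj g h.el
  off := by rw [index_fix_cj, card_cj]; exact h.off
  strict := fun A₀ hle h0 h1 => by
    have e : A₀ = FFSLTwo.cj g (FFSLTwo.cj g⁻¹ A₀) := (cj_cj_inv g A₀).symm
    rw [e] at hle h0 h1 ⊢
    rw [index_fix_cj g (FFSLTwo.cj g⁻¹ A₀), card_cj g (FFSLTwo.cj g⁻¹ A₀)]
    exact h.strict _ (cj_le_cj.1 hle) (fun e0 => h0 (by rw [e0, cj_bot])) (fun e0 => h1 (by rw [e0]))

namespace IsPt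

variable {M : Subgroup P}

theorem cj (h : IsPt p M) (g : P) : IsPt p (FFSLTwo.cj g M) := by
  obtain ⟨hM, S, hS⟩ := h
  refine ⟨⟨fun h0 => hM.1 ?_, fun K hK => ?_⟩, g • S, ?_⟩
  · have h1 := congrArg (FFSLTwo.cj g⁻¹) h0
    rw [cj_inv_cj] at h1
    rw [h1]
    exact eq_top_iff.2 fun a _ => mem_cj.2 (mem_top _)
  · have h1 : M < FFSLTwo.cj g⁻¹ K := by
      rw [← cj_inv_cj g M]
      exact lt_of_le_not_ge (cj_le_cj.2 hK.le) fun h' => hK.not_ge (cj_le_cj.1 h')
    have h2 := congrArg (FFSLTwo.cj g) (hM.2 _ h1)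
    rw [cj_cj_inv] at h2
    rw [h2]
    exact eq_top_iff.2 fun a _ => mem_cj.2 (mem_top _)
  · rw [Sylow.coe_subgroup_smul]
    exact map_mono hS

/-- a subgroup that is a `p`-group inside a point lies in a Sylow subgroup inside that point -/
theorem exists_sylow (h : IsPt p M) {R : Subgroup P} (hR : IsPGroup p R) (hRM : R ≤ M) :
    ∃ S : Sylow p P, R ≤ (S : Subgroup P) ∧ (S : Subgroup P) ≤ M := by
  obtain ⟨-, S, hS⟩ := h
  obtain ⟨Q, hQ⟩ := (hR.comap_subtype : IsPGroup p ↥(R.subgroupOf M)).exists_le_sylow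
  obtain ⟨m, hm⟩ := MulAction.exists_smul_eq M (S.subtype hS) Q
  refine ⟨(m : P) • S, fun r hr => ?_, ?_⟩
  · have h1 := hQ (mem_subgroupOf.2 hr : (⟨r, hRM hr⟩ : M) ∈ R.subgroupOf M)
    rw [← hm, Sylow.coe_subgroup_smul, Subgroup.mem_pointwise_smul_iff_inv_smul_mem] at h1
    rw [Sylow.coe_subgroup_smul, Subgroup.mem_pointwise_smul_iff_inv_smul_mem]
    simpa [MulAut.smul_def, Sylow.coe_subtype, mem_subgroupOf, mul_assoc] using h1
  · rw [Sylow.coe_subgroup_smul]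
    intro y hy
    rw [Subgroup.mem_pointwise_smul_iff_inv_smul_mem] at hy
    have h1 := hS hy
    simp only [MulAut.smul_def, ← map_inv, MulAut.conj_apply, inv_inv] at h1
    have h2 := M.mul_mem (M.mul_mem m.2 h1) (M.inv_mem m.2)
    simpa [mul_assoc] using h2

end IsPt

namespace Ctx

variable (hc : Ctx p φ)
include hc

theorem exists_pt : ∃ M : Subgroup P, IsPt p M := by
  obtain ⟨S⟩ : Nonempty (Sylow p P) := inferInstance
  obtain ⟨-, M, ⟨hM, hSM⟩, -⟩ := hc.pmin S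
  exact ⟨M, hM, S, hSM⟩

theorem uniq {M : Subgroup P} (hM : IsCoatom M) {S : Sylow p P} (hS : (S : Subgroup P) ≤ M)
    {K : Subgroup P} (hK : (S : Subgroup P) ≤ K) (hK' : K ≠ ⊤) : K ≤ M := by
  obtain ⟨M', hM', hKM'⟩ := (eq_top_or_exists_le_coatom K).resolve_left hK'
  obtain ⟨M₀, -, hM₀⟩ := (hc.pmin S).2
  rw [hM₀ M ⟨hM, hS⟩, ← hM₀ M' ⟨hM', hK.trans hKM'⟩]
  exact hKM'

/-- every `p`-subgroup lies in some point -/
theorem pt_over {R : Subgroup P} (hR : IsPGroup p R) : ∃ M, IsPt p M ∧ R ≤ M := by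
  obtain ⟨S, hS⟩ := hR.exists_le_sylow
  obtain ⟨-, M, ⟨hM, hSM⟩, -⟩ := hc.pmin S
  exact ⟨M, ⟨hM, S, hSM⟩, hS.trans hSM⟩

/-- only the trivial `p`-subgroup lies in all points -/
theorem avoid {R : Subgroup P} (hR : IsPGroup p R) (hne : R ≠ ⊥) : ∃ M, IsPt p M ∧ ¬ R ≤ M := by
  by_contra hcon
  push Not at hcon
  obtain ⟨S⟩ : Nonempty (Sylow p P) := inferInstance
  obtain ⟨-, M, ⟨hM, hSM⟩, -⟩ := hc.pmin S
  have hRN : R ≤ M.normalCore := by
    intro r hr g
    have h1 := hcon (FFSLTwo.cj g⁻¹ M) (IsPt.cj ⟨hM, S, hSM⟩ g⁻¹) hr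
    simpa [mem_cj, mul_assoc] using h1
  obtain ⟨Q, hQ⟩ := card_sylow_inf S M.normalCore
  have hn : ((S : Subgroup P) ⊓ M.normalCore).Normal := by
    have hfr := Sylow.normalizer_sup_eq_top Q
    rw [← normalizer_eq_top_iff]
    by_contra hne'
    rw [hQ] at hfr
    refine hM.1 (top_le_iff.1 (hfr ▸ sup_le ?_ M.normalCore_le))
    refine hc.uniq hM hSM (fun t ht => ?_) hne'
    rw [mem_normalizer_iff]
    intro y
    have hN := (normalCore_normal M).conj_mem
    constructor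
    · exact fun hy => ⟨(S : Subgroup P).mul_mem ((S : Subgroup P).mul_mem ht hy.1)
        ((S : Subgroup P).inv_mem ht), hN y hy.2 t⟩
    · intro hy
      refine ⟨?_, ?_⟩
      · show y ∈ (S : Subgroup P)
        simpa [mul_assoc] using (S : Subgroup P).mul_mem ((S : Subgroup P).mul_mem
          ((S : Subgroup P).inv_mem ht) hy.1) ht
      · simpa [mul_assoc] using hN _ hy.2 t⁻¹
  obtain ⟨S', hS'⟩ := hR.exists_le_sylow
  obtain ⟨k, hk⟩ := MulAction.exists_smul_eq P S' S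
  have h0 : (S : Subgroup P) ⊓ M.normalCore = ⊥ := le_bot_iff.1
    (hc.core ▸ le_sSup ⟨hn, S.2.to_le inf_le_left⟩)
  refine hne ((eq_bot_iff_forall R).2 fun r hr => ?_)
  have h1 : k * r * k⁻¹ ∈ (S : Subgroup P) ⊓ M.normalCore := by
    refine ⟨?_, M.normalCore_normal.conj_mem r (hRN hr) k⟩
    show k * r * k⁻¹ ∈ (S : Subgroup P)
    rw [← hk, Sylow.coe_subgroup_smul, Subgroup.mem_pointwise_smul_iff_inv_smul_mem]
    simpa [MulAut.smul_def, mul_assoc] using hS' hr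
  rw [h0, mem_bot] at h1
  have h2 : r = k⁻¹ * (k * r * k⁻¹) * k := by group
  rw [h2, h1]; group

/-- a vector of a point -/
def SV (φ : P →* AddMonoid.End V) (M : Subgroup P) (v : V) : Prop := ∀ g, φ g v = v → g ∈ M

/-- a functional of a point -/
def SF (p : ℕ) (φ : P →* AddMonoid.End V) (M : Subgroup P) (f : V →+ ZMod p) : Prop :=
  ∀ g, (∀ v, f (dd φ g v) = 0) → g ∈ M

theorem exists_sv {M R : Subgroup P} (hM : IsPt p M) (hR : IsPGroup p R) (hRM : R ≤ M) :
    ∃ v ∈ fixA φ R, v ≠ 0 ∧ SV φ M v := by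
  obtain ⟨S, hRS, hSM⟩ := hM.exists_sylow hR hRM
  haveI := hc.ne
  have htop : (⊤ : AddSubgroup V) ≠ ⊥ := top_ne_bot
  obtain ⟨v, -, hv0, hv⟩ := exists_fix_mem hc.char S.2 (⊤ : AddSubgroup V) (φ := φ)
    (fun _ _ _ _ => AddSubgroup.mem_top _) htop
  refine ⟨v, fixA_anti hRS hv, hv0, fun g hg => ?_⟩
  let K : Subgroup P :=
    { carrier := {g | φ g v = v}
      one_mem' := phi_one v
      mul_mem' := fun {a b} ha hb => by
        show φ (a * b) v = v
        rw [phi_mul, show φ b v = v from hb, show φ a v = v from ha]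
      inv_mem' := fun {a} ha => by
        show φ a⁻¹ v = v
        conv_lhs => rw [← (show φ a v = v from ha)]
        exact phi_inv_cancel a v }
  refine hc.uniq (K := K) hM.1 hSM (fun s hs => hv s hs) (fun hK => hv0 (hc.fix v fun g _ => ?_)) hg
  exact (hK ▸ mem_top g : g ∈ K)

theorem exists_sf {M R : Subgroup P} (hM : IsPt p M) (hR : IsPGroup p R) (hRM : R ≤ M) :
    ∃ f : V →+ ZMod p, (∀ g ∈ R, ∀ v, f (dd φ g v) = 0) ∧ f ≠ 0 ∧ SF p φ M f := by
  obtain ⟨S, hRS, hSM⟩ := hM.exists_sylow hR hRM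
  have htop : (⊤ : AddSubgroup (V →+ ZMod p)) ≠ ⊥ := by
    haveI := hc.ne
    obtain ⟨v, hv⟩ := exists_ne (0 : V)
    obtain ⟨f, -, hf⟩ := exists_functional hc.char (U := (⊥ : AddSubgroup V)) (v := v)
      (fun h0 => hv ((AddSubgroup.mem_bot).1 h0))
    intro h0
    have h1 : f ∈ (⊥ : AddSubgroup (V →+ ZMod p)) := h0 ▸ AddSubgroup.mem_top f
    exact hf (by rw [AddSubgroup.mem_bot.1 h1]; rfl)
  obtain ⟨f, -, hf0, hf⟩ := exists_fix_mem (dual_char p) S.2
    (⊤ : AddSubgroup (V →+ ZMod p)) (φ := dual p φ) (fun _ _ _ _ => AddSubgroup.mem_top _) htop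
  refine ⟨f, dual_fix_iff.1 (fixA_anti hRS hf), hf0, fun g hg => ?_⟩
  let K : Subgroup P :=
    { carrier := {g | dual p φ g f = f}
      one_mem' := phi_one f
      mul_mem' := fun {a b} ha hb => by
        show dual p φ (a * b) f = f
        rw [phi_mul, show dual p φ b f = f from hb, show dual p φ a f = f from ha]
      inv_mem' := fun {a} ha => by
        show dual p φ a⁻¹ f = f
        conv_lhs => rw [← (show dual p φ a f = f from ha)]
        exact phi_inv_cancel a f }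
  have hgK : g ∈ K := by
    show dual p φ g f = f
    refine AddMonoidHom.ext fun v => ?_
    have h1 := hg (φ g⁻¹ v)
    rw [dd_apply, phi_cancel_inv, map_sub, sub_eq_zero] at h1
    exact h1.symm
  refine hc.uniq hM.1 hSM (fun s hs => hf s hs) (fun hK => hf0 (hc.fixd f fun g _ => ?_)) hgK
  exact (hK ▸ mem_top g : g ∈ K)

theorem sv_smul {M : Subgroup P} {v : V} (h : SV φ M v) {m : P} (hm : m ∈ M) : SV φ M (φ m v) := by
  intro g hg
  have h1 : φ (m⁻¹ * g * m) v = v := by rw [phi_mul, phi_mul, hg, phi_inv_cancel]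
  have h2 := M.mul_mem (M.mul_mem hm (h _ h1)) (M.inv_mem hm)
  simpa [mul_assoc] using h2

theorem sf_smul {M : Subgroup P} {f : V →+ ZMod p} (h : SF p φ M f) {m : P} (hm : m ∈ M) :
    SF p φ M (f.comp (φ m : V →+ V)) := by
  intro g hg
  have h1 : ∀ v, f (dd φ (m * g * m⁻¹) v) = 0 := fun v => by
    rw [dd_cj]; exact hg _
  have h2 := M.mul_mem (M.mul_mem (M.inv_mem hm) (h _ h1)) hm
  simpa [mul_assoc] using h2

/-- a strict offender acts quadratically -/
theorem quad {A : Subgroup P} (h : Strict p φ A) : ∀ a ∈ A, ∀ b ∈ A, ∀ v, dd φ a (dd φ b v) = 0 := by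
  classical
  have hcomm : ∀ a ∈ A, ∀ b ∈ A, a * b = b * a := fun a ha b hb =>
    Cfsg.Lib.ElemToolkit.comm_of h.el.1 ha hb
  have hcd : ∀ a ∈ A, ∀ b ∈ A, ∀ v, φ a (φ b v) = φ b (φ a v) := fun a ha b hb v => by
    rw [← phi_mul, hcomm a ha b hb, phi_mul]
  set C := fixA φ A with hC
  have hmeas : Nat.card V ≤ Nat.card A * Nat.card C := by
    rw [← AddSubgroup.index_mul_card C]; exact Nat.mul_le_mul_right _ h.off
  by_contra hcon
  push Not at hcon
  obtain ⟨a₀, ha₀, b₀, hb₀, v₀, hne₀⟩ := hcon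
  let X (u : V) : AddSubgroup V := AddSubgroup.closure {w | ∃ a ∈ A, dd φ a u = w}
  let B (u : V) : Subgroup P :=
    { carrier := {g | g ∈ A ∧ ∀ d ∈ A, φ g (dd φ d u) = dd φ d u}
      one_mem' := ⟨A.one_mem, fun d _ => phi_one _⟩
      mul_mem' := fun {a b} ha hb => ⟨A.mul_mem ha.1 hb.1, fun d hd => by
        rw [phi_mul, hb.2 d hd, ha.2 d hd]⟩
      inv_mem' := fun {a} ha => ⟨A.inv_mem ha.1, fun d hd => by
        conv_lhs => rw [← ha.2 d hd]
        exact phi_inv_cancel _ _⟩ }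
  have hBA : ∀ u, B u ≤ A := fun u g hg => hg.1
  have key : ∀ u, Nat.card A * Nat.card C ≤ Nat.card (B u) * Nat.card ↥(X u ⊔ C) := by
    intro u
    let W := X u ⊔ C
    let kq : A → W ⧸ C.addSubgroupOf W := fun a => QuotientAddGroup.mk
      ⟨dd φ (a : P) u, AddSubgroup.mem_sup_left (AddSubgroup.subset_closure ⟨a, a.2, rfl⟩)⟩
    let r : W ⧸ C.addSubgroupOf W → A := fun q => if hq : ∃ a, kq a = q then hq.choose else 1
    have hr : ∀ a, kq (r (kq a)) = kq a := fun a => by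
      simp only [r]
      rw [dif_pos ⟨a, rfl⟩]
      exact (⟨a, rfl⟩ : ∃ a', kq a' = kq a).choose_spec
    have hker : ∀ a b : A, kq a = kq b → (a : P)⁻¹ * b ∈ B u := by
      intro a b hab
      refine ⟨A.mul_mem (A.inv_mem a.2) b.2, fun d hd => ?_⟩
      have hc' : -dd φ (a : P) u + dd φ (b : P) u ∈ C := by
        have h1 := QuotientAddGroup.eq.1 hab
        simpa [AddSubgroup.mem_addSubgroupOf] using h1
      have e1 : φ d (φ (b : P) u) - φ d (φ (a : P) u) = φ (b : P) u - φ (a : P) u := by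
        have h2 := hc' d hd
        rw [dd_apply, dd_apply, map_add, map_neg, map_sub, map_sub] at h2
        have h3 : φ d (φ (b : P) u) - φ d (φ (a : P) u) =
            -(φ d (φ (a : P) u) - φ d u) + (φ d (φ (b : P) u) - φ d u) := by abel
        rw [h3, h2]; abel
      rw [phi_mul]
      have e2 : φ (b : P) (dd φ d u) = φ (a : P) (dd φ d u) := by
        rw [dd_apply, map_sub, map_sub, hcd _ b.2 d hd, hcd _ a.2 d hd]
        rw [sub_eq_sub_iff_sub_eq_sub, e1]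
      rw [e2, phi_inv_cancel]
    let f : A × C → B u × W := fun q => (⟨(r (kq q.1) : P)⁻¹ * q.1, hker _ _ (hr q.1)⟩,
      ⟨dd φ (q.1 : P) u + q.2, W.add_mem
        (AddSubgroup.mem_sup_left (AddSubgroup.subset_closure ⟨q.1, q.1.2, rfl⟩))
        (AddSubgroup.mem_sup_right q.2.2)⟩)
    have hf : Function.Injective f := by
      intro q s hqs
      have h1 : (r (kq q.1) : P)⁻¹ * q.1 = (r (kq s.1) : P)⁻¹ * s.1 :=
        congrArg (fun w : B u × W => (w.1 : P)) hqs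
      have h2 : dd φ (q.1 : P) u + q.2 = dd φ (s.1 : P) u + s.2 :=
        congrArg (fun w : B u × W => (w.2 : V)) hqs
      have hk : kq q.1 = kq s.1 := by
        simp only [kq]
        rw [QuotientAddGroup.eq, AddSubgroup.mem_addSubgroupOf]
        show -dd φ (q.1 : P) u + dd φ (s.1 : P) u ∈ C
        rw [show -dd φ (q.1 : P) u + dd φ (s.1 : P) u = (q.2 : V) - s.2 by
          rw [eq_sub_of_add_eq h2]; abel]
        exact C.sub_mem q.2.2 s.2.2
      rw [hk] at h1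
      have h3 : q.1 = s.1 := Subtype.ext (mul_left_cancel h1)
      rw [h3] at h2
      exact Prod.ext h3 (Subtype.ext (add_left_cancel h2))
    have := Nat.card_le_card_of_injective f hf
    rwa [Nat.card_prod, Nat.card_prod] at this
  have hXC : ∀ u, X u ⊔ C ≤ fixA φ (B u) := fun u => sup_le
    ((AddSubgroup.closure_le _).2 fun w ⟨d, hd, hw⟩ g hg => hw ▸ hg.2 d hd) (fixA_anti (hBA u))
  have hbot : ∀ u, B u ≠ A → B u = ⊥ := by
    intro u hu
    by_contra h0
    have h1 := h.strict _ (hBA u) h0 hu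
    have h2 : Nat.card ↥(X u ⊔ C) ≤ Nat.card (fixA φ (B u)) :=
      Nat.card_le_card_of_injective _ (AddSubgroup.inclusion_injective (hXC u))
    have h3 := hmeas.trans ((key u).trans (Nat.mul_le_mul_left _ h2))
    rw [← AddSubgroup.index_mul_card (fixA φ (B u))] at h3
    exact absurd (Nat.le_of_mul_le_mul_right h3 Nat.card_pos) (not_le.2 h1)
  have hu : B v₀ ≠ A := fun he => by
    have h1 : a₀ ∈ B v₀ := he.symm ▸ ha₀
    exact hne₀ (dd_eq_zero.2 (h1.2 b₀ hb₀))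
  have hfull : X v₀ ⊔ C = ⊤ := by
    refine AddSubgroup.eq_top_of_le_card _ ?_
    have h1 := key v₀
    rw [hbot _ hu, Subgroup.card_bot, one_mul] at h1
    exact hmeas.trans h1
  -- unipotent descent
  let Y := AddSubgroup.closure {w | ∃ a ∈ A, ∃ v, dd φ a v = w}
  let Z := AddSubgroup.closure {w | ∃ a ∈ A, ∃ y ∈ Y, dd φ a y = w}
  have hYZ : Y ≤ Z := by
    refine (AddSubgroup.closure_le _).2 ?_
    rintro w ⟨a, ha, v, rfl⟩
    obtain ⟨x, hx, c, hc', rfl⟩ := AddSubgroup.mem_sup.1 (hfull ▸ AddSubgroup.mem_top v : v ∈ X v₀ ⊔ C)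
    show dd φ a (x + c) ∈ Z
    rw [map_add, dd_eq_zero.2 (hc' a ha), add_zero]
    refine AddSubgroup.subset_closure ⟨a, ha, x, ?_, rfl⟩
    refine (AddSubgroup.closure_le (K := Y)).2 ?_ hx
    rintro w ⟨d, hd, hw⟩
    exact AddSubgroup.subset_closure ⟨d, hd, v₀, hw⟩
  have hYinv : ∀ g ∈ A, ∀ y ∈ Y, φ g y ∈ Y := fun g hg y hy => by
    have h1 : dd φ g y ∈ Y := AddSubgroup.subset_closure ⟨g, hg, y, rfl⟩
    have h2 := Y.add_mem h1 hy
    rwa [dd_apply, sub_add_cancel] at h2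
  have hYne : Y ≠ ⊥ := fun h0 => hne₀ (by
    have h1 : dd φ b₀ v₀ ∈ Y := AddSubgroup.subset_closure ⟨b₀, hb₀, v₀, rfl⟩
    rw [h0, AddSubgroup.mem_bot] at h1
    rw [h1, map_zero])
  -- a functional on `Y` fixed by `A`
  let ψ : A →* AddMonoid.End Y :=
    { toFun := fun a => AddMonoidHom.mk' (fun y => ⟨φ (a : P) y, hYinv a a.2 y y.2⟩)
        fun y z => Subtype.ext (map_add (φ (a : P)) (y : V) z)
      map_one' := DFunLike.ext (F := AddMonoid.End Y) _ _ fun y => Subtype.ext (phi_one (y : V))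
      map_mul' := fun a b => DFunLike.ext (F := AddMonoid.End Y) _ _ fun y =>
        Subtype.ext (phi_mul (a : P) b (y : V)) }
  have hcharY : ∀ y : Y, p • y = 0 := fun y => Subtype.ext (hc.char y)
  have htop : (⊤ : AddSubgroup (Y →+ ZMod p)) ≠ ⊥ := by
    haveI : Nontrivial Y := (AddSubgroup.nontrivial_iff_ne_bot Y).2 hYne
    obtain ⟨y, hy⟩ := exists_ne (0 : Y)
    obtain ⟨f, -, hf⟩ := exists_functional hcharY (U := (⊥ : AddSubgroup Y)) (v := y)
      (fun h0 => hy ((AddSubgroup.mem_bot).1 h0))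
    intro h0
    have h1 : f ∈ (⊥ : AddSubgroup (Y →+ ZMod p)) := h0 ▸ AddSubgroup.mem_top f
    exact hf (by rw [AddSubgroup.mem_bot.1 h1]; rfl)
  obtain ⟨f, -, hf0, hf⟩ := exists_fix_mem (dual_char p) ((isPGroup_el h.el).to_subgroup ⊤)
    (⊤ : AddSubgroup (Y →+ ZMod p)) (φ := dual p ψ) (fun _ _ _ _ => AddSubgroup.mem_top _) htop
  refine hf0 (AddMonoidHom.ext fun y => ?_)
  have hmem : (y : V) ∈ Z := hYZ y.2
  have hZY : Z ≤ Y := by
    refine (AddSubgroup.closure_le _).2 ?_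
    rintro w ⟨a, ha, z, hz, rfl⟩
    exact AddSubgroup.subset_closure ⟨a, ha, z, rfl⟩
  suffices hall : ∀ z, ∀ hz : z ∈ Z, f ⟨z, hZY hz⟩ = 0 from hall _ hmem
  intro z hz
  induction hz using AddSubgroup.closure_induction with
  | mem w hw =>
    obtain ⟨a, ha, z, hz, rfl⟩ := hw
    exact (dual_fix_iff.1 hf) ⟨a, ha⟩ (mem_top _) ⟨z, hz⟩
  | zero => exact map_zero f
  | add u w hu hw hu' hw' =>
    rw [show (⟨u + w, hZY (Z.add_mem hu hw)⟩ : Y) = ⟨u, hZY hu⟩ + ⟨w, hZY hw⟩ from rfl, map_add,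
      hu', hw', add_zero]
  | neg u hu hu' =>
    rw [show (⟨-u, hZY (Z.neg_mem hu)⟩ : Y) = -⟨u, hZY hu⟩ from rfl, map_neg, hu', neg_zero]

end Ctx

end Cfsg.Lib.FFModule
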