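import Cfsg.Agent.PLocal.FFSLTwo.Field
import Cfsg.Prelude.Def_LocalEven
import Cfsg.Agent.Thompson.ElemToolkit

/-!
Faithful modules of `p`-minimal groups without fixed vectors and fixed functionals: generalities.
-/

set_option autoImplicit false
set_option linter.unusedSectionVars false
set_option linter.style.haveILetI false

namespace Cfsg.Lib.FFModule

open Subgroup Cfsg.Lib.FFSLTwo

variable {P : Type*} [Group P] [Finite P] {V : Type*} [AddCommGroup V] [Finite V]
variable {p : ℕ} [Fact p.Prime] {φ : P →* AddMonoid.End V}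

/-! ### conjugates -/

theorem cj_one (A : Subgroup P) : cj 1 A = A := by
  ext a; simp [mem_cj]

theorem cj_mul (g h : P) (A : Subgroup P) : cj g (cj h A) = cj (g * h) A := by
  ext a; simp only [mem_cj, mul_inv_rev, mul_assoc]

theorem cj_inv_cj (g : P) (A : Subgroup P) : cj g⁻¹ (cj g A) = A := by
  rw [cj_mul, inv_mul_cancel, cj_one]

theorem cj_cj_inv (g : P) (A : Subgroup P) : cj g (cj g⁻¹ A) = A := by
  rw [cj_mul, mul_inv_cancel, cj_one]

theorem cj_le_cj {g : P} {A B : Subgroup P} : cj g A ≤ cj g B ↔ A ≤ B := by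
  constructor
  · intro h
    have h1 := map_mono (f := (MulAut.conj g⁻¹).toMonoidHom) h
    change cj g⁻¹ (cj g A) ≤ cj g⁻¹ (cj g B) at h1
    rwa [cj_inv_cj, cj_inv_cj] at h1
  · exact fun h => map_mono h

theorem cj_sup (g : P) (A B : Subgroup P) : cj g (A ⊔ B) = cj g A ⊔ cj g B := map_sup _ _ _

theorem cj_inj {g : P} {A B : Subgroup P} (h : cj g A = cj g B) : A = B :=
  le_antisymm (cj_le_cj.1 h.le) (cj_le_cj.1 h.ge)

theorem cj_bot (g : P) : cj g (⊥ : Subgroup P) = ⊥ := Subgroup.map_bot _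

theorem cj_le_self {A : Subgroup P} {g : P} (hg : g ∈ A) : cj g A = A := by
  ext a
  rw [mem_cj]
  constructor
  · intro h; simpa [mul_assoc] using A.mul_mem (A.mul_mem hg h) (A.inv_mem hg)
  · intro h; exact A.mul_mem (A.mul_mem (A.inv_mem hg) h) hg

theorem card_cj (g : P) (A : Subgroup P) : Nat.card (cj g A) = Nat.card A :=
  (Nat.card_congr (A.equivMapOfInjective _ (MulAut.conj g).injective).toEquiv).symm

theorem isPGroup_cj {A : Subgroup P} (g : P) (h : IsPGroup p A) : IsPGroup p (cj g A) := h.map _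

theorem conj_mem_cj {g a : P} {A : Subgroup P} (h : a ∈ A) : g * a * g⁻¹ ∈ cj g A :=
  mem_cj.2 (by simpa [mul_assoc] using h)

theorem el_cj {A : Subgroup P} (g : P) (h : Cfsg.IsElementaryAbelian p A) :
    Cfsg.IsElementaryAbelian p (cj g A) := by
  refine ⟨⟨⟨fun x y => Subtype.ext ?_⟩⟩, fun x hx => ?_⟩
  · obtain ⟨a, ha, hxa⟩ := x.2
    obtain ⟨b, hb, hyb⟩ := y.2
    show (x : P) * y = y * x
    rw [← hxa, ← hyb, ← map_mul, ← map_mul, Cfsg.Lib.ElemToolkit.comm_of h.1 ha hb]
  · obtain ⟨a, ha, rfl⟩ := hx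
    rw [← map_pow, h.2 a ha, map_one]

/-! ### fixed points -/

theorem fixA_anti {A B : Subgroup P} (h : A ≤ B) : fixA φ B ≤ fixA φ A := fun _ hv a ha => hv a (h ha)

theorem mem_fixA_sup {A B : Subgroup P} {v : V} (hA : v ∈ fixA φ A) (hB : v ∈ fixA φ B) :
    v ∈ fixA φ (A ⊔ B) := by
  intro g hg
  rw [sup_eq_closure] at hg
  induction hg using closure_induction with
  | mem x hx => exact hx.elim (hA x) (hB x)
  | one => exact phi_one v
  | mul x y _ _ hx hy => rw [phi_mul, hy, hx]
  | inv x _ hx =>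
    calc φ x⁻¹ v = φ x⁻¹ (φ x v) := by rw [hx]
      _ = v := phi_inv_cancel x v

theorem fixA_sup (A B : Subgroup P) : fixA φ (A ⊔ B) = fixA φ A ⊓ fixA φ B :=
  le_antisymm (le_inf (fixA_anti le_sup_left) (fixA_anti le_sup_right))
    fun _ hv => mem_fixA_sup hv.1 hv.2

theorem index_fix_cj (g : P) (A : Subgroup P) : (fixA φ (cj g A)).index = (fixA φ A).index := by
  have h1 := card_fix_cj g A (⊤ : AddSubgroup V) (φ := φ) fun _ _ _ => AddSubgroup.mem_top _
  rw [inf_top_eq, inf_top_eq] at h1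
  have h2 := AddSubgroup.index_mul_card (fixA φ (cj g A))
  rw [h1, ← AddSubgroup.index_mul_card (fixA φ A)] at h2
  exact Nat.eq_of_mul_eq_mul_right Nat.card_pos h2

/-- a `p`-group fixes a nonzero vector of every nonzero invariant subgroup -/
theorem exists_fix_mem (hchar : ∀ v : V, p • v = 0) {R : Subgroup P} (hR : IsPGroup p R)
    (W : AddSubgroup V) (hW : ∀ g ∈ R, ∀ w ∈ W, φ g w ∈ W) (hne : W ≠ ⊥) :
    ∃ v ∈ W, v ≠ 0 ∧ v ∈ fixA φ R := by
  letI : MulAction R W :=
    { smul := fun g w => ⟨φ (g : P) w, hW g g.2 w w.2⟩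
      one_smul := fun w => Subtype.ext (phi_one (w : V))
      mul_smul := fun g h w => Subtype.ext (phi_mul (g : P) h (w : V)) }
  have hWp : p ∣ Nat.card W := by
    haveI : Nontrivial W := (AddSubgroup.nontrivial_iff_ne_bot W).2 hne
    obtain ⟨w, hw⟩ := exists_ne (0 : W)
    have h1 : addOrderOf w = p := addOrderOf_eq_prime (Subtype.ext (hchar (w : V))) hw
    exact h1 ▸ addOrderOf_dvd_natCard w
  obtain ⟨v, hv, hv0⟩ := hR.exists_fixed_point_of_prime_dvd_card_of_fixed_point W hWp (a := 0)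
    (fun g => Subtype.ext (map_zero (φ (g : P))))
  exact ⟨v, v.2, fun h0 => hv0 (Subtype.ext h0.symm), fun g hg => congrArg Subtype.val (hv ⟨g, hg⟩)⟩

/-! ### functionals -/

section Dual

variable (p) (φ)

/-- the contragredient action on functionals -/
def dual : P →* AddMonoid.End (V →+ ZMod p) where
  toFun g := AddMonoidHom.mk' (fun f => f.comp (φ g⁻¹ : V →+ V)) fun _ _ => rfl
  map_one' := DFunLike.ext (F := AddMonoid.End (V →+ ZMod p)) _ _ fun f => AddMonoidHom.ext fun v => by
    show f (φ (1 : P)⁻¹ v) = f v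
    rw [inv_one, phi_one]
  map_mul' g h := DFunLike.ext (F := AddMonoid.End (V →+ ZMod p)) _ _ fun f => AddMonoidHom.ext fun v => by
    show f (φ (g * h)⁻¹ v) = f (φ h⁻¹ (φ g⁻¹ v))
    rw [mul_inv_rev, phi_mul]

theorem dual_apply (g : P) (f : V →+ ZMod p) (v : V) : dual p φ g f v = f (φ g⁻¹ v) := rfl

theorem dual_char (f : V →+ ZMod p) : p • f = 0 := AddMonoidHom.ext fun v => by simp

instance : Finite (V →+ ZMod p) := Finite.of_injective _ DFunLike.coe_injective

/-- functionals vanishing on `U` -/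
def ann (U : AddSubgroup V) : AddSubgroup (V →+ ZMod p) where
  carrier := {f | ∀ u ∈ U, f u = 0}
  zero_mem' := fun _ _ => rfl
  add_mem' := fun hf hg u hu => by simp [hf u hu, hg u hu]
  neg_mem' := fun hf u hu => by simp [hf u hu]

end Dual

theorem dual_fix_iff {R : Subgroup P} {f : V →+ ZMod p} :
    f ∈ fixA (dual p φ) R ↔ ∀ g ∈ R, ∀ v, f (dd φ g v) = 0 := by
  constructor
  · intro h g hg v
    have h1 := DFunLike.congr_fun (h g⁻¹ (R.inv_mem hg)) v
    rw [dual_apply, inv_inv] at h1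
    rw [dd_apply, map_sub, h1, sub_self]
  · intro h g hg
    refine AddMonoidHom.ext fun v => ?_
    have h1 := h g⁻¹ (R.inv_mem hg) v
    rw [dd_apply, map_sub, sub_eq_zero] at h1
    exact h1

theorem exists_lin {K : Type*} [Field K] {W₀ : Type*} [AddCommGroup W₀] [Module K W₀]
    (W : Submodule K W₀) {v : W₀} (hv : v ∉ W) : ∃ f : W₀ →ₗ[K] K, f v ≠ 0 ∧ W.map f = ⊥ :=
  Submodule.exists_dual_map_eq_bot_of_notMem hv inferInstance

theorem exists_functional (hchar : ∀ v : V, p • v = 0) {U : AddSubgroup V} {v : V} (hv : v ∉ U) :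
    ∃ f ∈ ann p U, f v ≠ (0 : ZMod p) := by
  let := AddCommGroup.zmodModule (n := p) (G := V) hchar
  obtain ⟨f, hf, hfU⟩ := exists_lin (K := ZMod p) (AddSubgroup.toZModSubmodule p U) (v := v) hv
  refine ⟨f.toAddMonoidHom, fun u hu => ?_, hf⟩
  have h1 : f u ∈ (AddSubgroup.toZModSubmodule p U).map f := ⟨u, hu, rfl⟩
  rw [hfU] at h1
  exact (Submodule.mem_bot _).1 h1

theorem card_hom (hchar : ∀ v : V, p • v = 0) : Nat.card (V →+ ZMod p) = Nat.card V := by
  let := AddCommGroup.zmodModule (n := p) (G := V) hchar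
  haveI : Module.Finite (ZMod p) V := Module.Finite.of_finite
  have h1 : Nat.card (V →+ ZMod p) = Nat.card (V →ₗ[ZMod p] ZMod p) :=
    Nat.card_congr
      { toFun := AddMonoidHom.toZModLinearMap p
        invFun := LinearMap.toAddMonoidHom
        left_inv := fun _ => rfl
        right_inv := fun _ => rfl }
  rw [h1, Module.natCard_eq_pow_finrank (K := ZMod p) (V := V →ₗ[ZMod p] ZMod p),
    Module.natCard_eq_pow_finrank (K := ZMod p) (V := V)]
  congr 1
  exact Subspace.dual_finrank_eq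

theorem card_ann (hchar : ∀ v : V, p • v = 0) (U : AddSubgroup V) :
    Nat.card (ann p U) = U.index := by
  have hq : ∀ x : V ⧸ U, p • x = 0 := fun x => by
    obtain ⟨v, rfl⟩ := QuotientAddGroup.mk'_surjective U x
    rw [← map_nsmul, hchar, map_zero]
  rw [AddSubgroup.index, ← card_hom hq]
  refine Nat.card_congr
    { toFun := fun f => QuotientAddGroup.lift U f.1 fun u hu => f.2 u hu
      invFun := fun f => ⟨f.comp (QuotientAddGroup.mk' U), fun u hu => by
        show f (QuotientAddGroup.mk u) = 0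
        rw [(QuotientAddGroup.eq_zero_iff u).2 hu, map_zero]⟩
      left_inv := fun f => Subtype.ext (AddMonoidHom.ext fun v => rfl)
      right_inv := fun f => by
        refine AddMonoidHom.ext fun x => ?_
        obtain ⟨v, rfl⟩ := QuotientAddGroup.mk'_surjective U x
        rfl }

theorem index_inf_le (U W : AddSubgroup V) : (U ⊓ W).index ≤ U.index * W.index :=
  AddSubgroup.index_inf_le

theorem index_inf_mul_sup (U W : AddSubgroup V) :
    (U ⊓ W).index * (U ⊔ W).index = U.index * W.index := by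
  have h := card_sup_mul_card_inf U W
  refine Nat.eq_of_mul_eq_mul_right (Nat.mul_pos (Nat.card_pos (α := U)) (Nat.card_pos (α := W))) ?_
  calc (U ⊓ W).index * (U ⊔ W).index * (Nat.card U * Nat.card W)
      = ((U ⊓ W).index * Nat.card ↥(U ⊓ W)) * ((U ⊔ W).index * Nat.card ↥(U ⊔ W)) := by rw [← h]; ring
    _ = (U.index * Nat.card U) * (W.index * Nat.card W) := by
      simp only [AddSubgroup.index_mul_card]
    _ = _ := by ring

theorem eq_of_le_of_index_le {U W : AddSubgroup V} (h : U ≤ W) (h' : U.index ≤ W.index) : U = W := by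
  refine AddSubgroup.eq_of_le_of_card_ge h ?_
  refine Nat.le_of_mul_le_mul_left ?_ (Nat.pos_of_ne_zero (AddSubgroup.index_ne_zero_of_finite (H := U)))
  calc U.index * Nat.card W ≤ W.index * Nat.card W := Nat.mul_le_mul_right _ h'
    _ = U.index * Nat.card U := by simp only [AddSubgroup.index_mul_card]

end Cfsg.Lib.FFModule
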