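import Cfsg.Agent.PLocal.FFModule.Global

/-!
The outer members fall into blocks; members of different blocks commute.
-/

set_option autoImplicit false
set_option linter.unusedSectionVars false
set_option linter.style.haveILetI false

namespace Cfsg.Lib.FFModule

open Subgroup Cfsg.Lib.FFSLTwo

variable {P : Type*} [Group P] [Finite P] {V : Type*} [AddCommGroup V] [Finite V]
variable {p : ℕ} [Fact p.Prime] {φ : P →* AddMonoid.End V} {q : ℕ}

/-- a decomposition of the members into blocks -/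
structure Blocks (T : Subgroup P) (q : ℕ) (𝓜 : Subgroup P → Prop) (r : ℕ)
    (Δ : Fin r → Set (Subgroup P)) : Prop where
  pos : 1 ≤ r
  mem : ∀ {i x}, x ∈ Δ i → 𝓜 x
  nc : ∀ {i x y}, x ∈ Δ i → y ∈ Δ i → x ≠ y → ¬ Comm x y
  two : ∀ i, ∃ x ∈ Δ i, ∃ y ∈ Δ i, x ≠ y
  comm : ∀ {i j x y}, i ≠ j → x ∈ Δ i → y ∈ Δ j → Comm x y
  cover : ∀ {m}, 𝓜 m → ∃ i, m ≤ sSup (Δ i)
  gen : (⨆ i, sSup (Δ i)) ⊔ T = ⊤
  trans : ∀ i j, ∃ t ∈ T, FFSLTwo.cj t (sSup (Δ i)) = sSup (Δ j)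
  big : 2 < q → ∀ {i x y}, x ∈ Δ i → y ∈ Δ i → x ≠ y → x ⊔ y = sSup (Δ i)
  small : q = 2 → ∀ i, ∃ n, 1 ≤ n ∧ Nat.card (Δ i) = 2 ^ n

theorem cj_sSup_le {g : P} {s t : Set (Subgroup P)} (h : ∀ x ∈ s, FFSLTwo.cj g x ∈ t) :
    FFSLTwo.cj g (sSup s) ≤ sSup t :=
  map_le_iff_le_comap.2 (sSup_le fun x hx => map_le_iff_le_comap.1 (le_sSup (h x hx)))

namespace Glob

variable {T : Sylow p P} {M : Subgroup P} (g : Glob p φ q T M)
include g

theorem cj_inSyl {t : P} (ht : t ∈ (T : Subgroup P)) {A : Subgroup P} (hA : A ∈ g.inSyl) :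
    FFSLTwo.cj t A ∈ g.inSyl := ⟨hA.1.conj t, by
  rintro _ ⟨z, hz, rfl⟩
  exact (T : Subgroup P).mul_mem ((T : Subgroup P).mul_mem ht (hA.2 hz)) ((T : Subgroup P).inv_mem ht)⟩

theorem cj_outer {t : P} (ht : t ∈ M) {B : Subgroup P} (hB : B ∈ g.outer) :
    FFSLTwo.cj t B ∈ g.outer := ⟨hB.1.conj t, fun hle => hB.2 (by
  rw [← cj_inv_cj t B]
  exact (cj_le_cj.2 hle).trans (by
    rintro _ ⟨z, hz, rfl⟩
    exact M.mul_mem (M.mul_mem (M.inv_mem ht) hz) (M.inv_mem (M.inv_mem ht))))⟩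

/-- the third lines of two outer members of different classes lie inside -/
theorem middle {A A' x y m : Subgroup P} (hA : A ∈ g.inSyl) (hA' : A' ∈ g.inSyl) (hx : x ∈ g.outer)
    (hy : y ∈ g.outer) (hAx : ¬ Comm A x) (hA'y : ¬ Comm A' y) (hne : A ≠ A') (hxy : ¬ Comm x y)
    (hm : IsLine φ (Mem p φ q) x y m) (hmx : m ≠ x) (hmy : m ≠ y) :
    m ≤ M ∧ ¬ Comm A m ∧ ¬ Comm A' m := by
  have h1 : ¬ Comm A m := g.ff.nc_line hx.1 hy.1 hxy (isLine_right hy.1) (isLine_left hx.1) hm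
    (g.other_comm hA' hA hy hA'y hne) hAx hmy
  have h2 : ¬ Comm A' m := g.ff.nc_line hx.1 hy.1 hxy (isLine_left hx.1) (isLine_right hy.1) hm
    (g.other_comm hA hA' hx hAx hne.symm) hA'y hmx
  exact ⟨by_contra fun h => hne (g.single hA hA' ⟨hm.1, h⟩ h1 h2), h1, h2⟩

theorem same_class {A x y : Subgroup P} (hA : A ∈ g.inSyl) (hx : x ∈ g.outer) (hy : y ∈ g.outer)
    (hAx : ¬ Comm A x) (hAy : ¬ Comm A y) (hne : x ≠ y) : ¬ Comm x y :=
  g.ff.line_nc hA.1 hx.1 hAx (isLine_right hx.1) (g.class_line hA hx hy hAx hAy) hne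

/-- not commuting is transitive on outer members -/
theorem nc_trans {x y z : Subgroup P} (hx : x ∈ g.outer) (hy : y ∈ g.outer) (hz : z ∈ g.outer)
    (hxy : ¬ Comm x y) (hyz : ¬ Comm y z) (hne : x ≠ z) : ¬ Comm x z := by
  intro hxz
  have ff := g.ff
  obtain ⟨A, hA, hAx⟩ := g.exists_nc hx
  obtain ⟨B, hB, hBy⟩ := g.exists_nc hy
  obtain ⟨C, hC, hCz⟩ := g.exists_nc hz
  have hxy' := ff.ne_of_nc hx.1 hxy
  by_cases hAC : A = C
  · exact g.same_class hA hx hz hAx (hAC ▸ hCz) hne hxz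
  by_cases hAB : A = B
  · subst hAB
    have hy' := g.class_line hA hx hy hAx hBy
    refine hyz (ff.comm_of_two hA.1 hx.1 hAx (Y := z) (isLine_left hA.1) (isLine_right hx.1)
      (ff.ne_of_nc hA.1 hAx) hy' ?_ hxz.symm).symm
    exact (g.other_comm hC hA hz hCz hAC).symm
  by_cases hBC : B = C
  · subst hBC
    have hy' := g.class_line hB hz hy hCz hBy
    exact hxy (ff.comm_of_two hB.1 hz.1 hCz (Y := x) (isLine_left hB.1) (isLine_right hz.1)
      (ff.ne_of_nc hB.1 hCz) hy' (g.other_comm hA hB hx hAx (Ne.symm hAB)).symm hxz)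
  obtain ⟨a, ha, ha1⟩ := ff.exists_ne_one hx.1
  obtain ⟨hm, hmx, hmy⟩ := ff.exists_third hx.1 hy.1 hxy ha ha1
  set m := FFSLTwo.cj a y
  obtain ⟨hmM, hAm, hBm⟩ := g.middle hA hB hx hy hAx hBy hAB hxy hm hmx hmy
  have hzm : ¬ Comm z m := ff.nc_line hx.1 hy.1 hxy (isLine_left hx.1) (isLine_right hy.1) hm
    hxz.symm (fun h => hyz h.symm) hmx
  have hmz : ¬ Comm m z := fun h => hzm h.symm
  obtain ⟨b, hb, hb1⟩ := ff.exists_ne_one hm.1
  obtain ⟨hZ, hZm, hZz⟩ := ff.exists_third hm.1 hz.1 hmz hb hb1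
  set Z := FFSLTwo.cj b z
  have hZo : Z ∈ g.outer := ⟨hZ.1, fun hle => hz.2 (le_sup_right.trans
    (g.two_inner hm.1 hz.1 hmz (isLine_left hm.1) hZ hZm.symm hmM hle))⟩
  have hCm : Comm C m := ff.comm_of_two hx.1 hy.1 hxy (Y := C) (isLine_left hx.1) (isLine_right hy.1)
    hxy' hm (g.other_comm hA hC hx hAx (Ne.symm hAC)) (g.other_comm hB hC hy hBy (Ne.symm hBC))
  have h1 : ¬ Comm C Z := ff.nc_line hm.1 hz.1 hmz (isLine_left hm.1) (isLine_right hz.1) hZ hCm hCz hZm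
  have h2 : ¬ Comm A Z := ff.nc_line hm.1 hz.1 hmz (isLine_right hz.1) (isLine_left hm.1) hZ
    (g.other_comm hC hA hz hCz hAC) hAm hZz
  exact hAC (g.single hA hC hZo h2 h1)

/-- the Sylow subgroup is transitive on the outer members -/
theorem outer_transitive {x y : Subgroup P} (hx : x ∈ g.outer) (hy : y ∈ g.outer) :
    ∃ t ∈ (T : Subgroup P), FFSLTwo.cj t x = y := by
  obtain ⟨A, hA, hAx⟩ := g.exists_nc hx
  obtain ⟨B, hB, hBy⟩ := g.exists_nc hy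
  obtain ⟨t, ht, htA⟩ := g.transitive hA hB
  have h1 : ¬ Comm B (FFSLTwo.cj t x) := by rw [← htA, comm_cj_iff]; exact hAx
  have hl := g.class_line hB (g.cj_outer (g.hTM ht) hx) hy h1 hBy
  rcases g.ff.line_eq hB.1 (hx.1.conj t) h1 hl with he | ⟨b, hb, he⟩
  · exact absurd (he ▸ g.inSyl_le hB) hy.2
  · exact ⟨b * t, (T : Subgroup P).mul_mem (hB.2 hb) ht, by rw [he, cj_mul]⟩

/-- every member lies in the product of two outer members that do not commute -/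
theorem exists_pair {m : Subgroup P} (hm : Mem p φ q m) :
    ∃ x ∈ g.outer, ∃ y ∈ g.outer, ¬ Comm x y ∧ m ≤ x ⊔ y := by
  have ff := g.ff
  by_cases hmM : m ≤ M
  · obtain ⟨B, hB, hmB⟩ := g.exists_outer_nc hm
    obtain ⟨a, ha, ha1⟩ := ff.exists_ne_one hm
    obtain ⟨hl, hlm, hlB⟩ := ff.exists_third hm hB.1 hmB ha ha1
    refine ⟨B, hB, _, ⟨hl.1, fun hle => hB.2 (le_sup_right.trans
      (g.two_inner hm hB.1 hmB (isLine_left hm) hl hlm.symm hmM hle))⟩,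
      ff.line_nc hm hB.1 hmB (isLine_right hB.1) hl hlB.symm, ?_⟩
    rw [ff.line_sup hm hB.1 hmB (isLine_right hB.1) hl hlB.symm]
    exact le_sup_left
  · have hmo : m ∈ g.outer := ⟨hm, hmM⟩
    obtain ⟨A, hA, hAm⟩ := g.exists_nc hmo
    obtain ⟨a, ha, ha1⟩ := ff.exists_ne_one hA.1
    exact ⟨m, hmo, _, g.cj_outer (g.inSyl_le hA ha) hmo,
      ff.line_nc hA.1 hm hAm (isLine_right hm) (ff.line_cj_right hm (mem_sup_left ha))
        (ff.cj_ne hA.1 hm hAm ha ha1).symm, le_sup_left⟩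

/-- outer members not commuting are of one class when `q` is not two -/
theorem class_eq (hq : 2 < q) {A A' x y : Subgroup P} (hA : A ∈ g.inSyl) (hA' : A' ∈ g.inSyl)
    (hx : x ∈ g.outer) (hy : y ∈ g.outer) (hAx : ¬ Comm A x) (hA'y : ¬ Comm A' y)
    (hxy : ¬ Comm x y) : A = A' := by
  classical
  by_contra hne
  have ff := g.ff
  obtain ⟨a, ha, ha1⟩ := ff.exists_ne_one hx.1
  obtain ⟨a', ha', ha'1, haa⟩ : ∃ a' ∈ x, a' ≠ 1 ∧ a' ≠ a := by
    by_contra h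
    push Not at h
    have h1 : (x : Set P) ⊆ {1, a} := fun z hz => by
      by_cases hz1 : z = 1
      · exact Or.inl hz1
      · exact Or.inr (h z hz hz1)
    have h2 := Set.ncard_le_ncard h1 (Set.toFinite _)
    rw [← Nat.card_coe_set_eq] at h2
    change Nat.card x ≤ _ at h2
    rw [ff.card hx.1, Set.ncard_pair (Ne.symm ha1)] at h2
    omega
  obtain ⟨h1, h1x, h1y⟩ := ff.exists_third hx.1 hy.1 hxy ha ha1
  obtain ⟨h2, h2x, h2y⟩ := ff.exists_third hx.1 hy.1 hxy ha' ha'1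
  exact hx.2 (le_sup_left.trans (g.two_inner hx.1 hy.1 hxy h1 h2
    (fun he => haa (ff.third_inj hx.1 hy.1 hxy ha ha' he).symm)
    (g.middle hA hA' hx hy hAx hA'y hne hxy h1 h1x h1y).1
    (g.middle hA hA' hx hy hAx hA'y hne hxy h2 h2x h2y).1))

/-- the block decomposition -/
theorem exists_blocks : ∃ (r : ℕ) (Δ : Fin r → Set (Subgroup P)),
    Blocks (T : Subgroup P) q (Mem p φ q) r Δ := by
  classical
  have ff := g.ff
  let rel : g.outer → g.outer → Prop := fun x y => x = y ∨ ¬ Comm (x : Subgroup P) y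
  have hrel : Equivalence rel := by
    refine ⟨fun x => Or.inl rfl, ?_, ?_⟩
    · rintro x y (rfl | h)
      exacts [Or.inl rfl, Or.inr fun h' => h h'.symm]
    · rintro x y z (rfl | h) (rfl | h')
      exacts [Or.inl rfl, Or.inr h', Or.inr h, (eq_or_ne x z).imp id fun hne =>
        g.nc_trans x.2 y.2 z.2 h h' fun he => hne (Subtype.ext he)]
  let st : Setoid g.outer := ⟨rel, hrel⟩
  let e : Quotient st ≃ Fin (Nat.card (Quotient st)) := Finite.equivFin _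
  let Δ : Fin (Nat.card (Quotient st)) → Set (Subgroup P) :=
    fun i => {x | ∃ h : x ∈ g.outer, e (Quotient.mk st ⟨x, h⟩) = i}
  have hsame : ∀ {i x y}, x ∈ Δ i → y ∈ Δ i → x = y ∨ ¬ Comm x y := by
    rintro i x y ⟨hx, rfl⟩ ⟨hy, he⟩
    exact (Quotient.exact (e.injective he.symm)).imp (congrArg Subtype.val) id
  have hin : ∀ {i x y}, x ∈ Δ i → y ∈ g.outer → (x = y ∨ ¬ Comm x y) → y ∈ Δ i := by
    rintro i x y ⟨hx, rfl⟩ hy h
    exact ⟨hy, congrArg e (Quotient.sound (h.imp (fun he => Subtype.ext he.symm) (fun h' h'' => h' h''.symm)))⟩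
  have hne : ∀ i, ∃ x, x ∈ Δ i := by
    intro i
    obtain ⟨⟨x, hx⟩, hh⟩ := Quotient.exists_rep (e.symm i)
    exact ⟨x, hx, by rw [show Quotient.mk st ⟨x, hx⟩ = e.symm i from hh, e.apply_symm_apply]⟩
  have hpair : ∀ {i x}, x ∈ Δ i → ∀ A ∈ g.inSyl, ¬ Comm A x → ∀ {a}, a ∈ A → a ≠ 1 →
      FFSLTwo.cj a x ∈ Δ i ∧ x ≠ FFSLTwo.cj a x := by
    intro i x hx A hA hAx a ha ha1
    have h1 := (ff.cj_ne hA.1 hx.1.1 hAx ha ha1).symm
    refine ⟨hin hx (g.cj_outer (g.inSyl_le hA ha) hx.1) (Or.inr ?_), h1⟩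
    exact ff.line_nc hA.1 hx.1.1 hAx (isLine_right hx.1.1) (ff.line_cj_right hx.1.1 (mem_sup_left ha)) h1
  have hmap : ∀ {i j x t}, t ∈ (T : Subgroup P) → x ∈ Δ i → FFSLTwo.cj t x ∈ Δ j →
      ∀ y ∈ Δ i, FFSLTwo.cj t y ∈ Δ j := by
    intro i j x t ht hx htx y hy
    exact hin htx (g.cj_outer (g.hTM ht) hy.1)
      ((hsame hx hy).imp (congrArg (FFSLTwo.cj t)) fun h h' => h ((comm_cj_iff t).1 h'))
  have htrans : ∀ i j, ∃ t ∈ (T : Subgroup P), FFSLTwo.cj t (sSup (Δ i)) = sSup (Δ j) := by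
    intro i j
    obtain ⟨x, hx⟩ := hne i
    obtain ⟨y, hy⟩ := hne j
    obtain ⟨t, ht, hxy⟩ := g.outer_transitive hx.1 hy.1
    refine ⟨t, ht, le_antisymm (cj_sSup_le (hmap ht hx (hxy.symm ▸ hy))) ?_⟩
    rw [← cj_cj_inv t (sSup (Δ j))]
    refine cj_le_cj.2 (cj_sSup_le (hmap ((T : Subgroup P).inv_mem ht) hy ?_))
    rw [← hxy, cj_inv_cj]
    exact hx
  obtain ⟨A₀, hA₀⟩ := g.nonempty
  obtain ⟨B₀, hB₀, -⟩ := g.exists_outer_nc hA₀.1
  refine ⟨Nat.card (Quotient st), Δ,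
    { pos := ?_, mem := fun hx => hx.1.1, nc := fun hx hy h => (hsame hx hy).resolve_left h,
      two := ?_, comm := ?_, cover := ?_, gen := ?_, trans := htrans, big := ?_, small := ?_ }⟩
  · haveI : Nonempty (Quotient st) := ⟨Quotient.mk st ⟨B₀, hB₀⟩⟩
    exact Nat.card_pos
  · intro i
    obtain ⟨x, hx⟩ := hne i
    obtain ⟨A, hA, hAx⟩ := g.exists_nc hx.1
    obtain ⟨a, ha, ha1⟩ := ff.exists_ne_one hA.1
    exact ⟨x, hx, _, (hpair hx A hA hAx ha ha1).1, (hpair hx A hA hAx ha ha1).2⟩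
  · intro i j x y hij hx hy
    by_contra h
    obtain ⟨hy', he⟩ := hin hx hy.1 (Or.inr h)
    exact hij (he.symm.trans hy.2)
  · intro m hm
    obtain ⟨x, hx, y, hy, hxy, hle⟩ := g.exists_pair hm
    refine ⟨e (Quotient.mk st ⟨x, hx⟩), hle.trans (_root_.sup_le (le_sSup ⟨hx, rfl⟩) (le_sSup ?_))⟩
    exact hin ⟨hx, rfl⟩ hy (Or.inr hxy)
  · by_contra hne'
    refine hB₀.2 ((le_sSup (show B₀ ∈ Δ (e (Quotient.mk st ⟨B₀, hB₀⟩)) from ⟨hB₀, rfl⟩)).trans
      ((le_iSup (fun i => sSup (Δ i)) _).trans (le_sup_left.trans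
        (g.hc.uniq g.hM g.hTM le_sup_right hne'))))
  · intro hq i x y hx hy hxy
    obtain ⟨A, hA, hAx⟩ := g.exists_nc hx.1
    have hline : ∀ z ∈ Δ i, IsLine φ (Mem p φ q) A x z := by
      intro z hz
      rcases hsame hx hz with rfl | h
      · exact isLine_right hx.1.1
      · obtain ⟨A', hA', hA'z⟩ := g.exists_nc hz.1
        exact g.class_line hA hx.1 hz.1 hAx ((g.class_eq hq hA hA' hx.1 hz.1 hAx hA'z h) ▸ hA'z)
    refine le_antisymm (_root_.sup_le (le_sSup hx) (le_sSup hy)) (_root_.sSup_le fun z hz => ?_)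
    rw [ff.line_sup hA.1 hx.1.1 hAx (isLine_right hx.1.1) (hline y hy) hxy]
    exact ff.line_le hA.1 hx.1.1 hAx (hline z hz)
  · intro hq i
    obtain ⟨x, hx⟩ := hne i
    obtain ⟨A, hA, hAx⟩ := g.exists_nc hx.1
    obtain ⟨a, ha, ha1⟩ := ff.exists_ne_one hA.1
    obtain ⟨hy, hxy⟩ := hpair hx A hA hAx ha ha1
    obtain ⟨k, hk⟩ := hA.1.q_pow g.hc g.hq
    have hp2 : p = 2 := by
      rw [hq] at hk
      exact (Nat.prime_dvd_prime_iff_eq (Fact.out : p.Prime) Nat.prime_two).1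
        (hk.symm ▸ dvd_pow_self p (fun h0 => by rw [h0, pow_zero] at hk; omega))
    let S : Subgroup P :=
      { carrier := {t | t ∈ (T : Subgroup P) ∧ FFSLTwo.cj t x ∈ Δ i}
        one_mem' := ⟨one_mem _, by rw [cj_one]; exact hx⟩
        mul_mem' := fun {s t} hs ht => ⟨(T : Subgroup P).mul_mem hs.1 ht.1, by
          rw [← cj_mul]
          exact hmap hs.1 hx hs.2 _ ht.2⟩
        inv_mem' := fun {t} ht => ⟨(T : Subgroup P).inv_mem ht.1,
          hmap ((T : Subgroup P).inv_mem ht.1) ht.2 (by rw [cj_inv_cj]; exact hx) x hx⟩ }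
    letI : MulAction S (Subgroup P) :=
      { smul := fun t X => FFSLTwo.cj (t : P) X
        one_smul := fun X => cj_one X
        mul_smul := fun s t X => (cj_mul (s : P) t X).symm }
    have horb : MulAction.orbit S x = Δ i := by
      ext y
      constructor
      · rintro ⟨t, rfl⟩
        exact t.2.2
      · intro hy'
        obtain ⟨t, ht, hty⟩ := g.outer_transitive hx.1 hy'.1
        exact ⟨⟨t, ht, hty.symm ▸ hy'⟩, hty⟩
    have hS : IsPGroup p S := T.2.to_le fun t ht => ht.1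
    obtain ⟨n, hn⟩ := hS.card_orbit x
    rw [horb, hp2] at hn
    refine ⟨n, Nat.pos_of_ne_zero fun h0 => ?_, hn⟩
    rw [h0, pow_zero] at hn
    haveI := (Nat.card_eq_one_iff_unique.1 hn).1
    exact hxy (congrArg Subtype.val (Subsingleton.elim (⟨x, hx⟩ : Δ i) ⟨_, hy⟩))

end Glob

end Cfsg.Lib.FFModule
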