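import Cfsg.Agent.PLocal.FFModule.Member

/-!
Distinct commuting members have complementary fixed spaces.
-/

set_option autoImplicit false
set_option linter.unusedSectionVars false
set_option linter.style.haveILetI false

namespace Cfsg.Lib.FFModule

open Subgroup Cfsg.Lib.FFSLTwo

variable {P : Type*} [Group P] [Finite P] {V : Type*} [AddCommGroup V] [Finite V]
variable {p : ℕ} [Fact p.Prime] {φ : P →* AddMonoid.End V}

theorem exists_sub_ne {F : Type*} [AddGroup F] [Finite F] (h : 2 < Nat.card F) (r : F) :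
    ∃ r₁ r₂ : F, r₁ ≠ 0 ∧ r₂ ≠ 0 ∧ r₁ - r₂ = r := by
  haveI : Fintype F := Fintype.ofFinite F
  classical
  have h1 : ({0, -r} : Finset F).card < Fintype.card F := by
    rw [← Nat.card_eq_fintype_card]
    exact lt_of_le_of_lt (Finset.card_le_two) h
  obtain ⟨r₂, hr₂⟩ : ∃ x : F, x ∉ ({0, -r} : Finset F) := by
    by_contra hc
    push Not at hc
    rw [Finset.eq_univ_of_forall hc, Finset.card_univ] at h1
    omega
  simp only [Finset.mem_insert, Finset.mem_singleton, not_or] at hr₂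
  exact ⟨r + r₂, r₂, fun h0 => hr₂.2 (eq_neg_of_add_eq_zero_right h0), hr₂.1, add_sub_cancel_right r r₂⟩

theorem elementary_sup_finset {ι : Type*} (s : Finset ι) (C : ι → Subgroup P)
    (hel : ∀ i, Cfsg.IsElementaryAbelian p (C i)) (hcomm : ∀ i j, Comm (C i) (C j)) :
    Cfsg.IsElementaryAbelian p (s.sup C : Subgroup P) ∧ ∀ j, Comm (s.sup C : Subgroup P) (C j) := by
  classical
  induction s using Finset.induction_on with
  | empty =>
    rw [Finset.sup_empty]
    refine ⟨⟨inferInstance, fun a ha => by rw [mem_bot.1 ha, one_pow]⟩, fun j a ha b hb => ?_⟩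
    rw [mem_bot.1 ha, one_mul, mul_one]
  | @insert i t hit ih =>
    rw [Finset.sup_insert]
    refine ⟨Cfsg.Lib.ElemToolkit.elementary_sup (hel i) ih.1 (ih.2 i).symm, fun j a ha b hb => ?_⟩
    have h1 : C i ⊔ t.sup C ≤ centralizer (C j : Set P) := sup_le
      (fun x hx => mem_centralizer_iff.2 fun y hy => (hcomm i j x hx y hy).symm)
      (fun x hx => mem_centralizer_iff.2 fun y hy => (ih.2 j x hx y hy).symm)
    exact (mem_centralizer_iff.1 (h1 ha) b hb).symm

theorem card_sup_comm {A B : Subgroup P} (h : Comm A B) :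
    Nat.card ↥(A ⊔ B) ≤ Nat.card A * Nat.card B := by
  have hAn : A ≤ normalizer (B : Set P) := fun a ha => centralizer_le_normalizer _
    (mem_centralizer_iff.2 fun b hb => (h a ha b hb).symm)
  rw [← Nat.card_prod]
  refine Nat.card_le_card_of_surjective
    (fun z : A × B => (⟨z.1 * z.2, mul_mem (mem_sup_left z.1.2) (mem_sup_right z.2.2)⟩ : ↥(A ⊔ B)))
    fun x => ?_
  have hx := x.2
  rw [← SetLike.mem_coe, coe_mul_of_left_le_normalizer_right A B hAn, Set.mem_mul] at hx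
  obtain ⟨a, ha, b, hb, hab⟩ := hx
  exact ⟨(⟨a, ha⟩, ⟨b, hb⟩), Subtype.ext hab⟩

section

variable (hc : Ctx p φ) {q : ℕ} (hq : Least p φ q)
include hc hq

theorem Mem.index_inf_mul {A B : Subgroup P} (hA : Mem p φ q A) (hB : Mem p φ q B) :
    (fixA φ A ⊓ fixA φ B).index * (fixA φ A ⊔ fixA φ B).index = q * q := by
  rw [index_inf_mul_sup, hA.index hc hq, hB.index hc hq]

/-- a nontrivial offender inside the product of two commuting members contains a member -/
theorem exists_mem_in {A B : Subgroup P} (hA : Mem p φ q A) (hB : Mem p φ q B) (hcomm : Comm A B)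
    {Z : Subgroup P} (hZ : Z ≤ A ⊔ B) (hne : Z ≠ ⊥) (hoff : (fixA φ Z).index ≤ Nat.card Z) :
    ∃ C : Subgroup P, C ≤ Z ∧ Mem p φ q C := by
  classical
  have hel : Cfsg.IsElementaryAbelian p (A ⊔ B) :=
    Cfsg.Lib.ElemToolkit.elementary_sup hA.el hB.el hcomm
  obtain ⟨Y, ⟨hYZ, hY0, hYoff⟩, hmin⟩ := Set.exists_min_image
    {Y : Subgroup P | Y ≤ Z ∧ Y ≠ ⊥ ∧ (fixA φ Y).index ≤ Nat.card Y}
    (fun Y => Nat.card Y) (Set.toFinite _) ⟨Z, le_rfl, hne, hoff⟩
  have hYel := Cfsg.Lib.ElemToolkit.elementary_mono (hYZ.trans hZ) hel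
  have hstr : Strict p φ Y := ⟨hY0, hYel, hYoff, fun A₀ hle h0 h1 => by
    by_contra hcon
    exact h1 (eq_of_le_of_card_ge hle (hmin A₀ ⟨hle.trans hYZ, h0, not_lt.1 hcon⟩))⟩
  obtain ⟨M, x, hpf⟩ := hc.exists_preFrame hstr
  obtain ⟨hF, -⟩ := hpf.exists_frame hc
  have hqY : q ≤ Nat.card Y := hq.le Y hY0 hYel hYoff
  rcases eq_or_lt_of_le hqY with he | hlt
  · exact ⟨Y, hYZ, hYel, he.symm, he ▸ hYoff⟩
  exfalso
  obtain ⟨y, hy, hy1⟩ : ∃ y ∈ Y ⊓ A, y ≠ 1 := by
    by_contra hcon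
    push Not at hcon
    have h0 : Y ⊓ A = ⊥ := (eq_bot_iff_forall _).2 hcon
    have h1 := Cfsg.Lib.ElemToolkit.mul_card_le Y A
    rw [h0, Subgroup.card_bot, mul_one, hA.card] at h1
    have h2 : Nat.card ↥(Y ⊔ A) ≤ Nat.card ↥(A ⊔ B) :=
      Nat.card_le_card_of_injective _ (inclusion_injective (sup_le (hYZ.trans hZ) le_sup_left))
    have h3 := card_sup_comm hcomm
    rw [hA.card, hB.card] at h3
    have h4 : q * q < Nat.card Y * q := Nat.mul_lt_mul_of_pos_right hlt (by have := hq.one_lt; omega)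
    omega
  have e : fixA φ A = fixA φ Y := le_antisymm (fun v hv => hF.cap y hy.1 hy1 v (hv y hy.2))
    fun v hv => hA.cap hc hq hy.2 hy1 (hv y hy.1)
  have h1 := hA.index hc hq
  rw [e, hF.index] at h1
  omega

/-- the product of distinct commuting members: the index of the sum of fixed spaces divides out -/
theorem Mem.commuting_structure {A B : Subgroup P} (hA : Mem p φ q A) (hB : Mem p φ q B)
    (hcomm : Comm A B) (hne : A ≠ B) (hr : fixA φ A ⊔ fixA φ B ≠ ⊤) :
    p < q ∧ (fixA φ A ⊔ fixA φ B).index = p ∧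
      ∀ y ∈ A ⊔ B, ∃ C : Subgroup P, C ≤ A ⊔ B ∧ Mem p φ q C ∧ y ∈ C := by
  classical
  have hp := (Fact.out : p.Prime)
  have hq1 := hq.one_lt
  set G := A ⊔ B with hG
  have hel : Cfsg.IsElementaryAbelian p G :=
    Cfsg.Lib.ElemToolkit.elementary_sup hA.el hB.el hcomm
  have hGc : Nat.card G = q * q := by
    refine le_antisymm ?_ ?_
    · have := card_sup_comm hcomm; rwa [hA.card, hB.card] at this
    · have := Cfsg.Lib.ElemToolkit.mul_card_le A B
      rwa [hA.inf_eq_bot hc hq hB hne, Subgroup.card_bot, mul_one, hA.card, hB.card] at this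
  set r := (fixA φ A ⊔ fixA φ B).index with hrdef
  have hK : fixA φ G = fixA φ A ⊓ fixA φ B := fixA_sup A B
  have hKr : (fixA φ G).index * r = q * q := hK ▸ hA.index_inf_mul hc hq hB
  obtain ⟨n, hn⟩ := hA.q_pow hc hq
  have hrq : r < q := by
    refine lt_of_le_of_ne (Nat.le_of_dvd (by omega)
      ((hA.index hc hq) ▸ AddSubgroup.index_dvd_of_le le_sup_left)) fun h0 => hne ?_
    refine hA.eq_of_fix hc hq hB ?_
    have e1 : fixA φ A = fixA φ A ⊔ fixA φ B :=
      eq_of_le_of_index_le le_sup_left (by rw [hA.index hc hq]; exact h0.ge)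
    have e2 : fixA φ B = fixA φ A ⊔ fixA φ B :=
      eq_of_le_of_index_le le_sup_right (by rw [hB.index hc hq]; exact h0.ge)
    exact e1.trans e2.symm
  obtain ⟨e, hen, her⟩ := (Nat.dvd_prime_pow hp).1
    (hn ▸ (hA.index hc hq) ▸ AddSubgroup.index_dvd_of_le le_sup_left : r ∣ p ^ n)
  have he0 : e ≠ 0 := fun h0 => hr (AddSubgroup.index_eq_one.1 (by rw [← hrdef, her, h0, pow_zero]))
  have hrp : p ≤ r := her ▸ Nat.le_self_pow he0 p
  have hpq : p < q := lt_of_le_of_lt hrp hrq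
  -- linear algebra on `G`
  have hGc' : IsMulCommutative G := hel.1
  letI : CommGroup G := { (inferInstance : Group G) with mul_comm := fun a b => hGc'.is_comm.comm a b }
  have hcharG : ∀ y : Additive G, p • y = 0 := fun y => by
    apply Additive.toMul.injective
    apply Subtype.ext
    show (((Additive.toMul y) ^ p : G) : P) = 1
    push_cast
    exact hel.2 _ (Additive.toMul y).2
  let kerS (f : Additive G →+ ZMod p) : Subgroup P :=
    { carrier := {g | ∃ hg : g ∈ G, f (Additive.ofMul ⟨g, hg⟩) = 0}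
      one_mem' := ⟨G.one_mem, map_zero f⟩
      mul_mem' := fun {a b} ha hb => ⟨G.mul_mem ha.1 hb.1, by
        show f (Additive.ofMul (⟨a, ha.1⟩ : G) + Additive.ofMul ⟨b, hb.1⟩) = 0
        rw [map_add, ha.2, hb.2, add_zero]⟩
      inv_mem' := fun {a} ha => ⟨G.inv_mem ha.1, by
        show f (-Additive.ofMul (⟨a, ha.1⟩ : G)) = 0
        rw [map_neg, ha.2, neg_zero]⟩ }
  have hkerle : ∀ f, kerS f ≤ G := fun f g hg => hg.1
  have hker : ∀ (H : Subgroup P), H ≤ G → ∀ f, Nat.card H ≤ Nat.card ↥(H ⊓ kerS f) * p := by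
    intro H hH f
    let g : H → ZMod p := fun h => f (Additive.ofMul (⟨h, hH h.2⟩ : G))
    have hgm : ∀ x y, g (x * y) = g x + g y := fun x y =>
      map_add f (Additive.ofMul (⟨x, hH x.2⟩ : G)) (Additive.ofMul ⟨y, hH y.2⟩)
    let r : ZMod p → H := fun z => if hz : ∃ h, g h = z then hz.choose else 1
    have hrg : ∀ x, g (r (g x)) = g x := fun x => by
      simp only [r]
      rw [dif_pos ⟨x, rfl⟩]
      exact (⟨x, rfl⟩ : ∃ x', g x' = g x).choose_spec
    let F : H → ↥(H ⊓ kerS f) × ZMod p := fun x => (⟨((r (g x))⁻¹ * x : H), (((r (g x))⁻¹ * x : H)).2,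
      hH (((r (g x))⁻¹ * x : H)).2, by
        show g ((r (g x))⁻¹ * x) = 0
        have h1 := hgm (r (g x)) ((r (g x))⁻¹ * x)
        rw [mul_inv_cancel_left, hrg] at h1
        simpa using h1⟩, g x)
    have hF : Function.Injective F := fun x y hxy => by
      have h1 : g x = g y := congrArg Prod.snd hxy
      have h2 : ((r (g x))⁻¹ * x : H) = ((r (g y))⁻¹ * y : H) :=
        Subtype.ext (congrArg (fun z : ↥(H ⊓ kerS f) × ZMod p => (z.1 : P)) hxy)
      rw [h1] at h2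
      exact mul_left_cancel h2
    have := Nat.card_le_card_of_injective F hF
    rwa [Nat.card_prod, Nat.card_zmod] at this
  have hoffd : ∀ Z : Subgroup P, Z ≤ G → q * q ≤ Nat.card Z * r →
      (fixA φ Z).index ≤ Nat.card Z := by
    intro Z hZ hle
    refine Nat.le_of_mul_le_mul_right (a := (fixA φ Z).index) ?_
      (Nat.pos_of_ne_zero AddSubgroup.index_ne_zero_of_finite : 0 < r)
    refine le_trans (Nat.mul_le_mul_right r (Nat.le_of_dvd
      (Nat.pos_of_ne_zero AddSubgroup.index_ne_zero_of_finite)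
      (AddSubgroup.index_dvd_of_le (fixA_anti hZ)))) ?_
    rw [hKr]; exact hle
  have hcommG : ∀ C D : Subgroup P, C ≤ G → D ≤ G → Comm C D := fun C D hC hD c hc' d hd =>
    Cfsg.Lib.ElemToolkit.comm_of hel.1 (hC hc') (hD hd)
  -- two members generate `G`
  have htwo : ∀ C D : Subgroup P, C ≤ G → D ≤ G → Mem p φ q C → Mem p φ q D → C ≠ D → C ⊔ D = G := by
    intro C D hC hD hCm hDm hCD
    refine eq_of_le_of_card_ge (sup_le hC hD) ?_
    have := Cfsg.Lib.ElemToolkit.mul_card_le C D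
    rwa [hCm.inf_eq_bot hc hq hDm hCD, Subgroup.card_bot, mul_one, hCm.card, hDm.card, ← hGc] at this
  have hone : ∀ f : Additive G →+ ZMod p, f ≠ 0 → ∃! C : Subgroup P, C ≤ kerS f ∧ Mem p φ q C := by
    intro f hf
    have h1 := hker G le_rfl f
    rw [inf_eq_right.2 (hkerle f), hGc] at h1
    have hne0 : kerS f ≠ ⊥ := fun h0 => by
      rw [h0, Subgroup.card_bot, one_mul] at h1
      nlinarith
    obtain ⟨C, hCf, hC⟩ := exists_mem_in hc hq hA hB hcomm (hkerle f) hne0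
      (hoffd _ (hkerle f) (h1.trans (Nat.mul_le_mul_left _ hrp)))
    refine ⟨C, ⟨hCf, hC⟩, fun D hD => ?_⟩
    by_contra hDC
    refine hf (AddMonoidHom.ext fun y => ?_)
    have h2 : ((Additive.toMul y : G) : P) ∈ kerS f :=
      (htwo C D (hCf.trans (hkerle f)) (hD.1.trans (hkerle f)) hC hD.2 (Ne.symm hDC)).ge.trans
        (sup_le hCf hD.1) (Additive.toMul y).2
    exact h2.2
  -- `r = p`
  have hrp' : r = p := by
    by_contra hrne
    have hr2 : p * p ≤ r := by
      rw [her]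
      have : 2 ≤ e := by
        by_contra h2
        have : e = 1 := by omega
        exact hrne (by rw [her, this, pow_one])
      calc p * p = p ^ 2 := (sq p).symm
        _ ≤ p ^ e := Nat.pow_le_pow_right hp.pos this
    haveI : Nontrivial G := Finite.one_lt_card_iff_nontrivial.1 (hGc ▸ by nlinarith)
    obtain ⟨y, hy⟩ := exists_ne (1 : G)
    obtain ⟨f, -, hfy⟩ := exists_functional hcharG (U := (⊥ : AddSubgroup (Additive G)))
      (v := Additive.ofMul y) (fun h0 => hy (Additive.ofMul.injective (AddSubgroup.mem_bot.1 h0)))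
    obtain ⟨C, ⟨hCf, hC⟩, hCu⟩ := hone f (fun h0 => hfy (by rw [h0]; rfl))
    obtain ⟨c, hc', hc1⟩ : ∃ c ∈ C, c ≠ 1 := FFSLTwo.exists_mem_ne_one (hC.ne_bot hc hq)
    obtain ⟨f₂, -, hf₂⟩ := exists_functional hcharG (U := (⊥ : AddSubgroup (Additive G)))
      (v := Additive.ofMul (⟨c, hkerle f (hCf hc')⟩ : G))
      (fun h0 => hc1 (congrArg Subtype.val (Additive.ofMul.injective (AddSubgroup.mem_bot.1 h0))))
    set Z := kerS f ⊓ kerS f₂
    have hZG : Z ≤ G := inf_le_left.trans (hkerle f)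
    have h1 := hker (kerS f) (hkerle f) f₂
    have h2 := hker G le_rfl f
    rw [inf_eq_right.2 (hkerle f), hGc] at h2
    have h3 : q * q ≤ Nat.card Z * (p * p) := by
      calc q * q ≤ Nat.card (kerS f) * p := h2
        _ ≤ Nat.card Z * p * p := Nat.mul_le_mul_right _ h1
        _ = _ := by ring
    have hZ0 : Z ≠ ⊥ := fun h0 => by
      rw [h0, Subgroup.card_bot, one_mul] at h3
      have := Nat.mul_lt_mul'' hpq hpq
      omega
    obtain ⟨D, hDZ, hD⟩ := exists_mem_in hc hq hA hB hcomm hZG hZ0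
      (hoffd Z hZG (h3.trans (Nat.mul_le_mul_left _ hr2)))
    have hDC : D = C := hCu D ⟨hDZ.trans inf_le_left, hD⟩
    have h4 : c ∈ kerS f₂ := (hDZ.trans inf_le_right) (hDC ▸ hc')
    exact hf₂ h4.2
  refine ⟨hpq, hrp', ?_⟩
  -- the spread
  let 𝒮 := {C : Subgroup P // C ≤ G ∧ Mem p φ q C}
  haveI : Fintype 𝒮 := Fintype.ofFinite _
  let annC (C : 𝒮) : AddSubgroup (Additive G) :=
    Subgroup.toAddSubgroup (C.1.subgroupOf G)
  have hannC : ∀ C : 𝒮, (annC C).index = q := by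
    intro C
    have h1 := AddSubgroup.index_mul_card (annC C)
    have h2 : Nat.card (annC C) = q := by
      rw [← C.2.2.card]
      exact (Nat.card_congr (subgroupOfEquivOfLe C.2.1).toEquiv)
    rw [h2, show Nat.card (Additive G) = q * q from hGc] at h1
    exact Nat.eq_of_mul_eq_mul_right (by omega) h1
  let D0 := {f : Additive G →+ ZMod p // f ≠ 0}
  let T₁ := Σ C : 𝒮, {f : ann p (annC C) // f ≠ 0}
  let toD : T₁ → D0 := fun x => ⟨x.2.1.1, fun h0 => x.2.2 (Subtype.ext h0)⟩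
  have hkeriff : ∀ (C : 𝒮) f, f ∈ ann p (annC C) ↔ C.1 ≤ kerS f := by
    intro C f
    constructor
    · intro hf g hg
      exact ⟨C.2.1 hg, hf (Additive.ofMul ⟨g, C.2.1 hg⟩) (mem_subgroupOf.2 hg)⟩
    · intro hle u hu
      have h1 : ((Additive.toMul u : G) : P) ∈ C.1 := hu
      exact (hle h1).2
  have hbij : Function.Bijective toD := by
    constructor
    · rintro ⟨C, f, hf⟩ ⟨D, f', hf'⟩ hCD
      have he : f.1 = f'.1 := congrArg Subtype.val hCD
      obtain ⟨_, _, hu⟩ := hone f.1 (fun h0 => hf (Subtype.ext h0))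
      have h1 : C = D := Subtype.ext ((hu C.1 ⟨(hkeriff C _).1 f.2, C.2.2⟩).trans
        (hu D.1 ⟨he ▸ (hkeriff D _).1 f'.2, D.2.2⟩).symm)
      subst h1
      have h2 : f = f' := Subtype.ext he
      subst h2
      rfl
    · intro f
      obtain ⟨C, ⟨hCf, hC⟩, -⟩ := hone f.1 f.2
      let C' : 𝒮 := ⟨C, hCf.trans (hkerle _), hC⟩
      exact ⟨⟨C', ⟨f.1, (hkeriff C' _).2 hCf⟩, fun h0 => f.2 (congrArg Subtype.val h0)⟩, rfl⟩
  have hcard1 : ∀ {X : Type _} [Finite X] (x : X), Nat.card {y : X // y ≠ x} + 1 = Nat.card X := by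
    intro X _ x
    haveI : Fintype X := Fintype.ofFinite X
    rw [Nat.card_eq_fintype_card, Nat.card_eq_fintype_card, Fintype.card_subtype_compl,
      Fintype.card_subtype_eq]
    have := Fintype.card_pos_iff.2 ⟨x⟩
    omega
  let G0 := {y : G // y ≠ 1}
  let T₂ := Σ C : 𝒮, {y : C.1 // y ≠ 1}
  let toG : T₂ → G0 := fun x => ⟨⟨x.2.1, x.1.2.1 x.2.1.2⟩, fun h0 => x.2.2 (Subtype.ext (congrArg (fun g : G => (g : P)) h0))⟩
  have hinj : Function.Injective toG := by
    rintro ⟨C, c, hc'⟩ ⟨D, d, hd⟩ hCD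
    have he : (c : P) = d := congrArg (fun g : G0 => ((g.1 : G) : P)) hCD
    have h1 : C = D := by
      by_contra hne'
      have h2 := C.2.2.inf_eq_bot hc hq D.2.2 (fun h0 => hne' (Subtype.ext h0))
      have h3 : (c : P) ∈ C.1 ⊓ D.1 := ⟨c.2, he ▸ d.2⟩
      rw [h2, mem_bot] at h3
      exact hc' (Subtype.ext h3)
    subst h1
    have h4 : c = d := Subtype.ext he
    subst h4
    rfl
  have hcT : Nat.card T₁ = Nat.card T₂ := by
    rw [Nat.card_sigma, Nat.card_sigma]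
    refine Finset.sum_congr rfl fun C _ => ?_
    have e1 := hcard1 (0 : ann p (annC C))
    rw [card_ann hcharG, hannC] at e1
    have e2 := hcard1 (1 : C.1)
    rw [C.2.2.card] at e2
    omega
  have hcG : Nat.card T₂ = Nat.card G0 := by
    have e1 := hcard1 (1 : G)
    have e2 := hcard1 (0 : Additive G →+ ZMod p)
    rw [card_hom hcharG, show Nat.card (Additive G) = Nat.card G from rfl] at e2
    rw [← hcT, Nat.card_eq_of_bijective toD hbij]
    exact Nat.add_right_cancel (e2.trans e1.symm)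
  intro y hy
  by_cases hy1 : y = 1
  · exact ⟨A, le_sup_left, hA, hy1 ▸ A.one_mem⟩
  obtain ⟨⟨C, c, hc'⟩, hCy⟩ := ((Nat.bijective_iff_injective_and_card toG).2 ⟨hinj, hcG⟩).2
    ⟨⟨y, hy⟩, fun h0 => hy1 (congrArg Subtype.val h0)⟩
  have he : (c : P) = y := congrArg (fun g : G0 => ((g.1 : G) : P)) hCy
  exact ⟨C.1, C.2.1, C.2.2, he ▸ c.2⟩

/-- distinct commuting members have complementary fixed spaces -/
theorem Mem.sup_top {A B : Subgroup P} (hA : Mem p φ q A) (hB : Mem p φ q B) (hcomm : Comm A B)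
    (hne : A ≠ B) : fixA φ A ⊔ fixA φ B = ⊤ := by
  classical
  by_contra hr
  obtain ⟨hpq, hrp, hspread⟩ := hA.commuting_structure hc hq hB hcomm hne hr
  have hp2 := (Fact.out : p.Prime).two_le
  obtain ⟨M₀, x₀, hpf₀, -⟩ := hA.exists_frame hc hq
  have hpf := hpf₀.rev
  obtain ⟨hF, hcoord⟩ := hpf.exists_frame hc
  rw [cj_inv_cj] at hF hcoord
  rw [card_cj, hA.card] at hcoord
  obtain ⟨F, iF, iFF, ⟨K⟩⟩ := hcoord (by omega)
  set X := FFSLTwo.cj x₀ A
  set M := FFSLTwo.cj x₀ M₀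
  have hFc : Nat.card F = q := by
    rw [Nat.card_eq_fintype_card, K.card, card_cj, hA.card]
  -- a member inside the point
  set G := A ⊔ B
  have hel : Cfsg.IsElementaryAbelian p G := Cfsg.Lib.ElemToolkit.elementary_sup hA.el hB.el hcomm
  obtain ⟨f, -, -, hsf⟩ := hc.exists_sf hF.pt (IsPGroup.of_bot : IsPGroup p ↥(⊥ : Subgroup P)) bot_le
  have hquadG : ∀ y ∈ G, ∀ z ∈ G, ∀ v, dd φ y (dd φ z v) = 0 := by
    intro y hy z hz v
    obtain ⟨C, hC, hCm, hyC⟩ := hspread y hy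
    obtain ⟨D, hD, hDm, hzD⟩ := hspread z hz
    exact hCm.zero hc hq hDm (fun c hc' d hd => Cfsg.Lib.ElemToolkit.comm_of hel.1 (hC hc') (hD hd))
      hyC hzD v
  let g : G → ann p (fixA φ G) := fun y => ⟨f.comp (dd φ (y : P) : V →+ V), fun u hu => by
    show f (dd φ (y : P) u) = 0
    rw [dd_eq_zero.2 (hu y y.2), map_zero]⟩
  have hKlt : (fixA φ G).index < Nat.card G := by
    have h1 := hA.index_inf_mul hc hq hB
    rw [hrp, ← fixA_sup] at h1
    change (fixA φ G).index * p = q * q at h1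
    have h2 : q * q ≤ Nat.card G := by
      have := Cfsg.Lib.ElemToolkit.mul_card_le A B
      rwa [hA.inf_eq_bot hc hq hB hne, Subgroup.card_bot, mul_one, hA.card, hB.card] at this
    have h3 : (fixA φ G).index < (fixA φ G).index * p :=
      lt_mul_of_one_lt_right (Nat.pos_of_ne_zero AddSubgroup.index_ne_zero_of_finite) (by omega)
    omega
  obtain ⟨y, hy1, hy0⟩ := exists_ne_ker g (fun x y => Subtype.ext (AddMonoidHom.ext fun v => by
    show f (dd φ ((x : P) * y) v) = f (dd φ (x : P) v) + f (dd φ (y : P) v)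
    rw [← map_add, dd_mul_of_zero fun w => hquadG _ x.2 _ y.2 w]))
    (by rw [card_ann hc.char]; exact hKlt)
  have hyM : (y : P) ∈ M := hsf _ fun v => DFunLike.congr_fun (congrArg Subtype.val hy0) v
  obtain ⟨C, hCG, hC, hyC⟩ := hspread _ y.2
  have hCM : C ≤ M := hC.le_pt hc hq hF.pt hyC (fun h0 => hy1 (Subtype.ext h0)) hyM
  have hCA : C ≠ A := fun h0 => hF.hX (h0 ▸ hCM)
  have hCAcomm : Comm C A := fun c hc' a ha =>
    Cfsg.Lib.ElemToolkit.comm_of hel.1 (hCG hc') (mem_sup_left ha)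
  have hCsX : ∀ c ∈ C, ∀ r, dd φ c (K.sX r) = 0 := by
    intro c hc' r
    have h := K.sX_mem r
    generalize K.sX r = w at h ⊢
    induction h using AddSubgroup.closure_induction with
    | mem w hw => obtain ⟨a, ha, v, rfl⟩ := hw; exact hC.zero hc hq hA hCAcomm hc' ha v
    | zero => exact map_zero _
    | add u w _ _ hu hw => rw [map_add, hu, hw, add_zero]
    | neg u _ hu => rw [map_neg, hu, neg_zero]
  have hCimg : ∀ c ∈ C, ∀ v, dd φ c v ∈ fixA φ A := fun c hc' v a ha =>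
    dd_eq_zero.1 (hA.zero hc hq hC hCAcomm.symm ha hc' v)
  -- translates by the torus commute
  have hinv : ∀ (μ : Fˣ) (c : P), c ∈ C → ∀ w ∈ fixA φ A,
      (φ (K.t μ) w ∈ fixA φ A ∧ dd φ c (φ (K.t μ) w) = dd φ c w) ∧
      (φ (K.t μ)⁻¹ w ∈ fixA φ A ∧ dd φ c (φ (K.t μ)⁻¹ w) = dd φ c w) := by
    intro μ c hc' w hw
    have hw' : w = K.π w + K.sX (K.cX w) := by
      conv_lhs => rw [← K.decomp w, (K.memX w).1 hw, map_zero, add_zero]
    have hgen : ∀ r, K.π w + K.sX r ∈ fixA φ A := fun r => by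
      rw [K.memX, map_add, K.cA_sX, add_zero]
      exact (K.memX _).1 (K.π_mem w).2
    have hdd : ∀ r, dd φ c (K.π w + K.sX r) = dd φ c w := fun r => by
      conv_rhs => rw [hw']
      rw [map_add, map_add, hCsX c hc', hCsX c hc']
    have e1 : φ (K.t μ) w = K.π w + K.sX (((μ⁻¹ : Fˣ) : F) * K.cX w) := by
      conv_lhs => rw [hw']
      rw [map_add, K.t_fix μ _ (K.π_mem w), K.t_sX]
    have e2 : φ (K.t μ)⁻¹ w = K.π w + K.sX ((μ : F) * K.cX w) := by
      have e3 : φ (K.t μ) (K.π w + K.sX ((μ : F) * K.cX w)) = w := by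
        rw [map_add, K.t_fix μ _ (K.π_mem w), K.t_sX, ← mul_assoc, ← Units.val_mul, inv_mul_cancel,
          Units.val_one, one_mul, ← hw']
      conv_lhs => rw [← e3]
      exact phi_inv_cancel _ _
    exact ⟨⟨e1 ▸ hgen _, e1 ▸ hdd _⟩, e2 ▸ hgen _, e2 ▸ hdd _⟩
  have hz : ∀ μ ν : Fˣ, ∀ c ∈ C, ∀ d ∈ C, ∀ v,
      dd φ (K.t μ * c * (K.t μ)⁻¹) (dd φ (K.t ν * d * (K.t ν)⁻¹) v) = 0 := by
    intro μ ν c hc' d hd v
    rw [dd_cj (K.t μ), dd_cj (K.t ν)]
    have h0 := hCimg d hd (φ (K.t ν)⁻¹ v)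
    obtain ⟨⟨h1, h2⟩, -⟩ := hinv ν c hc' _ h0
    obtain ⟨-, -, h3⟩ := hinv μ c hc' _ h1
    rw [h3, h2, hC.quad hc hq hc' hd, map_zero]
  have hcj : ∀ μ ν, Comm (FFSLTwo.cj (K.t μ) C) (FFSLTwo.cj (K.t ν) C) := by
    rintro μ ν _ ⟨c, hc', rfl⟩ _ ⟨d, hd, rfl⟩
    exact comm_of_zero hc.inj (hz μ ν c hc' d hd) (hz ν μ d hd c hc')
  obtain ⟨hPel, -⟩ := elementary_sup_finset (p := p) (Finset.univ : Finset Fˣ)
    (fun μ => FFSLTwo.cj (K.t μ) C) (fun μ => el_cj _ hC.el) hcj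
  obtain ⟨v, hv, -, hsv⟩ := hc.exists_sv hF.pt (isPGroup_el hPel) (Finset.sup_le fun μ _ => by
    rintro _ ⟨c, hc', rfl⟩
    exact M.mul_mem (M.mul_mem (K.t_mem μ) (hCM hc')) (M.inv_mem (K.t_mem μ)))
  have hvX : v ∈ fixA φ X := hF.sv_mem hsv
  have hv' : v = K.π v + K.sA (K.cA v) := by
    conv_lhs => rw [← K.decomp v, (K.memA v).1 hvX, map_zero, add_zero]
  have he : K.cA v ≠ 0 := fun h0 => by
    rw [h0, map_zero, add_zero] at hv'
    exact hF.hX fun a ha => hsv a (by rw [hv']; exact (K.π_mem v).2 a ha)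
  have hkill : ∀ μ : Fˣ, ∀ c ∈ C,
      dd φ c (K.π v) + dd φ c (K.sA (((μ⁻¹ : Fˣ) : F) * K.cA v)) = 0 := by
    intro μ c hc'
    have h1 : dd φ (K.t μ * c * (K.t μ)⁻¹) v = 0 :=
      dd_eq_zero.2 (hv _ (Finset.le_sup (f := fun μ => FFSLTwo.cj (K.t μ) C) (Finset.mem_univ μ)
        (conj_mem_cj hc')))
    rw [dd_cj] at h1
    have h2 := congrArg (φ (K.t μ)⁻¹) h1
    rw [phi_inv_cancel, map_zero] at h2
    have e : φ (K.t μ) (K.π v + K.sA (((μ⁻¹ : Fˣ) : F) * K.cA v)) = v := by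
      rw [map_add, K.t_fix μ _ (K.π_mem v), K.t_sA, ← mul_assoc, ← Units.val_mul, mul_inv_cancel,
        Units.val_one, one_mul, ← hv']
    rw [← e, phi_inv_cancel, map_add] at h2
    exact h2
  have hsA : ∀ c ∈ C, ∀ r, dd φ c (K.sA r) = 0 := by
    intro c hc' r
    have hall : ∀ r : F, r ≠ 0 → dd φ c (K.sA r) = -dd φ c (K.π v) := by
      intro r hr'
      have h1 := hkill (Units.mk0 (K.cA v / r) (div_ne_zero he hr')) c hc'
      rw [Units.val_inv_eq_inv_val, Units.val_mk0, inv_div, div_mul_cancel₀ r he] at h1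
      exact eq_neg_of_add_eq_zero_right h1
    obtain ⟨r₁, r₂, h1, h2, rfl⟩ := exists_sub_ne (by rw [hFc]; omega) r
    rw [map_sub, map_sub, hall r₁ h1, hall r₂ h2, sub_self]
  have htop : fixA φ A ⊔ fixA φ C = ⊤ := eq_top_iff.2 fun w _ => by
    refine AddSubgroup.mem_sup.2 ⟨w - K.sA (K.cA w), ?_, K.sA (K.cA w), ?_, sub_add_cancel _ _⟩
    · rw [K.memX, map_sub, K.cA_sA, sub_self]
    · exact fun c hc' => dd_eq_zero.1 (hsA c hc' _)
  have h1 := hA.index_inf_mul hc hq hC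
  rw [htop, AddSubgroup.index_top, mul_one] at h1
  have h2 : (fixA φ A ⊓ fixA φ C).index ≤ (fixA φ G).index :=
    Nat.le_of_dvd (Nat.pos_of_ne_zero AddSubgroup.index_ne_zero_of_finite)
      (AddSubgroup.index_dvd_of_le (le_inf (fixA_anti le_sup_left) (fixA_anti hCG)))
  have h3 : Nat.card G ≤ q * q := by
    have := card_sup_comm hcomm
    rwa [hA.card, hB.card] at this
  omega

end

end Cfsg.Lib.FFModule
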