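import Cfsg.Agent.PLocal.FFModule.Ctx

/-!
Every strict offender has a partner: together they act as `SL₂` on a natural module.
-/

set_option autoImplicit false
set_option linter.unusedSectionVars false
set_option linter.style.haveILetI false

namespace Cfsg.Lib.FFModule

open Subgroup Cfsg.Lib.FFSLTwo

variable {P : Type*} [Group P] [Finite P] {V : Type*} [AddCommGroup V] [Finite V]
variable {p : ℕ} [Fact p.Prime] {φ : P →* AddMonoid.End V}

/-- the group theoretic data of a frame -/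
structure PreFrame (p : ℕ) (φ : P →* AddMonoid.End V) (A M : Subgroup P) (x : P) : Prop where
  pt : IsPt p M
  hA : A ≤ M
  strict : Strict p φ A
  hx : ¬ cj x A ≤ M
  hxE : x ∈ A ⊔ cj x A
  gen : ∀ y ∈ A ⊔ cj x A, y ∉ M → A ⊔ cj y A = A ⊔ cj x A
  sylM : ∀ S : Subgroup P, S ≤ A ⊔ cj x A → A ≤ S → IsPGroup p S → S ≤ M

theorem PreFrame.conj {A M : Subgroup P} {x : P} (h : PreFrame p φ A M x) (g : P) :
    PreFrame p φ (cj g A) (cj g M) (g * x * g⁻¹) := by
  have e : ∀ y : P, cj (g * y * g⁻¹) (cj g A) = cj g (cj y A) := fun y => by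
    rw [cj_mul, cj_mul, inv_mul_cancel_right]
  refine
    { pt := h.pt.cj g
      hA := map_mono h.hA
      strict := h.strict.cj g
      hx := ?_
      hxE := ?_
      gen := ?_
      sylM := ?_ }
  · rw [e]; exact fun h0 => h.hx (cj_le_cj.1 h0)
  · rw [e, ← cj_sup]; exact conj_mem_cj h.hxE
  · intro y hy hyM
    rw [e, ← cj_sup] at hy ⊢
    obtain ⟨z, hz, rfl⟩ := hy
    simp only [MulEquiv.coe_toMonoidHom, MulAut.conj_apply] at hyM ⊢
    rw [e, ← cj_sup, h.gen z hz fun hzM => hyM (conj_mem_cj hzM)]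
  · intro S hS hAS hSp
    rw [e, ← cj_sup] at hS
    rw [← cj_cj_inv g S] at hS hAS ⊢
    exact map_mono (h.sylM _ (cj_le_cj.1 hS) (cj_le_cj.1 hAS) (isPGroup_cj g⁻¹ hSp))

/-- exchanging the two members of a frame -/
theorem PreFrame.rev {A M : Subgroup P} {x : P} (h : PreFrame p φ A M x) :
    PreFrame p φ (cj x A) (cj x M) x⁻¹ := by
  have hxM : x⁻¹ ∉ M := fun hx => h.hx (by
    have hx' : x ∈ M := inv_inv x ▸ M.inv_mem hx
    rintro _ ⟨a, ha, rfl⟩
    exact M.mul_mem (M.mul_mem hx' (h.hA ha)) (M.inv_mem hx'))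
  have hxE : x⁻¹ ∈ A ⊔ cj x A := inv_mem h.hxE
  have e := h.gen x⁻¹ hxE hxM
  have h' : PreFrame p φ A M x⁻¹ :=
    { pt := h.pt
      hA := h.hA
      strict := h.strict
      hx := fun hle => h.hx ((e.ge.trans' le_sup_right).trans (sup_le h.hA hle))
      hxE := e.ge hxE
      gen := fun y hy hyM => (h.gen y (e.le hy) hyM).trans e.symm
      sylM := fun S hS hAS hSp => h.sylM S (hS.trans e.le) hAS hSp }
  have h2 := h'.conj x
  rwa [show x * x⁻¹ * x⁻¹ = x⁻¹ by group] at h2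

namespace Ctx

variable (hc : Ctx p φ)
include hc

/-- every strict offender has a partner -/
theorem exists_preFrame {Y : Subgroup P} (hY : Strict p φ Y) :
    ∃ M x, PreFrame p φ Y M x := by
  classical
  suffices h0 : ∃ g M x, PreFrame p φ (cj g Y) M x by
    obtain ⟨g, M, x, h⟩ := h0
    have h1 := h.conj g⁻¹
    rw [cj_inv_cj] at h1
    exact ⟨_, _, h1⟩
  obtain ⟨S₀⟩ : Nonempty (Sylow p P) := inferInstance
  obtain ⟨hS₀n, M, ⟨hM, hSM⟩, -⟩ := hc.pmin S₀
  have hpt : IsPt p M := ⟨hM, S₀, hSM⟩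
  have hmemP : ∀ g, IsPGroup p ↥(cj g Y) := fun g => isPGroup_cj g (isPGroup_el hY.el)
  -- the subgroup generated by conjugates of `Y` inside
  let cl (R : Subgroup P) : Subgroup P := sSup {X | X ≤ R ∧ ∃ g, X = cj g Y}
  have hcl_le : ∀ R, cl R ≤ R := fun R => sSup_le fun X hX => hX.1
  have hmem_cl : ∀ {R : Subgroup P} {g}, cj g Y ≤ R → cj g Y ≤ cl R :=
    fun h => le_sSup ⟨h, _, rfl⟩
  have hnorm : ∀ R : Subgroup P, normalizer (R : Set P) ≤ normalizer ((cl R : Subgroup P) : Set P) := by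
    intro R
    have key : ∀ n ∈ normalizer (R : Set P), cj n (cl R) ≤ cl R := by
      intro n hn
      rw [cj, map_le_iff_le_comap]
      refine sSup_le ?_
      rintro X ⟨hXR, g, rfl⟩
      rw [← map_le_iff_le_comap]
      show cj n (cj g Y) ≤ cl R
      rw [cj_mul]
      refine hmem_cl ?_
      rw [← cj_mul]
      intro y hy
      have h1 := hXR (mem_cj.1 hy)
      have h2 := (mem_normalizer_iff.1 hn _).1 h1
      simpa [mul_assoc] using h2
    intro n hn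
    rw [mem_normalizer_iff]
    intro y
    constructor
    · exact fun hy => key n hn (conj_mem_cj hy)
    · intro hy
      have h1 := key n⁻¹ (inv_mem hn) (conj_mem_cj hy)
      simpa [mul_assoc] using h1
  -- maximal obstruction
  obtain ⟨U, ⟨hUM, hUp, hUcl, hUN⟩, hmax⟩ := Set.exists_max_image
    {U : Subgroup P | U ≤ M ∧ IsPGroup p U ∧ cl U = U ∧ ¬ normalizer (U : Set P) ≤ M}
    (fun U => Nat.card U) (Set.toFinite _)
    ⟨⊥, bot_le, IsPGroup.of_bot, le_bot_iff.1 (hcl_le ⊥), fun h => hM.1 (top_le_iff.1 (by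
      rwa [normalizer_eq_top_iff.2 (inferInstance : (⊥ : Subgroup P).Normal)] at h))⟩
  -- good subgroups have normalisers inside `M`
  have hgood : ∀ R : Subgroup P, R ≤ M → IsPGroup p R → U ≤ R →
      (∃ g, cj g Y ≤ R ∧ ¬ cj g Y ≤ U) → normalizer (R : Set P) ≤ M := by
    rintro R hRM hRp hUR ⟨g, hgR, hgU⟩
    refine (hnorm R).trans ?_
    by_contra hN
    have h1 : cl R ∈ {U : Subgroup P | U ≤ M ∧ IsPGroup p U ∧ cl U = U ∧ ¬ normalizer (U : Set P) ≤ M} := by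
      refine ⟨(hcl_le R).trans hRM, hRp.to_le (hcl_le R), le_antisymm (hcl_le _) ?_, hN⟩
      refine sSup_le ?_
      rintro X ⟨hXR, g', rfl⟩
      exact le_sSup ⟨hmem_cl hXR, g', rfl⟩
    have hU : U ≤ cl R := hUcl ▸ sSup_le fun X hX => le_sSup ⟨hX.1.trans hUR, hX.2⟩
    have hlt := hmax _ h1
    exact hgU ((hmem_cl hgR).trans (eq_of_le_of_card_ge hU hlt).ge)
  have hgrow : ∀ R : Subgroup P, R ≤ M → IsPGroup p R → U ≤ R →
      (∃ g, cj g Y ≤ R ∧ ¬ cj g Y ≤ U) → ∀ R' : Subgroup P, IsPGroup p R' → R ≤ R' → R' ≤ M := by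
    intro R hRM hRp hUR hg R' hR'p hRR'
    by_contra hR'M
    set R'' := R' ⊓ M
    have hlt : R''.subgroupOf R' < ⊤ := lt_top_iff_ne_top.2 fun h => hR'M fun y hy =>
      (show y ∈ R'' from mem_subgroupOf.1 (h ▸ mem_top (⟨y, hy⟩ : R'))).2
    haveI := hR'p.isNilpotent
    obtain ⟨n, hn, hn'⟩ := SetLike.exists_of_lt
      (Group.normalizerCondition_of_isNilpotent _ hlt)
    have hle : R ≤ R'' := le_inf hRR' hRM
    have hN := hgood R'' inf_le_right (hR'p.to_le inf_le_left) (hUR.trans hle)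
      (hg.imp fun g h => ⟨h.1.trans hle, h.2⟩)
    refine hn' (mem_subgroupOf.2 ⟨n.2, hN ?_⟩)
    rw [mem_normalizer_iff]
    intro y
    constructor
    · intro hy
      exact (mem_subgroupOf.1 ((mem_normalizer_iff.1 hn ⟨y, hy.1⟩).1 (mem_subgroupOf.2 hy)) :
        (n : P) * y * (n : P)⁻¹ ∈ R'')
    · intro hy
      have hy' : y ∈ R' := by
        simpa [mul_assoc] using R'.mul_mem (R'.mul_mem (R'.inv_mem n.2) hy.1) n.2
      exact (mem_subgroupOf.1 ((mem_normalizer_iff.1 hn ⟨y, hy'⟩).2 (mem_subgroupOf.2 hy)) : _)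
  have hback : ∀ R : Subgroup P, R ≤ M → IsPGroup p R → U ≤ R →
      (∃ g, cj g Y ≤ R ∧ ¬ cj g Y ≤ U) → ∀ g : P, R ≤ cj g M → g ∈ M := by
    intro R hRM hRp hUR hg g hRg
    obtain ⟨S₁, hRS₁, hS₁g⟩ := (hpt.cj g).exists_sylow hRp hRg
    have hS₁M : (S₁ : Subgroup P) ≤ M := hgrow R hRM hRp hUR hg _ S₁.2 hRS₁
    obtain ⟨k, hk⟩ := MulAction.exists_smul_eq M (Sylow.subtype S₁ hS₁M)
      (Sylow.subtype (g⁻¹ • S₁) (by
        rw [Sylow.coe_subgroup_smul]
        rintro _ ⟨s, hs, rfl⟩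
        have h1 := mem_cj.1 (hS₁g hs)
        simpa [MulAut.smul_def, mul_assoc] using h1))
    -- `g k` normalises `S₁`
    have hgk : g * (k : P) ∈ normalizer ((S₁ : Subgroup P) : Set P) := by
      rw [Sylow.smul_subtype] at hk
      have h1 : (k : P) • S₁ = g⁻¹ • S₁ := Sylow.subtype_injective hk
      refine Sylow.smul_eq_iff_mem_normalizer.1 ?_
      rw [mul_smul, h1, smul_inv_smul]
    have hNS : normalizer ((S₁ : Subgroup P) : Set P) ≤ M :=
      hc.uniq hM hS₁M le_normalizer fun h => (hc.pmin S₁).1 (normalizer_eq_top_iff.1 h)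
    simpa using M.mul_mem (hNS hgk) (M.inv_mem k.2)
  -- a member normalising `U` but not in it
  obtain ⟨S, hUS, hSM'⟩ := hpt.exists_sylow hUp hUM
  have hclS : cl (S : Subgroup P) ≠ U := by
    intro he
    refine hUN (hc.uniq hM hSM' (le_normalizer.trans (he ▸ hnorm S)) fun htop => ?_)
    have hUn : U.Normal := normalizer_eq_top_iff.1 htop
    have hU0 : U = ⊥ := le_bot_iff.1 (hc.core ▸ le_sSup ⟨hUn, hUp⟩)
    obtain ⟨S₂, hS₂⟩ := (isPGroup_el hY.el).exists_le_sylow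
    obtain ⟨k, hk⟩ := MulAction.exists_smul_eq P S₂ S
    have h1 : cj k Y ≤ (S : Subgroup P) := by
      rw [← hk, Sylow.coe_subgroup_smul]; exact map_mono hS₂
    have h2 := hmem_cl h1
    rw [he, hU0, le_bot_iff] at h2
    exact hY.ne_bot (cj_inj (g := k) (by rw [h2, cj_bot]))
  obtain ⟨R₀, ⟨hUR₀, hR₀S, hR₀⟩, hR₀max⟩ := Set.exists_max_image
    {R : Subgroup P | U ≤ R ∧ R ≤ (S : Subgroup P) ∧ cl R ≤ U}
    (fun R => Nat.card R) (Set.toFinite _) ⟨U, le_rfl, hUS, hcl_le U⟩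
  have hR₀ne : R₀.subgroupOf (S : Subgroup P) < ⊤ := lt_top_iff_ne_top.2 fun h => hclS (by
    have e : R₀ = S := le_antisymm hR₀S fun y hy => mem_subgroupOf.1 (h ▸ mem_top (⟨y, hy⟩ : (S : Subgroup P)))
    refine le_antisymm (e ▸ hR₀) ?_
    exact hUcl ▸ sSup_le fun X hX => le_sSup ⟨hX.1.trans hUS, hX.2⟩)
  haveI := S.2.isNilpotent
  have hlt1 : R₀.subgroupOf (S : Subgroup P) <
      normalizer ((R₀.subgroupOf (S : Subgroup P) : Subgroup ↥(S : Subgroup P)) : Set ↥(S : Subgroup P)) :=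
    Group.normalizerCondition_of_isNilpotent _ hR₀ne
  set R₁ := (normalizer ((R₀.subgroupOf (S : Subgroup P) : Subgroup ↥(S : Subgroup P)) :
    Set ↥(S : Subgroup P))).map (S : Subgroup P).subtype with hR₁
  have hR₀R₁ : R₀ < R₁ := by
    have := Subgroup.map_lt_map_iff_of_injective (S : Subgroup P).subtype_injective |>.2 hlt1
    rwa [map_subgroupOf_eq_of_le hR₀S] at this
  obtain ⟨g, hgR₁, hgU⟩ : ∃ g, cj g Y ≤ R₁ ∧ ¬ cj g Y ≤ U := by
    by_contra hcon
    push Not at hcon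
    refine absurd (hR₀max R₁ ⟨hUR₀.trans hR₀R₁.le, map_subtype_le _, sSup_le ?_⟩) (not_le.2 ?_)
    · rintro X ⟨hX, g, rfl⟩; exact hcon g hX
    · exact Nat.lt_of_le_of_ne (Nat.card_le_card_of_injective _ (inclusion_injective hR₀R₁.le))
        fun he => hR₀R₁.ne (eq_of_le_of_card_ge hR₀R₁.le he.ge)
  set A := cj g Y with hA
  have hclR₀ : cl R₀ = U := le_antisymm hR₀
    (hUcl ▸ sSup_le fun X hX => le_sSup ⟨hX.1.trans hUR₀, hX.2⟩)
  have hAN : A ≤ normalizer (U : Set P) := by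
    intro a ha
    rw [← hclR₀]
    refine hnorm R₀ ?_
    obtain ⟨n, hn, rfl⟩ := hgR₁ ha
    rw [mem_normalizer_iff]
    intro y
    constructor
    · intro hy
      exact mem_subgroupOf.1 ((mem_normalizer_iff.1 hn ⟨y, hR₀S hy⟩).1 (mem_subgroupOf.2 hy))
    · intro hy
      have hy' : y ∈ (S : Subgroup P) := by
        have h1 := (S : Subgroup P).mul_mem ((S : Subgroup P).mul_mem ((S : Subgroup P).inv_mem n.2)
          (hR₀S hy)) n.2
        simpa [mul_assoc] using h1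
      exact mem_subgroupOf.1 ((mem_normalizer_iff.1 hn ⟨y, hy'⟩).2 (mem_subgroupOf.2 hy))
  have hAM : A ≤ M := hgR₁.trans ((map_subtype_le _).trans hSM')
  have hAs : Strict p φ A := hY.cj g
  set L := normalizer (U : Set P)
  have hsupL : ∀ z, z ∈ L → cj z A ≤ L := fun z hz => by
    rintro _ ⟨a, ha, rfl⟩
    exact L.mul_mem (L.mul_mem hz (hAN ha)) (L.inv_mem hz)
  have hUAp : ∀ {X : Subgroup P}, IsPGroup p X → X ≤ L → IsPGroup p ↥(U ⊔ X) := fun hXp hXL =>
    hUp.to_sup_of_normal_left' hXp hXL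
  have hnotM : ∀ z, z ∈ L → z ∉ M → ¬ cj z A ≤ M := by
    intro z hz hzM hle
    have e : U ⊔ A = cj z⁻¹ (U ⊔ cj z A) := by
      rw [cj_sup, cj_inv_cj]
      congr 1
      ext y
      rw [mem_cj, inv_inv]
      exact mem_normalizer_iff.1 hz y
    have h1 : U ⊔ A ≤ cj z⁻¹ M := e ▸ map_mono (sup_le hUM hle)
    exact hzM (inv_inv z ▸ M.inv_mem (hback _ (sup_le hUM hAM) (hUAp (hmemP g) hAN) le_sup_left
      ⟨g, le_sup_right, hgU⟩ z⁻¹ h1))
  obtain ⟨x₀, ⟨hx₀L, hx₀M⟩, hmin⟩ := Set.exists_min_image {z : P | z ∈ L ∧ z ∉ M}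
    (fun z => Nat.card ↥(A ⊔ cj z A)) (Set.toFinite _) (SetLike.not_le_iff_exists.1 hUN)
  have hEL : A ⊔ cj x₀ A ≤ L := sup_le hAN (hsupL x₀ hx₀L)
  have hEM : ¬ A ⊔ cj x₀ A ≤ M := fun h => hnotM x₀ hx₀L hx₀M (le_sup_right.trans h)
  have hgen : ∀ y ∈ A ⊔ cj x₀ A, y ∉ M → A ⊔ cj y A = A ⊔ cj x₀ A := by
    intro y hy hyM
    have hle : A ⊔ cj y A ≤ A ⊔ cj x₀ A := sup_le le_sup_left (by
      rintro _ ⟨a, ha, rfl⟩
      exact mul_mem (mul_mem hy (mem_sup_left ha)) (inv_mem hy))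
    exact eq_of_le_of_card_ge hle (hmin y ⟨hEL hy, hyM⟩)
  obtain ⟨x, hx, hxM⟩ := SetLike.not_le_iff_exists.1 hEM
  refine ⟨g, M, x, { pt := hpt, hA := hAM, strict := hAs, hx := hnotM x (hEL hx) hxM,
                     hxE := ?_, gen := ?_, sylM := ?_ }⟩
  · rw [hgen x hx hxM]; exact hx
  · intro y hy hyM
    rw [hgen x hx hxM] at hy ⊢
    exact hgen y hy hyM
  · intro R hR hAR hRp
    rw [hgen x hx hxM] at hR
    exact le_sup_right.trans (hgrow _ (sup_le hUM hAM) (hUAp (hmemP g) hAN) le_sup_left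
      ⟨g, le_sup_right, hgU⟩ _ (hUAp hRp (hR.trans hEL))
      (sup_le_sup_left hAR U))

end Ctx

end Cfsg.Lib.FFModule
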