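import Cfsg.Agent.PLocal.FFModule.Lines

/-!
Members inside and outside the maximal subgroup over a Sylow subgroup.
-/

set_option autoImplicit false
set_option linter.unusedSectionVars false
set_option linter.style.haveILetI false

namespace Cfsg.Lib.FFModule

open Subgroup Cfsg.Lib.FFSLTwo

variable {P : Type*} [Group P] [Finite P] {V : Type*} [AddCommGroup V] [Finite V]
variable {p : ℕ} [Fact p.Prime] {φ : P →* AddMonoid.End V} {q : ℕ}

/-- the setting with a fixed Sylow subgroup and the maximal subgroup over it -/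
structure Glob (p : ℕ) [Fact p.Prime] (φ : P →* AddMonoid.End V) (q : ℕ) (T : Sylow p P)
    (M : Subgroup P) : Prop where
  hc : Ctx p φ
  hq : Least p φ q
  hM : IsCoatom M
  hTM : (T : Subgroup P) ≤ M
  hex : ∃ A, Mem p φ q A

namespace Glob

variable {T : Sylow p P} {M : Subgroup P} (g : Glob p φ q T M)
include g

theorem pt : IsPt p M := ⟨g.hM, T, g.hTM⟩

theorem ff : FF p φ q (Mem p φ q) := ff_of_least g.hc g.hq

/-- members inside the Sylow subgroup -/
def inSyl (_ : Glob p φ q T M) : Set (Subgroup P) := {A | Mem p φ q A ∧ A ≤ (T : Subgroup P)}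

/-- members outside the maximal subgroup -/
def outer (_ : Glob p φ q T M) : Set (Subgroup P) := {B | Mem p φ q B ∧ ¬ B ≤ M}

theorem inSyl_le {A : Subgroup P} (h : A ∈ g.inSyl) : A ≤ M := h.2.trans g.hTM

theorem inSyl_comm {A A' : Subgroup P} (h : A ∈ g.inSyl) (h' : A' ∈ g.inSyl) : Comm A A' :=
  g.ff.comm_of_pgroup h.1 h'.1 T.2 h.2 h'.2

theorem nonempty : ∃ A, A ∈ g.inSyl := by
  obtain ⟨A, hA⟩ := g.hex
  obtain ⟨S, hS⟩ := (isPGroup_el hA.el).exists_le_sylow
  obtain ⟨k, hk⟩ := MulAction.exists_smul_eq P S T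
  exact ⟨FFSLTwo.cj k A, hA.conj k, by rw [← hk, Sylow.coe_subgroup_smul]; exact map_mono hS⟩

/-- the members inside the Sylow subgroup form a maximal commuting set -/
theorem clique {C : Subgroup P} (hC : Mem p φ q C) (h : ∀ A ∈ g.inSyl, Comm C A) : C ∈ g.inSyl := by
  classical
  by_contra hnot
  let s := insert C g.inSyl
  have hmem : ∀ x ∈ s, Mem p φ q x := fun x hx => by
    rcases hx with rfl | hx
    exacts [hC, hx.1]
  have hcomm : ∀ x ∈ s, ∀ y ∈ s, Comm x y := fun x hx y hy => by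
    rcases hx with rfl | hx <;> rcases hy with rfl | hy
    exacts [g.ff.comm_self hC, h y hy, (h x hx).symm, g.inSyl_comm hx hy]
  have hfin : s.Finite := Set.toFinite _
  haveI : Fintype s := hfin.fintype
  have hR := (elementary_sup_finset (p := p) (Finset.univ : Finset s) (fun x => (x : Subgroup P))
    (fun x => (hmem x x.2).el) (fun x y => hcomm x x.2 y y.2)).1
  obtain ⟨S, hS⟩ := (isPGroup_el hR).exists_le_sylow
  obtain ⟨k, hk⟩ := MulAction.exists_smul_eq P S T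
  have hmaps : ∀ x ∈ s, FFSLTwo.cj k x ∈ g.inSyl := fun x hx => ⟨(hmem x hx).conj k, by
    rw [← hk, Sylow.coe_subgroup_smul]
    exact map_mono ((Finset.le_sup (f := fun y : s => (y : Subgroup P))
      (Finset.mem_univ (⟨x, hx⟩ : s))).trans hS)⟩
  have h1 := Set.ncard_le_ncard_of_injOn (fun x => FFSLTwo.cj k x) hmaps
    (fun x _ y _ hxy => cj_inj hxy) (Set.toFinite _)
  rw [Set.ncard_insert_of_notMem hnot (Set.toFinite _)] at h1
  omega

/-- the product of the members inside the Sylow subgroup -/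
theorem sup_le : sSup g.inSyl ≤ (T : Subgroup P) := _root_.sSup_le fun _ h => h.2

theorem sup_ne_bot : sSup g.inSyl ≠ ⊥ := by
  obtain ⟨A, hA⟩ := g.nonempty
  intro h
  refine hA.1.ne_bot g.hc g.hq (le_bot_iff.1 ?_)
  rw [← h]
  exact le_sSup hA

/-- elements permuting these members lie in the maximal subgroup -/
theorem mem_of_perm {n : P} (h : ∀ A ∈ g.inSyl, FFSLTwo.cj n A ∈ g.inSyl) : n ∈ M := by
  set W := sSup g.inSyl with hW
  have hgen : ∀ m : P, (∀ A ∈ g.inSyl, FFSLTwo.cj m A ∈ g.inSyl) → m ∈ Subgroup.normalizer (W : Set P) := by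
    intro m hm
    have hle : FFSLTwo.cj m W ≤ W := map_le_iff_le_comap.2 (_root_.sSup_le fun A hA =>
      map_le_iff_le_comap.1 (le_sSup (hm A hA)))
    have he := eq_of_le_of_card_ge hle (card_cj m W).ge
    rw [mem_normalizer_iff]
    intro z
    refine ⟨fun hz => conj_eq_self he hz, fun hz => ?_⟩
    rw [← he, mem_cj] at hz
    simpa [mul_assoc] using hz
  have hT : (T : Subgroup P) ≤ Subgroup.normalizer (W : Set P) := fun t ht =>
    hgen t fun A hA => ⟨hA.1.conj t, by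
      rintro _ ⟨a, ha, rfl⟩
      exact (T : Subgroup P).mul_mem ((T : Subgroup P).mul_mem ht (hA.2 ha)) ((T : Subgroup P).inv_mem ht)⟩
  refine g.hc.uniq g.hM g.hTM hT (fun htop => g.sup_ne_bot ?_) (hgen n h)
  have hn : W.Normal := normalizer_eq_top_iff.1 htop
  exact le_bot_iff.1 (g.hc.core ▸ le_sSup ⟨hn, T.2.to_le g.sup_le⟩)

/-- every member has a conjugate outside -/
theorem exists_outer {A : Subgroup P} (hA : Mem p φ q A) : ∃ k, FFSLTwo.cj k A ∈ g.outer := by
  obtain ⟨M', ⟨hM', S, hS⟩, hA'⟩ := g.hc.avoid (isPGroup_el hA.el) (hA.ne_bot g.hc g.hq)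
  obtain ⟨k, hk⟩ := MulAction.exists_smul_eq P S T
  refine ⟨k, hA.conj k, fun hle => hA' ?_⟩
  obtain ⟨hm, h2⟩ := IsPt.cj g.pt k⁻¹
  have hSle : (S : Subgroup P) ≤ FFSLTwo.cj k⁻¹ M := by
    rw [← cj_inv_cj k (S : Subgroup P)]
    refine cj_le_cj.2 ?_
    show (S : Subgroup P).map (MulAut.conj k).toMonoidHom ≤ M
    have h3 : ((k • S : Sylow p P) : Subgroup P) ≤ M := hk ▸ g.hTM
    rw [Sylow.coe_subgroup_smul] at h3
    exact h3
  have he : M' = FFSLTwo.cj k⁻¹ M := le_antisymm (g.hc.uniq hm hSle hS hM'.1)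
    (g.hc.uniq hM' hS hSle hm.1)
  rw [he, ← cj_inv_cj k A]
  exact cj_le_cj.2 hle

theorem le_M {A : Subgroup P} (hA : Mem p φ q A) {a : P} (ha : a ∈ A) (ha1 : a ≠ 1) (haM : a ∈ M) :
    A ≤ M := hA.le_pt g.hc g.hq g.pt ha ha1 haM

theorem exists_sf {R : Subgroup P} (hR : IsPGroup p R) (hRM : R ≤ M) :
    ∃ f : V →+ ZMod p, (∀ x ∈ R, ∀ v, f (dd φ x v) = 0) ∧ Ctx.SF p φ M f := by
  obtain ⟨f, h1, -, h2⟩ := g.hc.exists_sf g.pt hR hRM
  exact ⟨f, h1, h2⟩

theorem exists_nc {B : Subgroup P} (hB : B ∈ g.outer) : ∃ A ∈ g.inSyl, ¬ Comm A B := by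
  by_contra h
  push Not at h
  exact hB.2 (g.inSyl_le (g.clique hB.1 fun A hA => (h A hA).symm))

/-- a member of a pair of two inner members lies inside -/
theorem two_inner {A B C D : Subgroup P} (hA : Mem p φ q A) (hB : Mem p φ q B) (hnc : ¬ Comm A B)
    (hC : IsLine φ (Mem p φ q) A B C) (hD : IsLine φ (Mem p φ q) A B D) (hne : C ≠ D) (hCM : C ≤ M)
    (hDM : D ≤ M) : A ⊔ B ≤ M :=
  (g.ff.line_sup hA hB hnc hC hD hne) ▸ _root_.sup_le hCM hDM

end Glob

/-- completing an element of one member by a commuting one -/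
theorem FF.twist {𝓜 : Subgroup P → Prop} (ff : FF p φ q 𝓜) {C D E : Subgroup P} (hC : 𝓜 C)
    (hD : 𝓜 D) (hE : 𝓜 E) (hCD : Comm C D) (hDE : ¬ Comm D E) {u : V} (hu : u ∈ fixA φ E)
    (hu' : u ∉ fixA φ D) (c : P) (hc : c ∈ C) :
    ∃ d ∈ D, dd φ (c * d) u ∈ fixA φ E := by
  obtain ⟨d, hd, hs⟩ := ff.exists_shift hD hE hDE hu hu' (-dd φ c u)
  refine ⟨d, hd, ?_⟩
  rw [dd_mul_of_zero (fun w => ff.comm_zero hD hC hCD.symm hd hc w)]
  have h1 := (fixA φ E).neg_mem hs
  rwa [neg_sub, sub_neg_eq_add, add_comm] at h1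

/-- a map killing the twisted images kills the images -/
theorem FF.untwist {𝓜 : Subgroup P → Prop} (ff : FF p φ q 𝓜) {C D : Subgroup P} (hC : 𝓜 C)
    (hD : 𝓜 D) (hne : C ≠ D) {c d : P} (hc : c ∈ C) (hd : d ∈ D) (f : V →+ ZMod p)
    (hcd : ∀ v, dd φ c (dd φ d v) = 0) (hf : ∀ v, f (dd φ (c * d) v) = 0) (v : V) :
    f (dd φ c v) = 0 := by
  obtain ⟨x, hx, z, hz, rfl⟩ := ff.split hC hD hne v
  rw [map_add, dd_eq_zero.2 (hx c hc), zero_add]
  have h1 := hf z
  rwa [dd_mul_of_zero hcd, dd_eq_zero.2 (hz d hd), add_zero] at h1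

namespace Glob

variable {T : Sylow p P} {M : Subgroup P} (g : Glob p φ q T M)
include g

/-- an outer member fails to commute with just one inner member -/
theorem single {A D B : Subgroup P} (hA : A ∈ g.inSyl) (hD : D ∈ g.inSyl) (hB : B ∈ g.outer)
    (hAB : ¬ Comm A B) (hDB : ¬ Comm D B) : A = D := by
  by_contra hne
  have ff := g.ff
  obtain ⟨b, hb, hb1⟩ := ff.exists_ne_one hB.1
  obtain ⟨v₀, hv₀⟩ := ff.exists_ne_zero hB.1 hb hb1
  set u := dd φ b v₀ with hu_def
  have hu : u ∈ fixA φ B := ff.dd_mem hB.1 hb v₀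
  have huA : u ∉ fixA φ A := fun h => hv₀ (ff.nc_zero hB.1 hA.1 (fun h => hAB h.symm) hb h)
  have huD : u ∉ fixA φ D := fun h => hv₀ (ff.nc_zero hB.1 hD.1 (fun h => hDB h.symm) hb h)
  have hAD := g.inSyl_comm hA hD
  let Y : Set P := {y | ∃ a ∈ A, ∃ d ∈ D, y = a * d ∧ dd φ y u ∈ fixA φ B}
  have hYM : ∀ y ∈ Y, b * y * b⁻¹ ∈ M := by
    rintro y ⟨a, ha, d, hd, rfl, hyu⟩
    set y := a * d
    -- the images of `B` go to vectors fixed by `B`
    have hB' := hB.1.conj y
    have hcomm : Comm (FFSLTwo.cj y B) B := by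
      refine ff.comm_of_image hB' hB.1 (conj_mem_cj hb) (v := φ y v₀) ?_ ?_
      · rw [dd_cj, phi_inv_cancel, phi_eq_add]
        exact (fixA φ B).add_mem hu hyu
      · rw [dd_cj, phi_inv_cancel]
        intro h0
        have h1 := congrArg (φ y⁻¹) h0
        rw [phi_inv_cancel, map_zero] at h1
        exact hv₀ h1
    have hκ : ∀ w, dd φ b (dd φ y (dd φ b w)) = 0 := fun w => by
      have h1 := (ff.comm_mem hB' hB.1 hcomm (conj_mem_cj hb) (φ y w)).2
      rw [dd_cj, phi_inv_cancel, phi_eq_add] at h1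
      have h2 := (fixA φ B).sub_mem h1 (ff.dd_mem hB.1 hb w)
      rw [add_sub_cancel_left] at h2
      exact dd_eq_zero.2 (h2 b hb)
    have had : ∀ v, dd φ y v = dd φ a v + dd φ d v :=
      dd_mul_of_zero fun v => ff.comm_zero hD.1 hA.1 hAD.symm hd ha v
    set n := b * y * b⁻¹ * y⁻¹
    have hn : n ∈ M := by
      refine g.mem_of_perm fun X hX => g.clique (hX.1.conj n) fun Z hZ => ?_
      obtain ⟨x, hx, hx1⟩ := ff.exists_ne_one hX.1
      obtain ⟨v, hv⟩ := ff.exists_ne_zero hX.1 hx hx1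
      set w := dd φ x v
      have hwy : dd φ y w = 0 := by
        rw [had, ff.comm_zero hX.1 hA.1 (g.inSyl_comm hX hA) hx ha,
          ff.comm_zero hX.1 hD.1 (g.inSyl_comm hX hD) hx hd, add_zero]
      have hy' : φ y⁻¹ w = w := by
        conv_lhs => rw [← dd_eq_zero.1 hwy]
        exact phi_inv_cancel y w
      have hnw : φ n w = w - dd φ y (dd φ b w) := by
        show φ (b * y * b⁻¹ * y⁻¹) w = _
        rw [phi_mul, phi_mul, phi_mul, hy', ff.phi_inv hB.1 hb, map_sub (φ y),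
          dd_eq_zero.1 hwy, phi_eq_add y (dd φ b w), map_sub (φ b), map_add (φ b),
          phi_eq_add b w, phi_eq_add b (dd φ b w), phi_eq_add b (dd φ y _), hκ,
          ff.quad hB.1 hb hb]
        abel
      refine ff.comm_of_image (hX.1.conj n) hZ.1 (conj_mem_cj hx) (v := φ n v) ?_ ?_
      · rw [dd_cj, phi_inv_cancel, hnw, had]
        exact (fixA φ Z).sub_mem (ff.comm_mem hX.1 hZ.1 (g.inSyl_comm hX hZ) hx v).2
          ((fixA φ Z).add_mem (ff.comm_mem hA.1 hZ.1 (g.inSyl_comm hA hZ) ha _).2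
            (ff.comm_mem hD.1 hZ.1 (g.inSyl_comm hD hZ) hd _).2)
      · rw [dd_cj, phi_inv_cancel]
        intro h0
        have h1 := congrArg (φ n⁻¹) h0
        rw [phi_inv_cancel, map_zero] at h1
        exact hv h1
    have hyM : y ∈ M := M.mul_mem (g.inSyl_le hA ha) (g.inSyl_le hD hd)
    have h3 := M.mul_mem hn hyM
    simpa [n] using h3
  have hel := Cfsg.Lib.ElemToolkit.elementary_sup hA.1.el hD.1.el hAD
  set R := closure {z | ∃ y ∈ Y, z = b * y * b⁻¹} with hR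
  have hRM : R ≤ M := by
    rw [hR, closure_le]
    rintro _ ⟨y, hy, rfl⟩
    exact hYM y hy
  have hRle : R ≤ FFSLTwo.cj b (A ⊔ D) := by
    rw [hR, closure_le]
    rintro _ ⟨_, ⟨a, ha, d, hd, rfl, -⟩, rfl⟩
    exact conj_mem_cj (mul_mem (mem_sup_left ha) (mem_sup_right hd))
  obtain ⟨f, hf, hsf⟩ := g.exists_sf ((isPGroup_cj b (isPGroup_el hel)).to_le hRle) hRM
  have hAM : FFSLTwo.cj b A ≤ M := by
    rintro _ ⟨a, ha, rfl⟩
    obtain ⟨d, hd, hdu⟩ := ff.twist hA.1 hD.1 hB.1 hAD hDB hu huD a ha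
    refine hsf _ fun v => ?_
    have hmem : b * (a * d) * b⁻¹ ∈ R := subset_closure ⟨a * d, ⟨a, ha, d, hd, rfl, hdu⟩, rfl⟩
    show f (dd φ (b * a * b⁻¹) v) = 0
    rw [dd_cj]
    refine ff.untwist hA.1 hD.1 hne ha hd (f.comp (φ b : V →+ V))
      (fun w => ff.comm_zero hD.1 hA.1 hAD.symm hd ha w) (fun w => ?_) _
    have h4 := hf _ hmem (φ b w)
    rw [dd_cj, phi_inv_cancel] at h4
    exact h4
  have hne' : A ≠ FFSLTwo.cj b A := fun h => ff.cj_ne hB.1 hA.1 (fun h => hAB h.symm) hb hb1 h.symm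
  exact hB.2 (le_sup_right.trans (g.two_inner hA.1 hB.1 hAB (isLine_left hA.1)
    (ff.line_cj_left hA.1 (mem_sup_right hb)) hne' (g.inSyl_le hA) hAM))

/-- an outer member not commuting with `A` commutes with the other inner members -/
theorem other_comm {A A' B : Subgroup P} (hA : A ∈ g.inSyl) (hA' : A' ∈ g.inSyl) (hB : B ∈ g.outer)
    (hAB : ¬ Comm A B) (hne : A' ≠ A) : Comm A' B :=
  by_contra fun h => hne (g.single hA' hA hB h hAB)

/-- the outer members of one class are the lines of one pair -/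
theorem class_line {A B B' : Subgroup P} (hA : A ∈ g.inSyl) (hB : B ∈ g.outer) (hB' : B' ∈ g.outer)
    (hAB : ¬ Comm A B) (hAB' : ¬ Comm A B') : IsLine φ (Mem p φ q) A B B' := by
  have ff := g.ff
  obtain ⟨Y, hY, hcY⟩ := ff.exists_comm_line hA.1 hB.1 hAB hB'.1
  have hYA : Y ≠ A := fun h => hAB' (h ▸ hcY).symm
  by_cases heq : Y = B'
  · exact heq ▸ hY
  exfalso
  have hYo : Y ∈ g.outer := ⟨hY.1, fun hle => hB.2 (le_sup_right.trans
    (g.two_inner hA.1 hB.1 hAB (isLine_left hA.1) hY hYA.symm (g.inSyl_le hA) hle))⟩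
  have hAY : ¬ Comm A Y := ff.line_nc hA.1 hB.1 hAB (isLine_left hA.1) hY hYA.symm
  obtain ⟨a, ha, ha1⟩ := ff.exists_ne_one hA.1
  obtain ⟨v₀, hv₀⟩ := ff.exists_ne_zero hA.1 ha ha1
  set u := dd φ a v₀
  have hu : u ∈ fixA φ A := ff.dd_mem hA.1 ha v₀
  have huY : u ∉ fixA φ Y := fun h => hv₀ (ff.nc_zero hA.1 hY.1 hAY ha h)
  let S : Set P := {x | ∃ c ∈ B', ∃ y ∈ Y, x = c * y ∧ dd φ x u ∈ fixA φ A}
  have hSM : ∀ x ∈ S, x ∈ M := by
    rintro x ⟨c, hc, y, hy, rfl, hxu⟩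
    set x := c * y
    have hcomm : Comm (FFSLTwo.cj x A) A := by
      refine ff.comm_of_image (hA.1.conj x) hA.1 (conj_mem_cj ha) (v := φ x v₀) ?_ ?_
      · rw [dd_cj, phi_inv_cancel, phi_eq_add]
        exact (fixA φ A).add_mem hu hxu
      · rw [dd_cj, phi_inv_cancel]
        intro h0
        have h1 := congrArg (φ x⁻¹) h0
        rw [phi_inv_cancel, map_zero] at h1
        exact hv₀ h1
    have hfixJ : ∀ A' ∈ g.inSyl, A' ≠ A → FFSLTwo.cj x A' = A' := by
      intro A' hA' hne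
      refine eq_of_le_of_card_ge ?_ (card_cj _ _).ge
      rintro _ ⟨z, hz, rfl⟩
      have h1 : z * c = c * z := g.other_comm hA hA' hB' hAB' hne z hz c hc
      have h2 : z * y = y * z := g.other_comm hA hA' hYo hAY hne z hz y hy
      have h3 : x * z = z * x := by
        show c * y * z = z * (c * y)
        rw [mul_assoc, ← h2, ← mul_assoc, ← h1, mul_assoc]
      show x * z * x⁻¹ ∈ A'
      rw [h3, mul_inv_cancel_right]
      exact hz
    have hxA : FFSLTwo.cj x A ∈ g.inSyl := g.clique (hA.1.conj x) fun A' hA' => by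
      by_cases hne : A' = A
      · exact hne ▸ hcomm
      · rw [← hfixJ A' hA' hne]
        exact comm_cj x (g.inSyl_comm hA hA')
    refine g.mem_of_perm fun A' hA' => ?_
    by_cases hne : A' = A
    · exact hne ▸ hxA
    · rw [hfixJ A' hA' hne]; exact hA'
  have hel := Cfsg.Lib.ElemToolkit.elementary_sup hB'.1.el hY.1.el hcY
  set R := closure S with hR
  have hRM : R ≤ M := by rw [hR, closure_le]; exact hSM
  have hRle : R ≤ B' ⊔ Y := by
    rw [hR, closure_le]
    rintro _ ⟨c, hc, y, hy, rfl, -⟩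
    exact mul_mem (mem_sup_left hc) (mem_sup_right hy)
  obtain ⟨f, hf, hsf⟩ := g.exists_sf ((isPGroup_el hel).to_le hRle) hRM
  refine hB'.2 fun c hc => hsf c fun v => ?_
  obtain ⟨y, hy, hyu⟩ := ff.twist hB'.1 hY.1 hA.1 hcY (fun h => hAY h.symm) hu huY c hc
  exact ff.untwist hB'.1 hY.1 (fun h => heq h.symm) hc hy f
    (fun w => ff.comm_zero hY.1 hB'.1 hcY.symm hy hc w)
    (fun w => hf _ (subset_closure ⟨c, hc, y, hy, rfl, hyu⟩) w) v

/-- every member fails to commute with some outer member -/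
theorem exists_outer_nc {m : Subgroup P} (hm : Mem p φ q m) : ∃ B ∈ g.outer, ¬ Comm m B := by
  by_contra hcon
  push Not at hcon
  have ff := g.ff
  set Q := sSup g.outer with hQ
  have hmQ : Q ≤ Subgroup.centralizer (m : Set P) := _root_.sSup_le fun B hB b hb =>
    mem_centralizer_iff.2 fun x hx => hcon B hB x hx b hb
  set N := Subgroup.normalizer (Q : Set P)
  have hMN : M ≤ N := by
    intro x hx
    have hle : FFSLTwo.cj x Q ≤ Q := map_le_iff_le_comap.2 (_root_.sSup_le fun B hB =>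
      map_le_iff_le_comap.1 (le_sSup (show FFSLTwo.cj x B ∈ g.outer from ⟨hB.1.conj x, fun hle => hB.2 (by
        rw [← cj_inv_cj x B]
        exact (cj_le_cj.2 hle).trans (by
          rintro _ ⟨z, hz, rfl⟩
          exact M.mul_mem (M.mul_mem (M.inv_mem hx) hz) (M.inv_mem (M.inv_mem hx))))⟩)))
    have he := eq_of_le_of_card_ge hle (card_cj x Q).ge
    rw [mem_normalizer_iff]
    intro z
    refine ⟨fun hz => conj_eq_self he hz, fun hz => ?_⟩
    rw [← he, mem_cj] at hz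
    simpa [mul_assoc] using hz
  obtain ⟨k, hk⟩ := g.exists_outer hm
  have hNtop : N = ⊤ := by
    refine g.hM.2 N (lt_of_le_of_ne hMN fun h => hk.2 ?_)
    rw [h]
    exact (le_sSup hk).trans Subgroup.le_normalizer
  set B := FFSLTwo.cj k m
  have hBQ : ∀ z ∈ Q, ∀ x ∈ B, x * z = z * x := by
    intro z hz x hx
    have hkN : k ∈ N := hNtop ▸ mem_top k
    have hz' : k⁻¹ * z * k ∈ Q := (mem_normalizer_iff.1 hkN _).2 (by simpa [mul_assoc] using hz)
    have hx' : k⁻¹ * x * k ∈ m := mem_cj.1 hx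
    have h1 := mem_centralizer_iff.1 (hmQ hz') _ hx'
    have h2 := congrArg (fun w => k * w * k⁻¹) h1
    simpa [mul_assoc] using h2
  obtain ⟨A, hA, hAB⟩ := g.exists_nc hk
  obtain ⟨a, ha, ha1⟩ := ff.exists_ne_one hA.1
  obtain ⟨hl, hneA, hneB⟩ := ff.exists_third hA.1 hk.1 hAB ha ha1
  have hlo : FFSLTwo.cj a B ∈ g.outer := ⟨hl.1, fun hle => hk.2 (le_sup_right.trans
    (g.two_inner hA.1 hk.1 hAB (isLine_left hA.1) hl hneA.symm (g.inSyl_le hA) hle))⟩
  exact ff.line_nc hA.1 hk.1 hAB (isLine_right hk.1) hl hneB.symm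
    fun x hx z hz => hBQ z (le_sSup hlo hz) x hx

/-- the Sylow subgroup is transitive on its members -/
theorem transitive {A A' : Subgroup P} (hA : A ∈ g.inSyl) (hA' : A' ∈ g.inSyl) :
    ∃ t ∈ (T : Subgroup P), FFSLTwo.cj t A = A' := by
  by_contra hcon
  push Not at hcon
  have hcjT : ∀ {t}, t ∈ (T : Subgroup P) → ∀ {X}, X ∈ g.inSyl → FFSLTwo.cj t X ∈ g.inSyl :=
    fun {t} ht {X} hX => ⟨hX.1.conj t, by
      rintro _ ⟨z, hz, rfl⟩
      exact (T : Subgroup P).mul_mem ((T : Subgroup P).mul_mem ht (hX.2 hz)) ((T : Subgroup P).inv_mem ht)⟩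
  obtain ⟨B, hB, hBA⟩ := g.exists_outer_nc hA.1
  set O : Set (Subgroup P) := {X | ∃ t ∈ (T : Subgroup P), X = FFSLTwo.cj t A'} with hO
  set U := sSup O
  have hUT : U ≤ (T : Subgroup P) := _root_.sSup_le fun X ⟨t, ht, hX⟩ => hX ▸ (hcjT ht hA').2
  have hTN : (T : Subgroup P) ≤ Subgroup.normalizer (U : Set P) := by
    intro s hs
    have hle : FFSLTwo.cj s U ≤ U := map_le_iff_le_comap.2 (_root_.sSup_le fun X ⟨t, ht, hX⟩ =>
      map_le_iff_le_comap.1 (le_sSup (show FFSLTwo.cj s X ∈ O from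
        ⟨s * t, (T : Subgroup P).mul_mem hs ht, by rw [hX, cj_mul]⟩)))
    have he := eq_of_le_of_card_ge hle (card_cj s U).ge
    rw [mem_normalizer_iff]
    intro z
    refine ⟨fun hz => conj_eq_self he hz, fun hz => ?_⟩
    rw [← he, mem_cj] at hz
    simpa [mul_assoc] using hz
  have hBN : B ≤ Subgroup.normalizer (U : Set P) := by
    intro b hb
    have hUc : U ≤ Subgroup.centralizer (B : Set P) := _root_.sSup_le fun X ⟨t, ht, hX⟩ z hz =>
      mem_centralizer_iff.2 fun y hy => by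
        subst hX
        refine (g.other_comm hA (hcjT ht hA') hB hBA ?_ z hz y hy).symm
        intro he
        refine hcon t⁻¹ ((T : Subgroup P).inv_mem ht) ?_
        rw [← he, cj_inv_cj]
    rw [mem_normalizer_iff]
    intro z
    constructor
    · intro hz
      rw [(mem_centralizer_iff.1 (hUc hz) b hb), mul_inv_cancel_right]
      exact hz
    · intro hz
      have h1 := mem_centralizer_iff.1 (hUc hz) b hb
      have h2 : b * z * b⁻¹ = z := by
        rw [inv_mul_cancel_right] at h1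
        exact mul_left_cancel h1
      rwa [h2] at hz
  have hN : Subgroup.normalizer (U : Set P) = ⊤ := by
    by_contra hne
    exact hB.2 (hBN.trans (g.hc.uniq g.hM g.hTM hTN hne))
  have hU0 : U = ⊥ := le_bot_iff.1 (g.hc.core ▸
    le_sSup ⟨normalizer_eq_top_iff.1 hN, T.2.to_le hUT⟩)
  refine hA'.1.ne_bot g.hc g.hq (le_bot_iff.1 ?_)
  rw [← hU0]
  exact le_sSup ⟨1, one_mem _, (cj_one A').symm⟩

end Glob

end Cfsg.Lib.FFModule
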