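import Cfsg.Agent.PLocal.FFModule.Section

/-!
The structure theorem for a faithful module with an offender.
-/

set_option autoImplicit false
set_option linter.unusedSectionVars false
set_option linter.style.haveILetI false

namespace Cfsg.Lib.FFModule

open Subgroup Cfsg.Lib.FFSLTwo

variable {P : Type*} [Group P] [Finite P] {V : Type*} [AddCommGroup V] [Finite V]
variable {p : ℕ} [Fact p.Prime] {φ : P →* AddMonoid.End V}

/-- the inner members move a fixed point of the Sylow subgroup -/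
theorem exists_moved {𝓜 : Subgroup P → Prop} {q : ℕ} (ff : FF p φ q 𝓜) {T : Sylow p P}
    {J : Set (Subgroup P)} {A B : Subgroup P} (hJ : ∀ X ∈ J, 𝓜 X) (hA : A ∈ J) (hB : 𝓜 B)
    (hJT : ∀ t ∈ (T : Subgroup P), ∀ X ∈ J, FFSLTwo.cj t X ∈ J)
    (htr : ∀ X ∈ J, ∃ t ∈ (T : Subgroup P), FFSLTwo.cj t A = X)
    (hAB : ¬ Comm A B) (hother : ∀ X ∈ J, X ≠ A → Comm X B) :
    ∃ z, z ∈ fixA φ (T : Subgroup P) ∧ z ∉ fixA φ (⊤ : Subgroup P) := by
  classical
  haveI : Fintype J := Fintype.ofFinite _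
  let S : Subgroup P :=
    { carrier := {t | t ∈ (T : Subgroup P) ∧ FFSLTwo.cj t A = A}
      one_mem' := ⟨one_mem _, cj_one A⟩
      mul_mem' := fun {a b} ha hb => ⟨mul_mem ha.1 hb.1, by rw [← cj_mul, hb.2, ha.2]⟩
      inv_mem' := fun {a} ha => ⟨inv_mem ha.1, by conv_lhs => rw [← ha.2, cj_inv_cj]⟩ }
  have hS : IsPGroup p S := T.2.to_le fun t ht => ht.1
  have hAm := hJ A hA
  -- an element of `A` fixed by the stabiliser
  letI : MulAction S A :=
    { smul := fun s a => ⟨(s : P) * a * (s : P)⁻¹, conj_eq_self s.2.2 a.2⟩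
      one_smul := fun a => Subtype.ext (by show (1 : P) * a * (1 : P)⁻¹ = a; simp)
      mul_smul := fun s s' a => Subtype.ext (by
        show ((s : P) * s') * a * ((s : P) * s')⁻¹ = (s : P) * ((s' : P) * a * (s' : P)⁻¹) * (s : P)⁻¹
        group) }
  have hAp : p ∣ Nat.card A := by
    obtain ⟨k, hk⟩ := IsPGroup.iff_card.1 (isPGroup_el (ff.el hAm))
    rw [hk]
    refine dvd_pow_self p fun h0 => ?_
    rw [h0, pow_zero, ff.card hAm] at hk
    exact ff.one_lt.ne' hk
  obtain ⟨⟨a, ha⟩, hfix, hne⟩ := hS.exists_fixed_point_of_prime_dvd_card_of_fixed_point A hAp (a := 1)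
    (fun s => Subtype.ext (by show (s : P) * 1 * (s : P)⁻¹ = 1; simp))
  have ha1 : a ≠ 1 := fun h => hne (Subtype.ext h.symm)
  have haS : ∀ s ∈ S, s * a * s⁻¹ = a := fun s hs => congrArg Subtype.val (hfix ⟨s, hs⟩)
  -- a vector fixed by the stabiliser
  let W : AddSubgroup V := (dd φ a : V →+ V).range
  have hW : ∀ s ∈ S, ∀ w ∈ W, φ s w ∈ W := by
    rintro s hs _ ⟨v, rfl⟩
    refine ⟨φ s v, ?_⟩
    show dd φ a (φ s v) = φ s (dd φ a v)
    conv_lhs => rw [← haS s hs, dd_cj, phi_inv_cancel]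
  have hW0 : W ≠ ⊥ := fun h => by
    obtain ⟨v, hv⟩ := ff.exists_ne_zero hAm ha ha1
    have h1 : dd φ a v ∈ W := ⟨v, rfl⟩
    rw [h] at h1
    exact hv (AddSubgroup.mem_bot.1 h1)
  obtain ⟨u, ⟨v, hv⟩, hu0, huS⟩ := exists_fix_mem (φ := φ) ff.char hS W hW hW0
  change dd φ a v = u at hv
  have huB : u ∉ fixA φ B := fun h => hu0 (by
    rw [← hv]; exact ff.nc_zero hAm hB hAB ha (hv.symm ▸ h))
  choose t ht htA using fun X : J => htr X X.2
  let z : V := ∑ X : J, φ (t X) u
  refine ⟨z, fun s hs => ?_, fun htop => ?_⟩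
  · -- fixed by the Sylow subgroup
    let e : J → J := fun X => ⟨FFSLTwo.cj s X, hJT s hs X X.2⟩
    have he : Function.Bijective e := Finite.injective_iff_bijective.1 fun X Y h =>
      Subtype.ext (cj_inj (congrArg Subtype.val h))
    show φ s (∑ X : J, φ (t X) u) = ∑ X : J, φ (t X) u
    rw [map_sum]
    conv_rhs => rw [← he.sum_comp (fun X => φ (t X) u)]
    refine Finset.sum_congr rfl fun X _ => ?_
    have hmem : (t (e X))⁻¹ * (s * t X) ∈ S :=
      ⟨mul_mem (inv_mem (ht _)) (mul_mem hs (ht X)), by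
        rw [← cj_mul, ← cj_mul, htA X]
        show FFSLTwo.cj (t (e X))⁻¹ (e X : Subgroup P) = A
        conv_lhs => arg 2; rw [← htA (e X)]
        rw [cj_inv_cj]⟩
    calc φ s (φ (t X) u) = φ (t (e X)) (φ ((t (e X))⁻¹ * (s * t X)) u) := by
          rw [← phi_mul, ← phi_mul, mul_inv_cancel_left]
      _ = φ (t (e X)) u := by rw [huS _ hmem]
  · -- moved by `B`
    obtain ⟨b, hb, hb1⟩ := ff.exists_ne_one hB
    have hbu : dd φ b u ≠ 0 := fun h => huB (ff.cap hB hb hb1 (dd_eq_zero.1 h))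
    refine hbu ?_
    have h1 := dd_eq_zero.2 (htop b (mem_top b))
    show dd φ b u = 0
    rw [show z = ∑ X : J, φ (t X) u from rfl, map_sum, Finset.sum_eq_single (⟨A, hA⟩ : J)] at h1
    · rwa [huS (t ⟨A, hA⟩) ⟨ht _, htA ⟨A, hA⟩⟩] at h1
    · intro X _ hX
      refine dd_eq_zero.2 ?_
      have hcomm := hother X X.2 fun h => hX (Subtype.ext h)
      have hmem : t X * a * (t X)⁻¹ ∈ (X : Subgroup P) := by
        rw [← htA X]; exact conj_mem_cj ha
      have h2 := (ff.comm_mem (hJ X X.2) hB hcomm hmem (φ (t X) v)).2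
      rw [dd_cj, phi_inv_cancel, hv] at h2
      exact h2 b hb
    · exact fun h => absurd (Finset.mem_univ _) h

/-- the members on the section act as offenders on the whole module -/
theorem exists_data (hinj : Function.Injective φ) (hchar : ∀ v : V, p • v = 0)
    (hpmin : Cfsg.IsPMinimal p P) (hcore : Cfsg.pCore p P = ⊥) (T : Sylow p P)
    (hoff : ∃ D : Subgroup P, D ≠ ⊥ ∧ Cfsg.IsElementaryAbelian p D ∧
      (fixA φ D).index ≤ Nat.card D) :
    ∃ (q : ℕ) (M : Subgroup P) (g : Glob p (act p φ) q T M), FF p φ q (Mem p (act p φ) q) ∧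
      ∀ D : Subgroup P, Cfsg.IsElementaryAbelian p D → (fixA φ D).index ≤ Nat.card D →
        (fixA φ D).index = Nat.card D ∧ D ≤ sSup {m | Mem p (act p φ) q m ∧ m ≤ D} ∧
          (D ≠ ⊥ → ∃ Y, Y ≤ D ∧ Mem p (act p φ) q Y) := by
  classical
  have hc := ctx_section hinj hchar hpmin hcore
  obtain ⟨D₀, hD₀, hD₀el, hD₀off⟩ := hoff
  have hpass : ∀ D : Subgroup P, (fixA φ D).index ≤ Nat.card D →
      (fixA (act p φ) D).index ≤ Nat.card D := fun D h =>
    (index_le D).1.trans ((index_le D).2.trans h)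
  obtain ⟨Y₀, ⟨hY0, hYel, hYoff⟩, hmin⟩ := Set.exists_min_image
    {Y : Subgroup P | Y ≠ ⊥ ∧ Cfsg.IsElementaryAbelian p Y ∧
      (fixA (act p φ) Y).index ≤ Nat.card Y}
    (fun Y => Nat.card Y) (Set.toFinite _) ⟨D₀, hD₀, hD₀el, hpass _ hD₀off⟩
  set q := Nat.card Y₀ with hqdef
  have hq : Least p (act p φ) q :=
    ⟨by
      rcases eq_or_ne (Nat.card Y₀) 1 with h | h
      · exact absurd (Subgroup.card_eq_one.1 h) hY0
      · exact Nat.lt_of_le_of_ne Nat.card_pos h.symm,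
     fun Y h0 hel hoff => hmin Y ⟨h0, hel, hoff⟩⟩
  obtain ⟨-, M, ⟨hM, hTM⟩, -⟩ := hpmin T
  have g : Glob p (act p φ) q T M := ⟨hc, hq, hM, hTM, ⟨Y₀, hYel, rfl, hYoff⟩⟩
  have fS := g.ff
  -- an offender inside the Sylow subgroup
  obtain ⟨S, hS⟩ := (isPGroup_el hD₀el).exists_le_sylow
  obtain ⟨k, hk⟩ := MulAction.exists_smul_eq P S T
  set D := FFSLTwo.cj k D₀
  have hDT : D ≤ (T : Subgroup P) := by rw [← hk, Sylow.coe_subgroup_smul]; exact map_mono hS
  have hDel := el_cj k hD₀el (p := p)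
  have hDoff : (fixA φ D).index ≤ Nat.card D := by rw [index_fix_cj, card_cj]; exact hD₀off
  have hDne : D ≠ ⊥ := fun h => hD₀ (cj_inj (g := k) (h.trans (cj_bot k).symm))
  obtain ⟨hDle, hDeq⟩ := g.offender hDel (hpass _ hDoff)
  obtain ⟨A, hAD, hA⟩ := g.exists_mem_le hDne hDel (hpass _ hDoff)
  have hAJ : A ∈ g.inSyl := ⟨hA, hAD.trans hDT⟩
  -- equalities for `D`
  set U := fixA φ D
  have hrel : U.relIndex (ys p φ) = Nat.card D ∧ U.index = Nat.card D := by
    have h1 := index_le (φ := φ) (p := p) D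
    rw [hDeq] at h1
    exact ⟨le_antisymm (h1.2.trans hDoff) h1.1, le_antisymm hDoff (h1.1.trans h1.2)⟩
  have hcomapD : (fixA (act p φ) D).comap (cls p φ) = U.addSubgroupOf (ys p φ) := by
    refine (eq_of_le_of_index_le (fun y hy => cls_mem_fix (AddSubgroup.mem_addSubgroupOf.1 hy)) ?_).symm
    rw [AddSubgroup.index_comap_of_surjective _ (cls_surj p φ), hDeq]
    exact hrel.1.le
  have hYUD : ys p φ ⊔ U = ⊤ := by
    refine AddSubgroup.index_eq_one.1 ?_
    have h1 : U.relIndex (ys p φ ⊔ U) * (ys p φ ⊔ U).index = U.index :=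
      AddSubgroup.relIndex_mul_index le_sup_right
    rw [AddSubgroup.relIndex_sup_right, hrel.1, hrel.2] at h1
    exact Nat.eq_of_mul_eq_mul_left Nat.card_pos (h1.trans (mul_one _).symm)
  have hUA : U ≤ fixA φ A := fixA_anti hAD
  -- the fixed space of `A` on the section lifts
  set SA := ((fixA φ A).addSubgroupOf (ys p φ)).map (cls p φ) with hSA
  have hSAle : SA ≤ fixA (act p φ) A := by
    rintro _ ⟨y, hy, rfl⟩
    exact cls_mem_fix (AddSubgroup.mem_addSubgroupOf.1 hy)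
  have hfixD : fixA (act p φ) D ≤ SA := by
    intro x hx
    obtain ⟨y, rfl⟩ := cls_surj p φ x
    have h1 : y ∈ U.addSubgroupOf (ys p φ) := hcomapD ▸ AddSubgroup.mem_comap.2 hx
    exact ⟨y, AddSubgroup.mem_addSubgroupOf.2 (hUA (AddSubgroup.mem_addSubgroupOf.1 h1)), rfl⟩
  have hAfix : fixA (act p φ) A ≤ SA := by
    refine g.fix_le_of_invariant hAJ hSAle ?_ fun A' hA' a ha v => hfixD ?_
    · rintro x hx _ ⟨y, hy, rfl⟩
      refine ⟨res p φ x y, AddSubgroup.mem_addSubgroupOf.2 ?_, (act_cls p φ x y).symm⟩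
      rw [res_coe]
      intro c hc
      rw [← phi_mul, ← hx c hc, phi_mul, AddSubgroup.mem_addSubgroupOf.1 hy c hc]
    · refine fixA_anti hDle ?_
      refine mem_fixA_sSup.2 fun m hm => ?_
      exact (fS.comm_mem hA'.1 hm.1 (g.inSyl_comm hA' ⟨hm.1, hm.2.trans hDT⟩) ha v).2
  have hcomapA : (fixA (act p φ) A).comap (cls p φ) ≤ (fixA φ A).addSubgroupOf (ys p φ) := by
    intro y hy
    obtain ⟨y', hy', he⟩ := hAfix (AddSubgroup.mem_comap.1 hy)
    have h1 : cls p φ (y - y') = 0 := by rw [map_sub, he, sub_self]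
    have h2 : y - y' ∈ U.addSubgroupOf (ys p φ) :=
      hcomapD ▸ AddSubgroup.mem_comap.2 (by rw [h1]; exact AddSubgroup.zero_mem _)
    have h3 := AddSubgroup.add_mem _ (show y - y' ∈ (fixA φ A).addSubgroupOf (ys p φ) from
      AddSubgroup.mem_addSubgroupOf.2 (hUA (AddSubgroup.mem_addSubgroupOf.1 h2))) hy'
    rwa [sub_add_cancel] at h3
  have hidxA : (fixA φ A).index = q := by
    have h1 : (fixA φ A).relIndex (ys p φ) = q := by
      refine le_antisymm ?_ ((fS.index hA).ge.trans (index_le A).1)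
      have h2 := Nat.le_of_dvd (Nat.pos_of_ne_zero AddSubgroup.index_ne_zero_of_finite)
        (AddSubgroup.index_dvd_of_le hcomapA)
      rw [AddSubgroup.index_comap_of_surjective _ (cls_surj p φ), fS.index hA] at h2
      exact h2
    have h3 : (fixA φ A).relIndex (ys p φ ⊔ fixA φ A) * (ys p φ ⊔ fixA φ A).index = (fixA φ A).index :=
      AddSubgroup.relIndex_mul_index le_sup_right
    rw [AddSubgroup.relIndex_sup_right, h1, show ys p φ ⊔ fixA φ A = ⊤ from
      top_le_iff.1 (hYUD.ge.trans (sup_le_sup_left hUA _)), AddSubgroup.index_top, mul_one] at h3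
    exact h3.symm
  -- every member
  have hidx : ∀ {m}, Mem p (act p φ) q m → (fixA φ m).index = q := fun {m} hm => by
    obtain ⟨l, hl⟩ := g.mem_conj hA hm
    rw [← hl, index_fix_cj, hidxA]
  have hlift : ∀ {m}, Mem p (act p φ) q m →
      (∀ y : ys p φ, cls p φ y ∈ fixA (act p φ) m → (y : V) ∈ fixA φ m) ∧
        ys p φ ⊔ fixA φ m = ⊤ := by
    intro m hm
    have h1 := index_le (φ := φ) (p := p) m
    rw [fS.index hm, hidx hm] at h1
    have hr : (fixA φ m).relIndex (ys p φ) = q := le_antisymm h1.2 h1.1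
    constructor
    · have h2 : (fixA φ m).addSubgroupOf (ys p φ) = (fixA (act p φ) m).comap (cls p φ) := by
        refine eq_of_le_of_index_le (fun y hy => cls_mem_fix (AddSubgroup.mem_addSubgroupOf.1 hy)) ?_
        rw [AddSubgroup.index_comap_of_surjective _ (cls_surj p φ), fS.index hm]
        exact hr.le
      exact fun y hy => AddSubgroup.mem_addSubgroupOf.1 (h2 ▸ AddSubgroup.mem_comap.2 hy)
    · refine AddSubgroup.index_eq_one.1 ?_
      have h3 : (fixA φ m).relIndex (ys p φ ⊔ fixA φ m) * (ys p φ ⊔ fixA φ m).index = (fixA φ m).index :=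
        AddSubgroup.relIndex_mul_index le_sup_right
      rw [AddSubgroup.relIndex_sup_right, hr, hidx hm] at h3
      exact Nat.eq_of_mul_eq_mul_left (by have := hq.one_lt; omega) (h3.trans (mul_one _).symm)
  have hsplit : ∀ {m}, Mem p (act p φ) q m → ∀ v : V, ∃ y : ys p φ, ∃ c ∈ fixA φ m, (y : V) + c = v := by
    intro m hm v
    obtain ⟨y, hy, c, hc, he⟩ := AddSubgroup.mem_sup.1
      ((hlift hm).2.ge (AddSubgroup.mem_top v))
    exact ⟨⟨y, hy⟩, c, hc, he⟩
  have hsupY : ∀ {X Z}, Mem p (act p φ) q X → Mem p (act p φ) q Z → X ≠ Z → ∀ y : ys p φ,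
      ∃ a b : ys p φ, (a : V) ∈ fixA φ X ∧ (b : V) ∈ fixA φ Z ∧ a + b = y := by
    intro X Z hX hZ hne y
    obtain ⟨a', ha', b', hb', he⟩ := fS.split hX hZ hne (cls p φ y)
    obtain ⟨a, rfl⟩ := cls_surj p φ a'
    refine ⟨a, y - a, (hlift hX).1 a ha', (hlift hZ).1 _ ?_, add_sub_cancel a y⟩
    rw [map_sub, ← he, add_sub_cancel_left]
    exact hb'
  -- the interface holds on the whole module
  have ffV : FF p φ q (Mem p (act p φ) q) :=
    { inj := hinj
      char := hchar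
      one_lt := hq.one_lt
      el := fun h => h.el
      card := fun h => h.card
      conj := fun l h => h.conj l
      index := fun h => hidx h
      cap := fun {m} hm {a} ha ha1 {v} hv => by
        obtain ⟨y, c, hc, rfl⟩ := hsplit hm v
        rw [map_add, hc a ha, add_left_inj] at hv
        have h1 : act p φ a (cls p φ y) = cls p φ y :=
          (act_fix_iff p φ a y).2 (by rw [dd_eq_zero.2 hv]; exact AddSubgroup.zero_mem _)
        exact (fixA φ m).add_mem ((hlift hm).1 y (fS.cap hm ha ha1 h1)) hc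
      quad := fun {m} hm {a} ha {b} hb v => by
        obtain ⟨y, c, hc, rfl⟩ := hsplit hm v
        rw [map_add (dd φ b), dd_eq_zero.2 (hc b hb), add_zero]
        refine dd_eq_zero.2 ((hlift hm).1 ⟨_, dd_mem_ys p φ b y⟩ ?_ a ha)
        rw [← dd_cls]
        exact fS.dd_mem hm hb _
      sup := fun {X Z} hX hZ hne => eq_top_iff.2 fun v _ => by
        obtain ⟨y, c, hc, rfl⟩ := hsplit hX v
        obtain ⟨a, b, ha, hb, rfl⟩ := hsupY hX hZ hne y
        rw [AddSubgroup.coe_add, add_right_comm]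
        exact AddSubgroup.add_mem _
          (AddSubgroup.mem_sup_left ((fixA φ X).add_mem ha hc)) (AddSubgroup.mem_sup_right hb)
      nc_inj := fun {X Z} hX hZ hnc {a} ha ha1 {u} hu hu' hd => by
        have hne := fS.ne_of_nc hX hnc
        -- decompose `u` along the commutator and the common fixed space
        obtain ⟨y, k', hk', rfl⟩ : ∃ y : ys p φ, ∃ w ∈ fixA φ X ⊓ fixA φ Z, (y : V) + w = u := by
          obtain ⟨y₁, c₁, hc₁, e₁⟩ := hsplit hX u
          obtain ⟨y₂, c₂, hc₂, e₂⟩ := hsplit hZ c₁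
          obtain ⟨a', b', ha', hb', e₃⟩ := hsupY hX hZ hne y₂
          refine ⟨y₁ + a', c₁ - a', ⟨(fixA φ X).sub_mem hc₁ ha', ?_⟩, ?_⟩
          · have e4 : c₁ - (a' : V) = (b' : V) + c₂ := by
              rw [← e₂, ← e₃, AddSubgroup.coe_add]; abel
            rw [e4]; exact (fixA φ Z).add_mem hb' hc₂
          · rw [AddSubgroup.coe_add, ← e₁]; abel
        rw [map_add, dd_eq_zero.2 (hk'.1 a ha), add_zero] at hd
        have hyZ : (y : V) ∈ fixA φ Z := by
          have := (fixA φ Z).sub_mem hu hk'.2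
          rwa [add_sub_cancel_right] at this
        refine fS.nc_inj hX hZ hnc ha ha1 (cls_mem_fix hyZ)
          (fun h => hu' ((fixA φ X).add_mem ((hlift hX).1 y h) hk'.1)) ?_
        rw [dd_cls]
        exact cls_mem_fix hd }
  refine ⟨q, M, g, ffV, fun X hel hoffX => ⟨?_, (g.offender hel (hpass _ hoffX)).1,
    fun hne => g.exists_mem_le hne hel (hpass _ hoffX)⟩⟩
  have h1 := index_le (φ := φ) (p := p) X
  rw [(g.offender hel (hpass _ hoffX)).2] at h1
  exact le_antisymm hoffX (h1.1.trans h1.2)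

/-- the structure theorem -/
theorem exists_main (hinj : Function.Injective φ) (hchar : ∀ v : V, p • v = 0)
    (hpmin : Cfsg.IsPMinimal p P) (hcore : Cfsg.pCore p P = ⊥) (T : Sylow p P)
    (hoff : ∃ D : Subgroup P, D ≠ ⊥ ∧ Cfsg.IsElementaryAbelian p D ∧
      (fixA φ D).index ≤ Nat.card D) :
    ∃ (q r : ℕ) (E : Fin r → Subgroup P), Decomp p q φ (T : Subgroup P) r E ∧
      (∀ D : Subgroup P, Cfsg.IsElementaryAbelian p D → (fixA φ D).index ≤ Nat.card D →
        D ≤ ⨆ i, E i) ∧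
      (∀ D : Subgroup P, D ≠ ⊥ → Cfsg.IsElementaryAbelian p D → (fixA φ D).index ≤ Nat.card D →
        ∀ N : Subgroup P, N.Normal → D ≤ N → (⨆ i, E i) ≤ N) ∧
      ∃ z, z ∈ fixA φ (T : Subgroup P) ∧ z ∉ fixA φ (⊤ : Subgroup P) := by
  classical
  obtain ⟨q, M, g, ffV, hdata⟩ := exists_data hinj hchar hpmin hcore T hoff
  obtain ⟨A, hAJ⟩ := g.nonempty
  have hA := hAJ.1
  obtain ⟨r, Δ, hb⟩ := g.exists_blocks
  refine ⟨q, r, fun i => sSup (Δ i), ffV.decomp hb, fun X hel hoff => ?_, fun X hne hel hoff N hN hXN => ?_, ?_⟩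
  · rw [← g.mall_eq hb]
    exact (hdata _ hel hoff).2.1.trans (sSup_le_sSup fun m hm => hm.1)
  · rw [← g.mall_eq hb]
    obtain ⟨m, hm, hmm⟩ := (hdata _ hel hoff).2.2 hne
    refine sSup_le fun m' hm' => ?_
    obtain ⟨l, rfl⟩ := g.mem_conj hmm hm'
    rintro _ ⟨x, hx, rfl⟩
    exact hN.conj_mem x (hXN (hm hx)) l
  · obtain ⟨B, hB, hAB⟩ := g.exists_outer_nc hA
    exact exists_moved (J := g.inSyl) ffV (fun X hX => hX.1) hAJ hB.1 (fun t ht X hX => g.cj_inSyl ht hX)
      (fun X hX => g.transitive hAJ hX) hAB (fun X hX hne => g.other_comm hAJ hX hB hAB hne)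

end Cfsg.Lib.FFModule
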