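import Cfsg.Agent.PLocal.FFModule.Pair

/-!
The lines of a pair of members that do not commute; the group they generate is `SL₂`.
-/

set_option autoImplicit false
set_option linter.unusedSectionVars false
set_option linter.style.haveILetI false

namespace Cfsg.Lib.FFModule

open Subgroup Cfsg.Lib.FFSLTwo

variable {P : Type*} [Group P] [Finite P] {V : Type*} [AddCommGroup V] [Finite V]
variable {p : ℕ} [Fact p.Prime] {φ : P →* AddMonoid.End V}

/-- a line of the pair `A`, `B` -/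
def IsLine (φ : P →* AddMonoid.End V) (𝓜 : Subgroup P → Prop) (A B C : Subgroup P) : Prop :=
  𝓜 C ∧ fixA φ A ⊓ fixA φ B ≤ fixA φ C

variable {q : ℕ} {𝓜 : Subgroup P → Prop}

theorem isLine_left {A B : Subgroup P} (hA : 𝓜 A) : IsLine φ 𝓜 A B A := ⟨hA, inf_le_left⟩

theorem isLine_right {A B : Subgroup P} (hB : 𝓜 B) : IsLine φ 𝓜 A B B := ⟨hB, inf_le_right⟩

theorem comm_sup {D A B : Subgroup P} (h1 : Comm D A) (h2 : Comm D B) : Comm D (A ⊔ B) := by
  have h : A ⊔ B ≤ Subgroup.centralizer (D : Set P) :=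
    sup_le (fun a ha => mem_centralizer_iff.2 fun d hd => h1 d hd a ha)
      fun b hb => mem_centralizer_iff.2 fun d hd => h2 d hd b hb
  exact fun d hd x hx => mem_centralizer_iff.1 (h hx) d hd

theorem comm_mono {D A B : Subgroup P} (h : Comm D B) (hle : A ≤ B) : Comm D A :=
  fun d hd a ha => h d hd a (hle ha)

theorem comm_cj {A B : Subgroup P} (g : P) (h : Comm A B) :
    Comm (FFSLTwo.cj g A) (FFSLTwo.cj g B) := by
  rintro _ ⟨a, ha, rfl⟩ _ ⟨b, hb, rfl⟩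
  rw [← map_mul, ← map_mul, h a ha b hb]

theorem comm_cj_iff {A B : Subgroup P} (g : P) :
    Comm (FFSLTwo.cj g A) (FFSLTwo.cj g B) ↔ Comm A B :=
  ⟨fun h => by simpa only [cj_inv_cj] using comm_cj g⁻¹ h, comm_cj g⟩

theorem sup_fix_inf {A B : Subgroup P} {g : P} (hg : g ∈ A ⊔ B) {w : V}
    (hw : w ∈ fixA φ A ⊓ fixA φ B) : φ g w = w := ((fixA_sup A B).ge hw) g hg

/-- a conjugate of a line by an element fixing the common fixed space is a line -/
theorem IsLine.cj (ff : FF p φ q 𝓜) {A B C : Subgroup P} (hC : IsLine φ 𝓜 A B C) {g : P}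
    (hg : ∀ w ∈ fixA φ A ⊓ fixA φ B, φ g w = w) : IsLine φ 𝓜 A B (FFSLTwo.cj g C) := by
  refine ⟨ff.conj g hC.1, fun w hw => mem_fixA_cj.2 ?_⟩
  have h1 : φ g⁻¹ w = w := by
    conv_lhs => rw [← hg w hw]
    exact phi_inv_cancel g w
  rw [h1]
  exact hC.2 hw

namespace FF

variable (ff : FF p φ q 𝓜)
include ff

theorem line_cj_right {A B : Subgroup P} (hB : 𝓜 B) {g : P} (hg : g ∈ A ⊔ B) :
    IsLine φ 𝓜 A B (FFSLTwo.cj g B) :=
  (isLine_right hB).cj ff fun _ hw => sup_fix_inf hg hw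

theorem line_cj_left {A B : Subgroup P} (hA : 𝓜 A) {g : P} (hg : g ∈ A ⊔ B) :
    IsLine φ 𝓜 A B (FFSLTwo.cj g A) :=
  (isLine_left hA).cj ff fun _ hw => sup_fix_inf hg hw

variable {A B : Subgroup P} (hA : 𝓜 A) (hB : 𝓜 B) (hnc : ¬ Comm A B)
include hA hB hnc

/-- the fixed spaces of the lines cover the module -/
theorem cover {v : V} (hv : v ∉ fixA φ A) : ∃ a ∈ A, v ∈ fixA φ (FFSLTwo.cj a B) := by
  obtain ⟨x, hx, u, hu, rfl⟩ := ff.split hA hB (ff.ne_of_nc hA hnc) v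
  obtain ⟨a, ha, hs⟩ := ff.exists_shift hA hB hnc hu (fun h => hv ((fixA φ A).add_mem hx h)) x
  refine ⟨a, ha, mem_fixA_cj.2 ?_⟩
  rw [ff.phi_inv hA ha, map_add, dd_eq_zero.2 (hx a ha), zero_add,
    show x + u - dd φ a u = (x - dd φ a u) + u by abel]
  exact (fixA φ B).add_mem hs hu

theorem line_inf {C D : Subgroup P} (hC : IsLine φ 𝓜 A B C) (hD : IsLine φ 𝓜 A B D)
    (hne : C ≠ D) : fixA φ C ⊓ fixA φ D = fixA φ A ⊓ fixA φ B :=
  (eq_of_le_of_index_le (le_inf hC.2 hD.2)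
    (by rw [ff.index_inf hA hB (ff.ne_of_nc hA hnc), ff.index_inf hC.1 hD.1 hne])).symm

/-- two lines are equal when their fixed spaces share more than the common part -/
theorem line_unique {C D : Subgroup P} (hC : IsLine φ 𝓜 A B C) (hD : IsLine φ 𝓜 A B D) {v : V}
    (hv : v ∈ fixA φ C) (hv' : v ∈ fixA φ D) (hv0 : v ∉ fixA φ A ⊓ fixA φ B) : C = D :=
  by_contra fun hne => hv0 ((ff.line_inf hA hB hnc hC hD hne).le ⟨hv, hv'⟩)

theorem line_eq {C : Subgroup P} (hC : IsLine φ 𝓜 A B C) :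
    C = A ∨ ∃ a ∈ A, C = FFSLTwo.cj a B := by
  obtain ⟨v, hv, hv0⟩ := SetLike.not_le_iff_exists.1 (fun h : fixA φ C ≤ fixA φ A ⊓ fixA φ B => by
    have h1 := AddSubgroup.index_dvd_of_le h
    rw [ff.index hC.1, ff.index_inf hA hB (ff.ne_of_nc hA hnc)] at h1
    have h2 := Nat.le_of_dvd (by have := ff.one_lt; omega) h1
    have h3 : q * 1 < q * q := Nat.mul_lt_mul_of_pos_left ff.one_lt (by have := ff.one_lt; omega)
    omega)
  by_cases hvA : v ∈ fixA φ A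
  · exact Or.inl (ff.line_unique hA hB hnc hC (isLine_left hA) hv hvA hv0)
  · obtain ⟨a, ha, hva⟩ := ff.cover hA hB hnc hvA
    exact Or.inr ⟨a, ha, ff.line_unique hA hB hnc hC
      (ff.line_cj_right hB (mem_sup_left ha)) hv hva hv0⟩

theorem line_le {C : Subgroup P} (hC : IsLine φ 𝓜 A B C) : C ≤ A ⊔ B := by
  rcases ff.line_eq hA hB hnc hC with rfl | ⟨a, ha, rfl⟩
  · exact le_sup_left
  · rintro _ ⟨b, hb, rfl⟩
    exact mul_mem (mul_mem (mem_sup_left ha) (mem_sup_right hb)) (inv_mem (mem_sup_left ha))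

theorem line_nc {C D : Subgroup P} (hC : IsLine φ 𝓜 A B C) (hD : IsLine φ 𝓜 A B D) (hne : C ≠ D) :
    ¬ Comm C D := by
  intro hcomm
  have hK := ff.line_inf hA hB hnc hC hD hne
  have key : ∀ {g : P}, (∀ w ∈ fixA φ A ⊓ fixA φ B, φ g w = w) → ∀ X : Subgroup P,
      (∀ c ∈ FFSLTwo.cj g X, ∀ v, dd φ c v ∈ fixA φ A ⊓ fixA φ B) →
      ∀ x ∈ X, ∀ v, dd φ x v ∈ fixA φ A ⊓ fixA φ B := by
    intro g hg X h x hx v
    have h1 := h _ (conj_mem_cj hx) (φ g v)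
    rw [dd_cj, phi_inv_cancel] at h1
    have h2 := congrArg (φ g⁻¹) (hg _ h1)
    rw [phi_inv_cancel, phi_inv_cancel] at h2
    exact h2 ▸ h1
  have hCK : ∀ c ∈ C, ∀ v, dd φ c v ∈ fixA φ A ⊓ fixA φ B := fun c hc v =>
    hK ▸ ff.comm_mem hC.1 hD.1 hcomm hc v
  rcases ff.line_eq hA hB hnc hC with h | ⟨a, ha, h⟩
  · subst h
    obtain ⟨c, hc, hc1⟩ := ff.exists_ne_one hA
    obtain ⟨u, hu, hne'⟩ := ff.exists_image hA hB (ff.ne_of_nc hA hnc) hc hc1
    exact hne' (ff.nc_zero hA hB hnc hc (hCK c hc u).2)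
  · have hBK := key (g := a) (fun w hw => hw.1 a ha) B (h ▸ hCK)
    obtain ⟨b, hb, hb1⟩ := ff.exists_ne_one hB
    obtain ⟨u, hu, hne'⟩ := ff.exists_image hB hA (ff.ne_of_nc hA hnc).symm hb hb1
    exact hne' (ff.nc_zero hB hA (fun h => hnc h.symm) hb (hBK b hb u).1)

/-- any two lines give the same lines -/
theorem line_iff {C D : Subgroup P} (hC : IsLine φ 𝓜 A B C) (hD : IsLine φ 𝓜 A B D) (hne : C ≠ D)
    (X : Subgroup P) : IsLine φ 𝓜 C D X ↔ IsLine φ 𝓜 A B X := by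
  unfold IsLine
  rw [ff.line_inf hA hB hnc hC hD hne]

/-- any two lines generate -/
theorem line_sup {C D : Subgroup P} (hC : IsLine φ 𝓜 A B C) (hD : IsLine φ 𝓜 A B D) (hne : C ≠ D) :
    C ⊔ D = A ⊔ B := by
  have hCD := ff.line_nc hA hB hnc hC hD hne
  refine le_antisymm (sup_le (ff.line_le hA hB hnc hC) (ff.line_le hA hB hnc hD)) (sup_le ?_ ?_)
  · exact ff.line_le hC.1 hD.1 hCD ((ff.line_iff hA hB hnc hC hD hne A).2 (isLine_left hA))
  · exact ff.line_le hC.1 hD.1 hCD ((ff.line_iff hA hB hnc hC hD hne B).2 (isLine_right hB))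

/-- every member commutes with a line -/
theorem exists_comm_line {D : Subgroup P} (hD : 𝓜 D) :
    ∃ C, IsLine φ 𝓜 A B C ∧ Comm D C := by
  obtain ⟨d, hd, hd1⟩ := ff.exists_ne_one hD
  obtain ⟨v, hv⟩ := ff.exists_ne_zero hD hd hd1
  by_cases hw : dd φ d v ∈ fixA φ A
  · exact ⟨A, isLine_left hA, ff.comm_of_image hD hA hd hw hv⟩
  · obtain ⟨a, ha, hwa⟩ := ff.cover hA hB hnc hw
    exact ⟨_, ff.line_cj_right hB (mem_sup_left ha),
      ff.comm_of_image hD (ff.conj a hB) hd hwa hv⟩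

theorem comm_of_two {C D X : Subgroup P} {Y : Subgroup P} (hC : IsLine φ 𝓜 A B C)
    (hD : IsLine φ 𝓜 A B D) (hne : C ≠ D) (hX : IsLine φ 𝓜 A B X) (h1 : Comm Y C)
    (h2 : Comm Y D) : Comm Y X :=
  comm_mono (comm_sup h1 h2) ((ff.line_sup hA hB hnc hC hD hne).symm ▸ ff.line_le hA hB hnc hX)

/-- a line commuted with is the only one, unless all are -/
theorem nc_line {C D X : Subgroup P} {Y : Subgroup P} (hC : IsLine φ 𝓜 A B C)
    (hD : IsLine φ 𝓜 A B D) (hX : IsLine φ 𝓜 A B X) (h1 : Comm Y C) (h2 : ¬ Comm Y D)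
    (hne : X ≠ C) : ¬ Comm Y X := fun h3 =>
  h2 (ff.comm_of_two hA hB hnc hX hC hne hD h3 h1)

/-- a line other than two given ones -/
theorem exists_third {a : P} (ha : a ∈ A) (ha1 : a ≠ 1) :
    IsLine φ 𝓜 A B (FFSLTwo.cj a B) ∧ FFSLTwo.cj a B ≠ A ∧ FFSLTwo.cj a B ≠ B := by
  refine ⟨ff.line_cj_right hB (mem_sup_left ha), fun h => ff.ne_of_nc hA hnc (cj_inj (g := a) ?_),
    ff.cj_ne hA hB hnc ha ha1⟩
  rw [h, cj_le_self ha]

theorem third_inj {a a' : P} (ha : a ∈ A) (ha' : a' ∈ A)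
    (h : FFSLTwo.cj a B = FFSLTwo.cj a' B) : a = a' := by
  by_contra hne
  refine ff.cj_ne hA hB hnc (A.mul_mem (A.inv_mem ha') ha)
    (fun h1 => hne (inv_mul_eq_one.1 h1).symm) ?_
  rw [← cj_mul, h, cj_inv_cj]

end FF

/-- members in a `p`-group commute -/
theorem FF.comm_of_pgroup (ff : FF p φ q 𝓜) {A B R : Subgroup P} (hA : 𝓜 A) (hB : 𝓜 B)
    (hR : IsPGroup p R) (hAR : A ≤ R) (hBR : B ≤ R) : Comm A B := by
  classical
  by_contra hnc
  have hne := ff.ne_of_nc hA hnc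
  set K := fixA φ A ⊓ fixA φ B with hK
  have hstab : ∀ r ∈ A ⊔ B, ∀ f ∈ ann p K, dual p φ r f ∈ ann p K := fun r hr f hf w hw => by
    rw [dual_apply, sup_fix_inf ((A ⊔ B).inv_mem hr) hw]
    exact hf w hw
  have hRp : IsPGroup p ↥(A ⊔ B) := hR.to_le (sup_le hAR hBR)
  have hann : ann p K ≠ ⊥ := by
    intro h
    have h1 := card_ann (p := p) ff.char K
    rw [h, AddSubgroup.card_bot, ff.index_inf hA hB hne] at h1
    have := ff.one_lt
    have h3 : q * 1 < q * q := Nat.mul_lt_mul_of_pos_left ff.one_lt (by omega)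
    omega
  obtain ⟨f, hfK, hf0, hf⟩ := exists_fix_mem (φ := dual p φ) (dual_char p) hRp (ann p K) hstab hann
  have hkill := dual_fix_iff.1 hf
  -- `f` kills both fixed spaces
  have key : ∀ {C D : Subgroup P}, 𝓜 C → 𝓜 D → ¬ Comm C D → C ≤ A ⊔ B →
      (fixA φ C ⊓ fixA φ D = K) → ∀ x ∈ fixA φ C, f x = 0 := by
    intro C D hC hD hCD hCL hI x hx
    obtain ⟨u, hu, hu'⟩ := SetLike.not_le_iff_exists.1 (ff.not_fix_le hD hC (ff.ne_of_nc hC hCD).symm)
    obtain ⟨c, hc, hs⟩ := ff.exists_shift hC hD hCD hu hu' x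
    have h1 : f (x - dd φ c u) = 0 :=
      hfK _ (hI ▸ ⟨(fixA φ C).sub_mem hx (ff.dd_mem hC hc u), hs⟩)
    rwa [map_sub, hkill c (hCL hc) u, sub_zero] at h1
  refine hf0 (AddMonoidHom.ext fun v => ?_)
  obtain ⟨x, hx, u, hu, rfl⟩ := ff.split hA hB hne v
  rw [map_add, key hA hB hnc le_sup_left rfl x hx,
    key hB hA (fun h => hnc h.symm) le_sup_right (inf_comm _ _) u hu, add_zero]
  rfl

end Cfsg.Lib.FFModule
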