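import Cfsg.Agent.PLocal.FFModule.Coord

/-!
Members: offenders of least order.  Commuting members.
-/

set_option autoImplicit false
set_option linter.unusedSectionVars false
set_option linter.style.haveILetI false

namespace Cfsg.Lib.FFModule

open Subgroup Cfsg.Lib.FFSLTwo

variable {P : Type*} [Group P] [Finite P] {V : Type*} [AddCommGroup V] [Finite V]
variable {p : ℕ} [Fact p.Prime] {φ : P →* AddMonoid.End V}

/-- `q` is the least order of an offender -/
structure Least (p : ℕ) (φ : P →* AddMonoid.End V) (q : ℕ) : Prop where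
  one_lt : 1 < q
  le : ∀ Y : Subgroup P, Y ≠ ⊥ → Cfsg.IsElementaryAbelian p Y →
    (fixA φ Y).index ≤ Nat.card Y → q ≤ Nat.card Y

/-- an offender of least order -/
structure Mem (p : ℕ) (φ : P →* AddMonoid.End V) (q : ℕ) (A : Subgroup P) : Prop where
  el : Cfsg.IsElementaryAbelian p A
  card : Nat.card A = q
  off : (fixA φ A).index ≤ q

/-- two subgroups commute elementwise -/
def Comm (A B : Subgroup P) : Prop := ∀ a ∈ A, ∀ b ∈ B, a * b = b * a

theorem Comm.symm {A B : Subgroup P} (h : Comm A B) : Comm B A := fun b hb a ha => (h a ha b hb).symm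

/-- elements with vanishing products commute -/
theorem comm_of_zero (hinj : Function.Injective φ) {a b : P} (h₁ : ∀ v, dd φ a (dd φ b v) = 0)
    (h₂ : ∀ v, dd φ b (dd φ a v) = 0) : a * b = b * a := by
  refine hinj (DFunLike.ext (F := AddMonoid.End V) _ _ fun (v : V) => ?_)
  rw [phi_mul, phi_mul]
  have h3 := h₁ v
  have h4 := h₂ v
  rw [dd_apply b, map_sub, dd_apply a, dd_apply a] at h3
  rw [dd_apply a, map_sub, dd_apply b, dd_apply b] at h4
  have h5 : φ a (φ b v) - φ b (φ a v) =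
      (φ a (φ b v) - φ b v - (φ a v - v)) - (φ b (φ a v) - φ a v - (φ b v - v)) := by abel
  rw [← sub_eq_zero, h5, h3, h4, sub_zero]

theorem dd_mul_of_zero {a b : P} (h : ∀ v, dd φ a (dd φ b v) = 0) (v : V) :
    dd φ (a * b) v = dd φ a v + dd φ b v := by
  have h1 := h v
  rw [dd_apply b, dd_apply a, map_sub] at h1
  rw [dd_apply, dd_apply, dd_apply, phi_mul]
  calc φ a (φ b v) - v
      = (φ a (φ b v) - φ a v - (φ b v - v)) + (φ a v - v + (φ b v - v)) := by abel
    _ = _ := by rw [h1, zero_add]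

theorem dd_comm {a b : P} (h : a * b = b * a) (v : V) : dd φ a (dd φ b v) = dd φ b (dd φ a v) := by
  rw [dd_apply b, dd_apply a, map_sub, dd_apply a v, dd_apply b, map_sub, ← phi_mul, h, phi_mul]
  abel

theorem exists_ne_ker {α : Type*} [Group α] [Finite α] {β : Type*} [AddCommGroup β] [Finite β]
    (f : α → β) (hf : ∀ x y, f (x * y) = f x + f y) (hlt : Nat.card β < Nat.card α) :
    ∃ x, x ≠ 1 ∧ f x = 0 := by
  by_contra hcon
  push Not at hcon
  refine absurd (Nat.card_le_card_of_injective f fun x y hxy => ?_) (not_le.2 hlt)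
  have h1 : f (x * y⁻¹) + f y = f y := by rw [← hf, inv_mul_cancel_right, hxy]
  by_contra hne
  refine hcon (x * y⁻¹) (fun h0 => hne (mul_inv_eq_one.1 h0)) ?_
  simpa using h1

theorem exists_order_q {G₁ : Subgroup P} (hel : Cfsg.IsElementaryAbelian p G₁) {q : ℕ}
    (hq : ∃ n, q = p ^ n) (hq1 : 1 < q) (hqle : q ≤ Nat.card G₁) {y : P} (hy : y ∈ G₁) :
    ∃ Y : Subgroup P, Y ≤ G₁ ∧ y ∈ Y ∧ Nat.card Y = q := by
  obtain ⟨n, rfl⟩ := hq
  obtain ⟨m, hm⟩ := IsPGroup.iff_card.1 (isPGroup_el hel)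
  have hnm : n ≤ m := (Nat.pow_le_pow_iff_right (Fact.out : p.Prime).one_lt).1 (hm ▸ hqle)
  have hz : Nat.card (zpowers (⟨y, hy⟩ : G₁)) ∣ p := by
    rw [Nat.card_zpowers]
    exact orderOf_dvd_of_pow_eq_one (Subtype.ext (by push_cast; exact hel.2 y hy))
  have hzp : IsPGroup p (zpowers (⟨y, hy⟩ : G₁)) := (isPGroup_el hel).to_subgroup _
  obtain ⟨k, hk⟩ := IsPGroup.iff_card.1 hzp
  have hkn : k ≤ n := by
    rw [hk] at hz
    have h1 : k ≤ 1 := (Nat.pow_le_pow_iff_right (Fact.out : p.Prime).one_lt).1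
      (by rw [pow_one]; exact Nat.le_of_dvd (Fact.out : p.Prime).pos hz)
    have h2 : n ≠ 0 := by rintro rfl; simp at hq1
    omega
  obtain ⟨K, hK, hle⟩ := Sylow.exists_subgroup_card_pow_prime_le (G := G₁) p
    (n := k) (m := n) (hm ▸ pow_dvd_pow p hnm) (zpowers (⟨y, hy⟩ : G₁)) hk hkn
  refine ⟨K.map G₁.subtype, map_subtype_le _, ⟨_, hle (mem_zpowers _), rfl⟩, ?_⟩
  rw [← hK]
  exact (Nat.card_congr (K.equivMapOfInjective _ G₁.subtype_injective).toEquiv).symm

section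

variable (hc : Ctx p φ) {q : ℕ} (hq : Least p φ q)
include hc hq

theorem Mem.ne_bot {A : Subgroup P} (h : Mem p φ q A) : A ≠ ⊥ := fun h0 => by
  have h1 := h.card
  rw [h0, Subgroup.card_bot] at h1
  have := hq.one_lt
  omega

theorem Mem.strict {A : Subgroup P} (h : Mem p φ q A) : Strict p φ A where
  ne_bot := h.ne_bot hc hq
  el := h.el
  off := h.card ▸ h.off
  strict := fun A₀ hle h0 h1 => by
    by_contra hcon
    have h2 := hq.le A₀ h0 (Cfsg.Lib.ElemToolkit.elementary_mono hle h.el) (not_lt.1 hcon)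
    exact h1 (eq_of_le_of_card_ge hle (h.card ▸ h2))

theorem Mem.exists_frame {A : Subgroup P} (h : Mem p φ q A) :
    ∃ M x, PreFrame p φ A M x ∧ Frame p φ A M (FFSLTwo.cj x A) := by
  obtain ⟨M, x, hpf⟩ := hc.exists_preFrame (h.strict hc hq)
  exact ⟨M, x, hpf, (hpf.exists_frame hc).1⟩

theorem Mem.q_pow {A : Subgroup P} (h : Mem p φ q A) : ∃ n, q = p ^ n := by
  obtain ⟨n, hn⟩ := IsPGroup.iff_card.1 (isPGroup_el h.el)
  exact ⟨n, h.card ▸ hn⟩

theorem Mem.cap {A : Subgroup P} (h : Mem p φ q A) {a : P} (ha : a ∈ A) (ha1 : a ≠ 1) {v : V}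
    (hv : φ a v = v) : v ∈ fixA φ A := by
  obtain ⟨M, x, -, hF⟩ := h.exists_frame hc hq
  exact hF.cap a ha ha1 v hv

theorem Mem.index {A : Subgroup P} (h : Mem p φ q A) : (fixA φ A).index = q := by
  obtain ⟨M, x, -, hF⟩ := h.exists_frame hc hq
  rw [hF.index, h.card]

theorem Mem.quad {A : Subgroup P} (h : Mem p φ q A) {a : P} (ha : a ∈ A) {b : P} (hb : b ∈ A) (v : V) :
    dd φ a (dd φ b v) = 0 :=
  hc.quad (h.strict hc hq) a ha b hb v

theorem Mem.dd_mem {A : Subgroup P} (h : Mem p φ q A) {a : P} (ha : a ∈ A) (v : V) :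
    dd φ a v ∈ fixA φ A := fun _ hb => dd_eq_zero.1 (h.quad hc hq hb ha v)

omit hc hq in
theorem Mem.conj {A : Subgroup P} (h : Mem p φ q A) (g : P) : Mem p φ q (FFSLTwo.cj g A) :=
  ⟨el_cj g h.el, (card_cj g A).trans h.card, (index_fix_cj g A).le.trans h.off⟩

/-- a member meeting a point lies in it -/
theorem Mem.le_pt {A M : Subgroup P} (h : Mem p φ q A) (hM : IsPt p M) {a : P} (ha : a ∈ A)
    (ha1 : a ≠ 1) (haM : a ∈ M) : A ≤ M := by
  obtain ⟨v, hv, -, hsv⟩ := hc.exists_sv hM ((isPGroup_el h.el).to_le (zpowers_le.2 ha))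
    (zpowers_le.2 haM)
  exact fun b hb => hsv b (h.cap hc hq ha ha1 (hv a (mem_zpowers a)) b hb)

/-- in a group fixing `U` of index `q` elements have fixed space `U` -/
theorem cap_of_fix {A G₁ : Subgroup P} (hA : Mem p φ q A) (hel : Cfsg.IsElementaryAbelian p G₁)
    (hle : q ≤ Nat.card G₁) {U : AddSubgroup V} (hU : U ≤ fixA φ G₁) (hidx : U.index = q)
    {y : P} (hy : y ∈ G₁) (hy1 : y ≠ 1) {v : V} (hv : φ y v = v) : v ∈ U := by
  obtain ⟨Y, hYG, hyY, hYc⟩ := exists_order_q hel (hA.q_pow hc hq) hq.one_lt hle hy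
  have hUY : U ≤ fixA φ Y := hU.trans (fixA_anti hYG)
  have hY : Mem p φ q Y := ⟨Cfsg.Lib.ElemToolkit.elementary_mono hYG hel, hYc,
    (Nat.le_of_dvd (by rw [hidx]; have := hq.one_lt; omega)
      (AddSubgroup.index_dvd_of_le hUY)).trans hidx.le⟩
  have e : U = fixA φ Y := eq_of_le_of_index_le hUY (by rw [hidx, hY.index hc hq])
  exact e ▸ hY.cap hc hq hyY hy1 hv

/-- members with the same fixed space are equal -/
theorem Mem.eq_of_fix {A B : Subgroup P} (hA : Mem p φ q A) (hB : Mem p φ q B)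
    (he : fixA φ A = fixA φ B) : A = B := by
  have hz : ∀ a ∈ A, ∀ b ∈ B, (∀ v, dd φ a (dd φ b v) = 0) ∧ ∀ v, dd φ b (dd φ a v) = 0 :=
    fun a ha b hb => ⟨fun v => dd_eq_zero.2 ((he.symm ▸ hB.dd_mem hc hq hb v : dd φ b v ∈ fixA φ A) a ha),
      fun v => dd_eq_zero.2 ((he ▸ hA.dd_mem hc hq ha v : dd φ a v ∈ fixA φ B) b hb)⟩
  have hcomm : Comm A B := fun a ha b hb => comm_of_zero hc.inj (hz a ha b hb).1 (hz a ha b hb).2
  by_contra hne
  set G₁ := A ⊔ B with hG
  have hel : Cfsg.IsElementaryAbelian p G₁ := Cfsg.Lib.ElemToolkit.elementary_sup hA.el hB.el hcomm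
  have hUfix : fixA φ A ≤ fixA φ G₁ := by rw [hG, fixA_sup, ← he, inf_idem]
  have hqlt : q < Nat.card G₁ := by
    refine lt_of_le_of_ne ?_ fun h0 => hne ?_
    · exact hA.card ▸ Nat.card_le_card_of_injective _ (inclusion_injective le_sup_left)
    · have h1 : A = G₁ := eq_of_le_of_card_ge le_sup_left (by rw [hA.card]; exact h0.ge)
      have h2 : B = G₁ := eq_of_le_of_card_ge le_sup_right (by rw [hB.card]; exact h0.ge)
      exact h1.trans h2.symm
  set U := fixA φ A with hUdef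
  have hidx : U.index = q := hA.index hc hq
  have hdU : ∀ y ∈ G₁, ∀ v, dd φ y v ∈ U := by
    intro y hy
    rw [hG, sup_eq_closure] at hy
    induction hy using closure_induction with
    | mem z hz' =>
      rcases hz' with hz' | hz'
      · exact hA.dd_mem hc hq hz'
      · exact fun v => he.symm ▸ hB.dd_mem hc hq hz' v
    | one => intro v; rw [dd_apply, phi_one, sub_self]; exact U.zero_mem
    | mul a b _ _ ha hb =>
      intro v
      rw [show dd φ (a * b) v = dd φ a (φ b v) + dd φ b v by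
        rw [dd_apply, dd_apply, dd_apply, phi_mul]; abel]
      exact U.add_mem (ha _) (hb _)
    | inv a _ ha =>
      intro v
      rw [show dd φ a⁻¹ v = -dd φ a (φ a⁻¹ v) by rw [dd_apply, dd_apply, phi_cancel_inv, neg_sub]]
      exact U.neg_mem (ha _)
  obtain ⟨M, hM, hAM⟩ := hc.avoid (isPGroup_el hA.el) (hA.ne_bot hc hq)
  obtain ⟨f, -, -, hsf⟩ := hc.exists_sf hM (IsPGroup.of_bot : IsPGroup p ↥(⊥ : Subgroup P)) bot_le
  let g : G₁ → ann p U := fun y => ⟨f.comp (dd φ (y : P) : V →+ V), fun u hu => by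
    show f (dd φ (y : P) u) = 0
    rw [dd_eq_zero.2 (hUfix hu y y.2), map_zero]⟩
  obtain ⟨y, hy1, hy0⟩ := exists_ne_ker g (fun x y => Subtype.ext (AddMonoidHom.ext fun v => by
    show f (dd φ ((x : P) * y) v) = f (dd φ (x : P) v) + f (dd φ (y : P) v)
    rw [← map_add, dd_mul_of_zero fun w => dd_eq_zero.2 (hUfix (hdU _ y.2 w) x x.2)]))
    (by rw [card_ann hc.char, hidx]; exact hqlt)
  have hyM : (y : P) ∈ M := hsf _ fun v => DFunLike.congr_fun (congrArg Subtype.val hy0) v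
  obtain ⟨v, hv, -, hsv⟩ := hc.exists_sv hM ((isPGroup_el hel).to_le (zpowers_le.2 y.2))
    (zpowers_le.2 hyM)
  have hvU := cap_of_fix hc hq hA hel hqlt.le hUfix hidx y.2 (fun h0 => hy1 (Subtype.ext h0))
    (hv _ (mem_zpowers _))
  exact hAM fun a ha => hsv a (hvU a ha)

theorem Mem.inf_eq_bot {A B : Subgroup P} (hA : Mem p φ q A) (hB : Mem p φ q B) (hne : A ≠ B) :
    A ⊓ B = ⊥ := by
  refine (eq_bot_iff_forall _).2 fun a ha => ?_
  by_contra ha1
  refine hne (hA.eq_of_fix hc hq hB (le_antisymm ?_ ?_))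
  · exact fun v hv => hB.cap hc hq ha.2 ha1 (hv a ha.1)
  · exact fun v hv => hA.cap hc hq ha.1 ha1 (hv a ha.2)

theorem Mem.stable_fix {A : Subgroup P} (hA : Mem p φ q A) {g : P}
    (hg : ∀ v ∈ fixA φ A, φ g v ∈ fixA φ A) : FFSLTwo.cj g A = A := by
  refine (hA.conj g).eq_of_fix hc hq hA (eq_of_le_of_index_le (fun v hv => ?_)
    (index_fix_cj g A).le)
  have h1 := hg _ (mem_fixA_cj.1 hv)
  rwa [phi_cancel_inv] at h1

/-- commuting members annihilate each other -/
theorem Mem.zero {A B : Subgroup P} (hA : Mem p φ q A) (hB : Mem p φ q B) (hcomm : Comm A B)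
    {a : P} (ha : a ∈ A) {b : P} (hb : b ∈ B) (v : V) : dd φ a (dd φ b v) = 0 := by
  set CA := fixA φ A with hCA
  set CB := fixA φ B with hCB
  by_cases htop : CA ⊔ CB = ⊤
  · obtain ⟨x, hx, y, hy, rfl⟩ := AddSubgroup.mem_sup.1 (htop ▸ AddSubgroup.mem_top v : v ∈ CA ⊔ CB)
    rw [map_add, map_add, dd_comm (hcomm a ha b hb), dd_eq_zero.2 (hx a ha), map_zero, zero_add,
      dd_eq_zero.2 (hy b hb), map_zero]
  set K := CA ⊓ CB with hK
  let g : A → CA ⧸ K.addSubgroupOf CA := fun a => QuotientAddGroup.mk ⟨dd φ (a : P) v, hA.dd_mem hc hq a.2 v⟩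
  have hlt : Nat.card (CA ⧸ K.addSubgroupOf CA) < Nat.card A := by
    have h1 := index_inf_mul_sup CA CB
    have h2 : K.index = Nat.card (CA ⧸ K.addSubgroupOf CA) * CA.index := by
      rw [← AddSubgroup.relIndex_mul_index (inf_le_left : K ≤ CA)]; rfl
    rw [← hK, h2, hA.index hc hq, hB.index hc hq, mul_right_comm] at h1
    have h3 := Nat.eq_of_mul_eq_mul_right (Nat.lt_of_lt_of_le Nat.zero_lt_one hq.one_lt.le) h1
    have h4 : 1 < (CA ⊔ CB).index :=
      Nat.one_lt_iff_ne_zero_and_ne_one.2 ⟨AddSubgroup.index_ne_zero_of_finite,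
        fun h0 => htop (AddSubgroup.index_eq_one.1 h0)⟩
    rw [hA.card]
    calc Nat.card (CA ⧸ K.addSubgroupOf CA)
        < Nat.card (CA ⧸ K.addSubgroupOf CA) * (CA ⊔ CB).index :=
          lt_mul_of_one_lt_right Nat.card_pos h4
      _ = q := h3
  obtain ⟨a', ha'1, ha'0⟩ := exists_ne_ker g (fun x y => by
    rw [← QuotientAddGroup.mk_add]
    exact congrArg QuotientAddGroup.mk (Subtype.ext
      (dd_mul_of_zero (fun w => hA.quad hc hq x.2 y.2 w) v))) hlt
  have hmem : dd φ (a' : P) v ∈ K :=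
    AddSubgroup.mem_addSubgroupOf.1 ((QuotientAddGroup.eq_zero_iff _).1 ha'0)
  have h1 : φ (a' : P) (dd φ b v) = dd φ b v := by
    rw [← dd_eq_zero, dd_comm (hcomm _ a'.2 b hb)]
    exact dd_eq_zero.2 (hmem.2 b hb)
  exact dd_eq_zero.2 (hA.cap hc hq a'.2 (fun h0 => ha'1 (Subtype.ext h0)) h1 a ha)

end

end Cfsg.Lib.FFModule
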