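import Cfsg.Agent.PLocal.FFModule.Natural
import Cfsg.Agent.PLocal.FFModule.Perm
import Cfsg.Agent.PLocal.FFModule.Blocks

/-!
The module decomposes along the blocks.
-/

set_option autoImplicit false
set_option linter.unusedSectionVars false
set_option linter.style.haveILetI false

namespace Cfsg.Lib.FFModule

open Subgroup Cfsg.Lib.FFSLTwo

variable {P : Type*} [Group P] [Finite P] {V : Type*} [AddCommGroup V] [Finite V]
variable {p : ℕ} [Fact p.Prime] {φ : P →* AddMonoid.End V}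
variable {q : ℕ} {𝓜 : Subgroup P → Prop}

/-- a block of type `SL₂` -/
def BlockSL (p : ℕ) (φ : P →* AddMonoid.End V) (E : Subgroup P) (n : ℕ) : Prop :=
  ∃ (F : Type) (_ : Field F) (_ : Fintype F) (ρ : ↥E ≃* Matrix.SpecialLinearGroup (Fin 2) F)
    (Ψ : V →+ (Fin 2 → F)), Fintype.card F = p ^ n ∧
      (∀ z, ∃ u ∈ img φ E, Ψ u = z) ∧ (∀ v, Ψ v = 0 ↔ v ∈ fixA φ E) ∧
      ∀ (g : ↥E) v, Ψ (φ (g : P) v) = ((ρ g : Matrix.SpecialLinearGroup (Fin 2) F) :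
        Matrix (Fin 2) (Fin 2) F).mulVec (Ψ v)

/-- a block of symmetric type -/
def BlockPerm (φ : P →* AddMonoid.End V) (E : Subgroup P) (n : ℕ) : Prop :=
  ∃ (ρ : ↥E ≃* Equiv.Perm (Fin (2 ^ n + 1))) (Ψ : V →+ (Fin (2 ^ n + 1) → ZMod 2)),
    (∀ v, ∑ i, Ψ v i = 0) ∧
    (∀ z : Fin (2 ^ n + 1) → ZMod 2, ∑ i, z i = 0 → ∃ u ∈ img φ E, Ψ u = z) ∧
    (∀ v, Ψ v = 0 ↔ v ∈ fixA φ E) ∧
    ∀ (g : ↥E) v i, Ψ (φ (g : P) v) i = Ψ v ((ρ g)⁻¹ i)

/-- the decomposition of the group and of the module -/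
structure Decomp (p q : ℕ) (φ : P →* AddMonoid.End V) (T : Subgroup P) (r : ℕ)
    (E : Fin r → Subgroup P) : Prop where
  pos : 1 ≤ r
  comm : ∀ {i j}, i ≠ j → Comm (E i) (E j)
  inf : ∀ i, E i ⊓ (⨆ j ∈ {j | j ≠ i}, E j) = ⊥
  gen : (⨆ i, E i) ⊔ T = ⊤
  trans : ∀ i j, ∃ t ∈ T, FFSLTwo.cj t (E i) = E j
  split : fixA φ (⨆ i, E i) ⊔ ⨆ i, img φ (E i) = ⊤
  zero : ∀ {i j}, i ≠ j → ∀ g ∈ E j, ∀ w ∈ img φ (E i), φ g w = w
  type : ∀ i, ∃ n, 1 ≤ n ∧ ((2 < q ∧ p ^ n = q ∧ BlockSL p φ (E i) n) ∨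
    (q = 2 ∧ p = 2 ∧ BlockPerm φ (E i) n))

theorem comm_sSup {s t : Set (Subgroup P)} (h : ∀ x ∈ s, ∀ y ∈ t, Comm x y) :
    Comm (sSup s) (sSup t) := by
  have h1 : ∀ y ∈ t, Comm (sSup s) y := fun y hy => by
    have h2 : sSup s ≤ Subgroup.centralizer (y : Set P) := _root_.sSup_le fun x hx a ha =>
      mem_centralizer_iff.2 fun b hb => (h x hx y hy a ha b hb).symm
    exact fun a ha b hb => (mem_centralizer_iff.1 (h2 ha) b hb).symm
  have h3 : sSup t ≤ Subgroup.centralizer (sSup s : Subgroup P) := _root_.sSup_le fun y hy b hb =>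
    mem_centralizer_iff.2 fun a ha => h1 y hy a ha b hb
  exact fun a ha b hb => mem_centralizer_iff.1 (h3 hb) a ha

/-- peeling the module along mutually fixed summands -/
theorem exists_split {r : ℕ} (E : Fin r → Subgroup P)
    (hone : ∀ i v, ∃ w ∈ img φ (E i), v - w ∈ fixA φ (E i))
    (hzero : ∀ {i j}, i ≠ j → ∀ g ∈ E j, ∀ w ∈ img φ (E i), φ g w = w)
    (s : Finset (Fin r)) (v : V) :
    ∃ w ∈ ⨆ i ∈ s, img φ (E i), ∀ i ∈ s, v - w ∈ fixA φ (E i) := by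
  classical
  induction s using Finset.induction_on with
  | empty => exact ⟨0, AddSubgroup.zero_mem _, fun i hi => absurd hi (Finset.notMem_empty i)⟩
  | @insert i s his ih =>
    obtain ⟨w, hw, hfix⟩ := ih
    obtain ⟨w', hw', hfix'⟩ := hone i (v - w)
    refine ⟨w + w', AddSubgroup.add_mem _ ?_ ?_, fun j hj => ?_⟩
    · refine (iSup₂_le fun k hk => ?_ : (⨆ k ∈ s, img φ (E k)) ≤ _) hw
      exact le_iSup₂_of_le k (Finset.mem_insert_of_mem hk) le_rfl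
    · exact (le_iSup₂_of_le i (Finset.mem_insert_self i s) le_rfl :
        img φ (E i) ≤ ⨆ k ∈ insert i s, img φ (E k)) hw'
    · rw [← sub_sub]
      rcases Finset.mem_insert.1 hj with rfl | hj
      · exact hfix'
      · exact (fixA φ (E j)).sub_mem (hfix j hj) fun g hg =>
          hzero (fun (h : i = j) => his (h.symm ▸ hj)) g hg w' hw'

/-- the structure of group and module along the blocks -/
theorem FF.decomp (ff : FF p φ q 𝓜) {T : Subgroup P} {r : ℕ} {Δ : Fin r → Set (Subgroup P)}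
    (hb : Blocks T q 𝓜 r Δ) : Decomp p q φ T r (fun i => sSup (Δ i)) := by
  classical
  have hzero : ∀ {i j}, i ≠ j → ∀ g ∈ sSup (Δ j), ∀ w ∈ img φ (sSup (Δ i)), φ g w = w := by
    intro i j hij g hg w hw
    have hle : img φ (sSup (Δ i)) ≤ fixA φ (sSup (Δ j)) :=
      img_sSup_le fun x hx a ha v => mem_fixA_sSup.2 fun y hy =>
        (ff.comm_mem (hb.mem hx) (hb.mem hy) (hb.comm hij hx hy) ha v).2
    exact hle hw g hg
  have htype : ∀ i, ∃ n, 1 ≤ n ∧ ((2 < q ∧ p ^ n = q ∧ BlockSL p φ (sSup (Δ i)) n) ∨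
      (q = 2 ∧ p = 2 ∧ BlockPerm φ (sSup (Δ i)) n)) := by
    intro i
    obtain ⟨x, hx, y, hy, hxy⟩ := hb.two i
    have hxm := hb.mem hx
    rcases Nat.lt_or_ge 2 q with hq | hq
    · obtain ⟨n, hn⟩ := IsPGroup.iff_card.1 (isPGroup_el (ff.el hxm))
      rw [ff.card hxm] at hn
      obtain ⟨F, iF, iFF, ρ, Ψ, hFc, hΨs, hΨ0, hΨ⟩ := ff.natural hxm (hb.mem hy) (hb.nc hx hy hxy)
      have he : x ⊔ y = sSup (Δ i) := hb.big hq hx hy hxy
      refine ⟨n, Nat.pos_of_ne_zero fun h0 => by rw [h0, pow_zero] at hn; omega,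
        Or.inl ⟨hq, hn.symm, ?_⟩⟩
      rw [← he]
      refine ⟨F, iF, iFF, ρ, Ψ, hFc.trans hn, fun z => ?_, fun v => ?_, hΨ⟩
      · obtain ⟨v₀, hv₀⟩ := hΨs ![0, 1]
        obtain ⟨v₁, hv₁⟩ := hΨs ![1, 0]
        let g₀ := ρ.symm (Cfsg.Lib.RootSub.upEl (z 0))
        let g₁ := ρ.symm (Cfsg.Lib.RootSub.loEl (z 1))
        refine ⟨dd φ (g₀ : P) v₀ + dd φ (g₁ : P) v₁, AddSubgroup.add_mem _
          (dd_mem_img g₀.2 _) (dd_mem_img g₁.2 _), ?_⟩
        rw [map_add, dd_apply, dd_apply, map_sub, map_sub, hΨ, hΨ, hv₀, hv₁,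
          MulEquiv.apply_symm_apply, MulEquiv.apply_symm_apply, upEl_mulVec, loEl_mulVec]
        ext k; fin_cases k <;> simp
      · rw [hΨ0, fixA_sup]
    · have hq2 : q = 2 := le_antisymm hq ff.one_lt
      obtain ⟨n, hn, hc⟩ := hb.small hq2 i
      refine ⟨n, hn, Or.inr ⟨hq2, ff.char_two hxm hq2, ?_⟩⟩
      exact ff.perm hq2 (fun z hz => hb.mem hz) (fun a ha b hb' h => hb.nc ha hb' h) hn hc
  have hone : ∀ i v, ∃ w ∈ img φ (sSup (Δ i)), v - w ∈ fixA φ (sSup (Δ i)) := by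
    intro i v
    obtain ⟨n, -, ⟨-, -, F, iF, iFF, ρ, Ψ, -, hs, h0, -⟩ | ⟨-, -, ρ, Ψ, hev, hs, h0, -⟩⟩ := htype i
    · obtain ⟨u, hu, he⟩ := hs (Ψ v)
      exact ⟨u, hu, (h0 _).1 (by rw [map_sub, he, sub_self])⟩
    · obtain ⟨u, hu, he⟩ := hs (Ψ v) (hev v)
      exact ⟨u, hu, (h0 _).1 (by rw [map_sub, he, sub_self])⟩
  have hcomm : ∀ {i j}, i ≠ j → Comm (sSup (Δ i)) (sSup (Δ j)) := fun {i j} hij =>
    comm_sSup fun x hx y hy => hb.comm hij hx hy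
  have hfixsup : ∀ (f : Fin r → Subgroup P) (v : V), (∀ i, v ∈ fixA φ (f i)) → v ∈ fixA φ (⨆ i, f i) := by
    intro f v h
    rw [iSup, mem_fixA_sSup]
    rintro _ ⟨i, rfl⟩
    exact h i
  refine { pos := hb.pos, comm := hcomm, inf := fun i => ?_, gen := hb.gen, trans := hb.trans,
           split := ?_, zero := hzero, type := htype }
  · refine (eq_bot_iff_forall _).2 fun g hg => ?_
    refine ff.inj (DFunLike.ext (F := AddMonoid.End V) _ _ fun v => ?_)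
    show φ g v = φ (1 : P) v
    obtain ⟨w, hw, hfix⟩ := hone i v
    have h1 : w ∈ fixA φ (⨆ j ∈ {j | j ≠ i}, sSup (Δ j)) := by
      rw [iSup, mem_fixA_sSup]
      rintro _ ⟨j, rfl⟩
      dsimp only
      rw [iSup, mem_fixA_sSup]
      rintro _ ⟨hj, rfl⟩ a ha
      exact hzero (Ne.symm hj) a ha w hw
    rw [phi_one, ← sub_add_cancel v w, map_add, hfix g hg.1, h1 g hg.2]
  · refine eq_top_iff.2 fun v _ => ?_
    obtain ⟨w, hw, hfix⟩ := exists_split (φ := φ) (fun i => sSup (Δ i)) hone hzero Finset.univ v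
    rw [← sub_add_cancel v w]
    exact AddSubgroup.add_mem _ (AddSubgroup.mem_sup_left (hfixsup _ _ fun i => hfix i (Finset.mem_univ i)))
      (AddSubgroup.mem_sup_right ((iSup₂_le fun i _ => le_iSup (fun k => img φ (sSup (Δ k))) i) hw))

end Cfsg.Lib.FFModule
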