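import Cfsg.Agent.PLocal.FFModule.Lines

/-!
Two members that do not commute generate `SL₂` acting naturally.
-/

set_option autoImplicit false
set_option linter.unusedSectionVars false
set_option linter.style.haveILetI false

namespace Cfsg.Lib.FFModule

open Subgroup Cfsg.Lib.FFSLTwo

variable {P : Type*} [Group P] [Finite P] {V : Type*} [AddCommGroup V] [Finite V]
variable {p : ℕ} [Fact p.Prime] {φ : P →* AddMonoid.End V}
variable {q : ℕ} {𝓜 : Subgroup P → Prop}

/-- two members that do not commute generate `SL₂` on the natural module -/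
theorem FF.natural (ff : FF p φ q 𝓜) {A B : Subgroup P} (hA : 𝓜 A) (hB : 𝓜 B)
    (hnc : ¬ Comm A B) :
    ∃ (F : Type) (_ : Field F) (_ : Fintype F)
      (ρ : ↥(A ⊔ B) ≃* Matrix.SpecialLinearGroup (Fin 2) F) (Ψ : V →+ (Fin 2 → F)),
      Fintype.card F = q ∧ Function.Surjective Ψ ∧
      (∀ v, Ψ v = 0 ↔ v ∈ fixA φ A ⊓ fixA φ B) ∧
      ∀ (g : ↥(A ⊔ B)) v, Ψ (φ (g : P) v) = ((ρ g : Matrix.SpecialLinearGroup (Fin 2) F) :
        Matrix (Fin 2) (Fin 2) F).mulVec (Ψ v) := by
  classical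
  have hne := ff.ne_of_nc hA hnc
  have hq1 := ff.one_lt
  set L := A ⊔ B with hL
  set K := fixA φ A ⊓ fixA φ B with hK
  have hKfix : ∀ g ∈ L, ∀ w ∈ K, φ g w = w := fun g hg w hw => sup_fix_inf hg hw
  have hKst : ∀ g : L, K ≤ AddSubgroup.comap (φ (g : P) : V →+ V) K := fun g w hw => by
    show φ (g : P) w ∈ K
    rw [hKfix g g.2 w hw]; exact hw
  let ψ : L →* AddMonoid.End (V ⧸ K) :=
    { toFun := fun g => QuotientAddGroup.map K K (φ (g : P) : V →+ V) (hKst g)
      map_one' := DFunLike.ext (F := AddMonoid.End (V ⧸ K)) _ _ fun x => by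
        induction x using QuotientAddGroup.induction_on with
        | _ v =>
          show QuotientAddGroup.mk (φ (1 : P) v) = QuotientAddGroup.mk v
          rw [phi_one]
      map_mul' := fun g h => DFunLike.ext (F := AddMonoid.End (V ⧸ K)) _ _ fun x => by
        induction x using QuotientAddGroup.induction_on with
        | _ v =>
          show QuotientAddGroup.mk (φ ((g : P) * h) v) = QuotientAddGroup.mk (φ (g : P) (φ (h : P) v))
          rw [phi_mul] }
  have hψ : ∀ (g : L) (v : V), ψ g (QuotientAddGroup.mk v) = QuotientAddGroup.mk (φ (g : P) v) :=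
    fun g v => rfl
  have hψd : ∀ (g : L) (v : V), dd ψ g (QuotientAddGroup.mk v) = QuotientAddGroup.mk (dd φ (g : P) v) := by
    intro g v
    rw [dd_apply, dd_apply, hψ]
    rfl
  have hψfix : ∀ (g : L) (v : V), ψ g (QuotientAddGroup.mk v) = QuotientAddGroup.mk v ↔
      dd φ (g : P) v ∈ K := by
    intro g v
    rw [← dd_eq_zero, hψd]
    exact QuotientAddGroup.eq_zero_iff _
  -- fixed points on the quotient
  have hcapA : ∀ {a}, a ∈ A → a ≠ 1 → ∀ v, dd φ a v ∈ K → v ∈ fixA φ A := fun {a} ha ha1 v hd =>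
    ff.cap hA ha ha1 (dd_eq_zero.1 (ff.nc_zero hA hB hnc ha hd.2))
  have hcapB : ∀ {b}, b ∈ B → b ≠ 1 → ∀ v, dd φ b v ∈ K → v ∈ fixA φ B := fun {b} hb hb1 v hd =>
    ff.cap hB hb hb1 (dd_eq_zero.1 (ff.nc_zero hB hA (fun h => hnc h.symm) hb hd.1))
  -- `dd a` maps onto `CA` modulo `K`
  have honto : ∀ {C D : Subgroup P}, 𝓜 C → 𝓜 D → ¬ Comm C D → fixA φ C ⊓ fixA φ D = K →
      ∀ x ∈ fixA φ C, ∃ c ∈ C, ∃ u, x - dd φ c u ∈ K := by
    intro C D hC hD hCD hI x hx
    obtain ⟨u, hu, hu'⟩ := SetLike.not_le_iff_exists.1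
      (ff.not_fix_le hD hC (ff.ne_of_nc hC hCD).symm)
    obtain ⟨c, hc, hs⟩ := ff.exists_shift hC hD hCD hu hu' x
    exact ⟨c, hc, u, hI ▸ ⟨(fixA φ C).sub_mem hx (ff.dd_mem hC hc u), hs⟩⟩
  -- faithfulness
  have hfaith : ∀ g : L, (∀ v, dd φ (g : P) v ∈ K) → g = 1 := by
    intro g hg
    have hfixg : ∀ w ∈ K, φ (g : P) w = w := hKfix g g.2
    have hnorm : ∀ {C : Subgroup P}, IsLine φ 𝓜 A B C → FFSLTwo.cj (g : P) C = C := by
      intro C hC
      have hD := hC.cj ff (g := (g : P)) hfixg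
      obtain ⟨v, hv, hv0⟩ := SetLike.not_le_iff_exists.1 (fun h : fixA φ C ≤ K => by
        have h1 := AddSubgroup.index_dvd_of_le h
        rw [ff.index hC.1, ff.index_inf hA hB hne] at h1
        have h2 := Nat.le_of_dvd (by omega) h1
        have h3 : q * 1 < q * q := Nat.mul_lt_mul_of_pos_left hq1 (by omega)
        omega)
      refine ff.line_unique hA hB hnc hD hC (v := φ (g : P) v) ?_ ?_ ?_
      · exact mem_fixA_cj.2 (by rw [phi_inv_cancel]; exact hv)
      · rw [phi_eq_add]; exact (fixA φ C).add_mem hv (hC.2 (hg v))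
      · intro h
        refine hv0 ?_
        have h2 := K.sub_mem h (hg v)
        rwa [phi_eq_add, add_sub_cancel_right] at h2
    have hcomm : ∀ {C : Subgroup P}, IsLine φ 𝓜 A B C → C ≤ L →
        (∀ {c}, c ∈ C → c ≠ 1 → ∀ v, dd φ c v ∈ K → v ∈ fixA φ C) →
        ∀ c ∈ C, c * (g : P) = (g : P) * c := by
      intro C hC hCL hcap c hc
      have hm : (g : P) * c * (g : P)⁻¹ * c⁻¹ ∈ C :=
        C.mul_mem (conj_eq_self (hnorm hC) hc) (C.inv_mem hc)
      suffices h1 : (g : P) * c * (g : P)⁻¹ * c⁻¹ = 1 by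
        rw [mul_inv_eq_one, mul_inv_eq_iff_eq_mul] at h1
        exact h1.symm
      by_contra h1
      obtain ⟨v, hv⟩ := ff.exists_ne_zero hC.1 hm h1
      refine hv (dd_eq_zero.2 (hcap hm h1 v ?_ _ hm))
      -- the commutator is trivial modulo `K`
      have e : QuotientAddGroup.mk (s := K) (φ ((g : P) * c * (g : P)⁻¹ * c⁻¹) v) =
          QuotientAddGroup.mk v := by
        have hg' : ∀ w, QuotientAddGroup.mk (s := K) (φ (g : P) w) = QuotientAddGroup.mk w :=
          fun w => (hψ g w).symm.trans ((hψfix g w).2 (hg w))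
        have hg'' : ∀ w, QuotientAddGroup.mk (s := K) (φ (g : P)⁻¹ w) = QuotientAddGroup.mk w :=
          fun w => by
            have h2 := hg' (φ (g : P)⁻¹ w)
            rwa [phi_cancel_inv, eq_comm] at h2
        rw [phi_mul, phi_mul, phi_mul, hg', ← hψ ⟨c, hCL hc⟩, hg'', hψ ⟨c, hCL hc⟩, phi_cancel_inv]
      rw [dd_apply]
      exact (QuotientAddGroup.eq_iff_sub_mem (N := K)).1 e
    have hkill : ∀ {C : Subgroup P}, (∀ c ∈ C, c * (g : P) = (g : P) * c) → C ≤ L →
        ∀ c ∈ C, ∀ u, dd φ (g : P) (dd φ c u) = 0 := fun {C} hC hCL c hc u => by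
      rw [dd_comm (hC c hc).symm, dd_eq_zero]
      exact hKfix c (hCL hc) _ (hg u)
    have hgA : ∀ x ∈ fixA φ A, φ (g : P) x = x := by
      intro x hx
      obtain ⟨c, hc, u, hu⟩ := honto hA hB hnc rfl x hx
      have h1 := dd_eq_zero.2 (hfixg _ hu)
      rw [map_sub, hkill (hcomm (isLine_left hA) le_sup_left hcapA) le_sup_left c hc u, sub_zero] at h1
      exact dd_eq_zero.1 h1
    have hgB : ∀ x ∈ fixA φ B, φ (g : P) x = x := by
      intro x hx
      obtain ⟨c, hc, u, hu⟩ := honto hB hA (fun h => hnc h.symm) (inf_comm _ _) x hx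
      have h1 := dd_eq_zero.2 (hfixg _ hu)
      rw [map_sub, hkill (hcomm (isLine_right hB) le_sup_right hcapB) le_sup_right c hc u, sub_zero] at h1
      exact dd_eq_zero.1 h1
    refine Subtype.ext (ff.inj (DFunLike.ext (F := AddMonoid.End V) _ _ fun v => ?_))
    obtain ⟨x, hx, u, hu, rfl⟩ := ff.split hA hB hne v
    rw [map_add, hgA x hx, hgB u hu]
    show x + u = φ (1 : P) (x + u)
    rw [phi_one]
  -- the setting of the recognition theorem
  set A' := A.subgroupOf L with hA'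
  set M := Subgroup.normalizer (A' : Set L) with hM
  have hAL : A ≤ L := le_sup_left
  have hcjL : ∀ y : L, FFSLTwo.cj y A' = (FFSLTwo.cj (y : P) A).subgroupOf L := fun y => by
    ext z; simp [A', mem_cj, mem_subgroupOf]
  have hnormA : ∀ {y : L}, FFSLTwo.cj (y : P) A = A → y ∈ M := fun {y} he => by
    rw [hM, mem_normalizer_iff]
    intro z
    show (z : P) ∈ A ↔ (y : P) * z * (y : P)⁻¹ ∈ A
    refine ⟨fun hz => conj_eq_self he hz, fun hz => ?_⟩
    rw [← he, mem_cj] at hz
    simpa [mul_assoc] using hz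
  have hnormM : ∀ {y : L}, y ∈ M → FFSLTwo.cj (y : P) A = A := fun {y} hy => by
    rw [hM, mem_normalizer_iff] at hy
    refine eq_of_le_of_card_ge ?_ (card_cj _ _).ge
    rintro _ ⟨a, ha, rfl⟩
    exact (hy ⟨a, hAL ha⟩).1 ha
  have hgen : ∀ y : L, y ∉ M → A' ⊔ FFSLTwo.cj y A' = ⊤ := by
    intro y hy
    have hl := ff.line_cj_left (B := B) hA y.2
    have hne' : A ≠ FFSLTwo.cj (y : P) A := fun h => hy (hnormA h.symm)
    have h1 := ff.line_sup hA hB hnc (isLine_left hA) hl hne'
    rw [hcjL, ← subgroupOf_sup hAL (ff.line_le hA hB hnc hl), h1, subgroupOf_self]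
  obtain ⟨b, hb, hb1⟩ := ff.exists_ne_one hB
  have hbM : (⟨b, mem_sup_right hb⟩ : L) ∉ M := fun h =>
    ff.cj_ne hB hA (fun h => hnc h.symm) hb hb1 (hnormM h)
  obtain ⟨T, hT⟩ := ((isPGroup_el (ff.el hA)).comap_subtype : IsPGroup p ↥A').exists_le_sylow
  have hTM : (T : Subgroup L) ≤ M := by
    intro t ht
    refine hnormA (by_contra fun hne' => ff.line_nc hA hB hnc (ff.line_cj_left (B := B) hA t.2)
      (isLine_left hA) hne' ?_)
    refine ff.comm_of_pgroup (ff.conj _ hA) hA (T.2.map L.subtype) ?_ ?_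
    · rintro _ ⟨a, ha, rfl⟩
      exact ⟨t * ⟨a, hAL ha⟩ * t⁻¹, mul_mem (mul_mem ht (hT (mem_subgroupOf.2 ha))) (inv_mem ht), rfl⟩
    · exact fun a ha => ⟨⟨a, hAL ha⟩, hT (mem_subgroupOf.2 ha), rfl⟩
  have hsub : ∀ {A₀ : Subgroup L}, A₀ ≤ A' → A₀ ≠ ⊥ →
      fixA ψ A₀ = (fixA φ A).map (QuotientAddGroup.mk' K) := by
    intro A₀ hle h0
    refine le_antisymm (fun x hx => ?_) ?_
    · induction x using QuotientAddGroup.induction_on with
      | _ v =>
        obtain ⟨a, ha, ha1⟩ := exists_mem_ne_one h0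
        exact ⟨v, hcapA (mem_subgroupOf.1 (hle ha)) (fun h => ha1 (Subtype.ext h)) v
          ((hψfix a v).1 (hx a ha)), rfl⟩
    · rintro _ ⟨v, hv, rfl⟩ a ha
      refine (hψfix a v).2 ?_
      rw [dd_eq_zero.2 (hv a (mem_subgroupOf.1 (hle ha)))]
      exact K.zero_mem
  have hcardfix : Nat.card ↥((fixA φ A).map (QuotientAddGroup.mk' K)) = q := by
    have h1 := AddSubgroup.index_mul_card ((fixA φ A).map (QuotientAddGroup.mk' K))
    rw [AddSubgroup.index_map_eq _ (QuotientAddGroup.mk'_surjective K)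
      (by rw [QuotientAddGroup.ker_mk']; exact inf_le_left), ff.index hA,
      show Nat.card (V ⧸ K) = q * q from ff.index_inf hA hB hne] at h1
    exact Nat.eq_of_mul_eq_mul_left (by omega) h1
  have hA'card : Nat.card A' = q := (Nat.card_congr (subgroupOfEquivOfLe hAL).toEquiv).trans (ff.card hA)
  have hA'ne : A' ≠ ⊥ := fun h => by rw [h, Subgroup.card_bot] at hA'card; omega
  have hH : Hyp p ψ T A' M :=
    { inj := by
        refine (injective_iff_map_eq_one ψ).2 fun g hg => hfaith g fun v => (hψfix g v).1 ?_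
        rw [hg]; rfl
      char := fun x => by
        induction x using QuotientAddGroup.induction_on with
        | _ v =>
          show p • QuotientAddGroup.mk' K v = 0
          rw [← map_nsmul, ff.char, map_zero]
      coatom := ⟨fun h => hbM (h ▸ mem_top _), fun S hS => by
        obtain ⟨k, hk, hkM⟩ := SetLike.exists_of_lt hS
        refine top_le_iff.1 (hgen k hkM ▸ sup_le ((hT.trans hTM).trans hS.le) ?_)
        rintro _ ⟨a, ha, rfl⟩
        exact S.mul_mem (S.mul_mem hk (hS.le (hTM (hT ha)))) (S.inv_mem hk)⟩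
      hTM := hTM
      uniq := fun S hS hS' k hk => by
        by_contra hkM
        refine hS' (top_le_iff.1 (hgen k hkM ▸ sup_le (hT.trans hS) ?_))
        rintro _ ⟨a, ha, rfl⟩
        exact S.mul_mem (S.mul_mem hk (hS (hT ha))) (S.inv_mem hk)
      hAT := hT
      ne_bot := hA'ne
      off := by
        rw [hA'card, hsub le_rfl hA'ne, hcardfix]
        exact (ff.index_inf hA hB hne).le
      strict := fun A₀ hle h0 h1 => by
        rw [hsub le_rfl hA'ne, hsub hle h0]
        refine (Nat.mul_lt_mul_right Nat.card_pos).2 (lt_of_le_of_ne ?_ fun h => h1 ?_)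
        · exact Nat.card_le_card_of_injective _ (inclusion_injective hle)
        · exact eq_of_le_of_card_ge hle h.ge
      quad := fun a ha c hc x => by
        induction x using QuotientAddGroup.induction_on with
        | _ v =>
          rw [hψd, hψd, ff.quad hA (mem_subgroupOf.1 ha) (mem_subgroupOf.1 hc)]
          rfl
      moved := by
        have htop : (⊤ : AddSubgroup (V ⧸ K)) ≠ ⊥ := fun h => by
          have h1 : Nat.card (⊤ : AddSubgroup (V ⧸ K)) = 1 := by rw [h, AddSubgroup.card_bot]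
          rw [AddSubgroup.card_top, show Nat.card (V ⧸ K) = q * q from ff.index_inf hA hB hne] at h1
          have h3 : q * 1 < q * q := Nat.mul_lt_mul_of_pos_left hq1 (by omega)
          omega
        obtain ⟨x, -, hx0, hx⟩ := exists_fix_mem (φ := ψ) (fun x => by
          induction x using QuotientAddGroup.induction_on with
          | _ v =>
            show p • QuotientAddGroup.mk' K v = 0
            rw [← map_nsmul, ff.char, map_zero]) T.2 ⊤ (fun _ _ _ _ => AddSubgroup.mem_top _) htop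
        refine ⟨x, hx, fun htop' => hx0 ?_⟩
        induction x using QuotientAddGroup.induction_on with
        | _ v =>
          obtain ⟨a, ha, ha1⟩ := ff.exists_ne_one hA
          refine (QuotientAddGroup.eq_zero_iff v).2 ⟨?_, ?_⟩
          · exact hcapA ha ha1 v ((hψfix ⟨a, hAL ha⟩ v).1 (htop' _ (mem_top _)))
          · exact hcapB hb hb1 v ((hψfix ⟨b, mem_sup_right hb⟩ v).1 (htop' _ (mem_top _)))
      gen := hgen }
  obtain ⟨F, iF, iFF, ρ, Ψ, hFc, hΨs, hΨ0, hΨ, -⟩ := hH.natural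
  refine ⟨F, iF, iFF, ρ, Ψ.comp (QuotientAddGroup.mk' K), hFc.trans hA'card,
    hΨs.comp (QuotientAddGroup.mk'_surjective K), fun v => ?_, fun g v => hΨ g (QuotientAddGroup.mk v)⟩
  show Ψ (QuotientAddGroup.mk v) = 0 ↔ v ∈ K
  rw [hΨ0]
  constructor
  · intro h
    obtain ⟨a, ha, ha1⟩ := ff.exists_ne_one hA
    exact ⟨hcapA ha ha1 v ((hψfix ⟨a, hAL ha⟩ v).1 (h _ (mem_top _))),
      hcapB hb hb1 v ((hψfix ⟨b, mem_sup_right hb⟩ v).1 (h _ (mem_top _)))⟩
  · intro h g _
    refine (hψfix g v).2 ?_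
    rw [dd_eq_zero.2 (hKfix g g.2 v h)]
    exact K.zero_mem

end Cfsg.Lib.FFModule
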