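import Cfsg.Agent.PLocal.FFModule.Commuting

/-!
Members that do not commute form natural pairs.
-/

set_option autoImplicit false
set_option linter.unusedSectionVars false
set_option linter.style.haveILetI false

namespace Cfsg.Lib.FFModule

open Subgroup Cfsg.Lib.FFSLTwo

variable {P : Type*} [Group P] [Finite P] {V : Type*} [AddCommGroup V] [Finite V]
variable {p : ℕ} [Fact p.Prime] {φ : P →* AddMonoid.End V}

theorem phi_eq_add (g : P) (v : V) : φ g v = v + dd φ g v := by rw [dd_apply]; abel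

theorem conj_eq_self {A : Subgroup P} {g : P} (h : cj g A = A) {a : P} (ha : a ∈ A) :
    g * a * g⁻¹ ∈ A := h.le (conj_mem_cj ha)

theorem commutator_eq {A B : Subgroup P} (hAB : A ⊓ B = ⊥) {a b : P} (ha : a ∈ A) (hb : b ∈ B)
    (h1 : cj a B = B) (h2 : cj b A = A) : a * b = b * a := by
  have e : a * b * a⁻¹ * b⁻¹ = 1 := by
    rw [← mem_bot, ← hAB]
    refine ⟨?_, B.mul_mem (conj_eq_self h1 hb) (B.inv_mem hb)⟩
    have h3 := A.mul_mem ha (conj_eq_self h2 (A.inv_mem ha))
    simpa [mul_assoc] using h3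
  rwa [mul_inv_eq_one, mul_inv_eq_iff_eq_mul] at e

section

variable (hc : Ctx p φ) {q : ℕ} (hq : Least p φ q)
include hc hq

theorem Mem.comm_self {A : Subgroup P} (hA : Mem p φ q A) : Comm A A := fun _ ha _ hb =>
  Cfsg.Lib.ElemToolkit.comm_of hA.el.1 ha hb

theorem Mem.dd_inv {A : Subgroup P} (hA : Mem p φ q A) {a : P} (ha : a ∈ A) (v : V) :
    dd φ a⁻¹ v = -dd φ a v := by
  have h1 := dd_mul_of_zero (fun w => hA.quad hc hq ha (A.inv_mem ha) w) v
  rw [mul_inv_cancel, dd_apply 1, phi_one, sub_self] at h1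
  exact eq_neg_of_add_eq_zero_right h1.symm

theorem Mem.phi_inv {A : Subgroup P} (hA : Mem p φ q A) {a : P} (ha : a ∈ A) (v : V) :
    φ a⁻¹ v = v - dd φ a v := by
  rw [phi_eq_add, hA.dd_inv hc hq ha, sub_eq_add_neg]

/-- members normalised by all elements of another member commute with it -/
theorem Mem.comm_of_normalised {A B : Subgroup P} (hA : Mem p φ q A) (hB : Mem p φ q B)
    (h : ∀ b ∈ B, FFSLTwo.cj b A = A) : Comm A B := by
  classical
  by_cases hAB : A = B
  · exact hAB ▸ hA.comm_self hc hq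
  have hinf := hA.inf_eq_bot hc hq hB hAB
  intro a ha b hb
  by_cases hfix : FFSLTwo.cj a B = B
  · exact commutator_eq hinf ha hb hfix (h b hb)
  exfalso
  -- `b ↦ [a, b]` maps `B` injectively into the normalising elements
  let A₀ : Set P := {x | x ∈ A ∧ FFSLTwo.cj x B = B}
  have hstab : ∀ b ∈ B, ∀ u ∈ fixA φ B, φ (b * a * b⁻¹ * a⁻¹) u ∈ fixA φ B ∧
      dd φ (b * a * b⁻¹ * a⁻¹) u = dd φ b (dd φ a u) := by
    intro b hb u hu
    have hβ : ∀ x ∈ fixA φ A, φ b x ∈ fixA φ A := fun x hx => by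
      have h1 : φ b x ∈ fixA φ (FFSLTwo.cj b A) := mem_fixA_cj.2 (by rw [phi_inv_cancel]; exact hx)
      rwa [h b hb] at h1
    have hx : dd φ a u ∈ fixA φ A := hA.dd_mem hc hq ha u
    have hbx : dd φ b (dd φ a u) ∈ fixA φ A := by
      rw [dd_apply b]; exact (fixA φ A).sub_mem (hβ _ hx) hx
    have e : φ (b * a * b⁻¹ * a⁻¹) u = u + dd φ b (dd φ a u) := by
      rw [phi_mul, phi_mul, phi_mul, hA.phi_inv hc hq ha, hB.phi_inv hc hq hb, map_sub (dd φ b),
        dd_eq_zero.2 (hu b hb), zero_sub, sub_neg_eq_add, map_add, map_sub, phi_eq_add a u,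
        phi_eq_add a (dd φ a u), dd_eq_zero.2 (hx a ha), add_zero, add_sub_cancel_right, hbx a ha,
        map_add, hu b hb, phi_eq_add b (dd φ b _), hB.quad hc hq hb hb, add_zero]
    refine ⟨e ▸ (fixA φ B).add_mem hu (hB.dd_mem hc hq hb _), ?_⟩
    rw [dd_apply, e, add_sub_cancel_left]
  let f : B → A₀ := fun b => ⟨(b : P) * a * (b : P)⁻¹ * a⁻¹,
    A.mul_mem (conj_eq_self (h b b.2) ha) (A.inv_mem ha),
    hB.stable_fix hc hq fun u hu => (hstab b b.2 u hu).1⟩
  have hf : Function.Injective f := by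
    intro b c hbc
    have h1 : (b : P) * a * (b : P)⁻¹ * a⁻¹ = c * a * (c : P)⁻¹ * a⁻¹ := congrArg Subtype.val hbc
    by_contra hne
    have hd : (c : P)⁻¹ * b ∈ B := B.mul_mem (B.inv_mem c.2) b.2
    have hd1 : (c : P)⁻¹ * b ≠ 1 := fun h0 => hne (Subtype.ext (inv_mul_eq_one.1 h0).symm)
    have hcomm : ((c : P)⁻¹ * b) * a * ((c : P)⁻¹ * b)⁻¹ * a⁻¹ = 1 := by
      have h2 := congrArg (fun z => (c : P)⁻¹ * (z * a) * c) h1
      rw [show ((c : P)⁻¹ * b) * a * ((c : P)⁻¹ * b)⁻¹ * a⁻¹ =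
        ((c : P)⁻¹ * ((b : P) * a * (b : P)⁻¹ * a⁻¹ * a) * c) * a⁻¹ by group]
      rw [h2]; group
    refine hfix (hB.stable_fix hc hq fun u hu => ?_)
    have h3 := (hstab _ hd u hu).2
    rw [hcomm, dd_apply, phi_one, sub_self] at h3
    rw [phi_eq_add]
    exact (fixA φ B).add_mem hu (hB.cap hc hq hd hd1 (dd_eq_zero.1 h3.symm))
  have h1 := Nat.card_le_card_of_injective f hf
  have h2 : A₀ ⊂ (A : Set P) :=
    Set.ssubset_iff_subset_ne.2 ⟨fun x hx => hx.1, fun he => hfix (he.ge ha).2⟩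
  have h3 := Set.ncard_lt_ncard h2 (Set.toFinite _)
  rw [← Nat.card_coe_set_eq, ← Nat.card_coe_set_eq] at h3
  change Nat.card A₀ < Nat.card A at h3
  rw [hA.card] at h3
  rw [hB.card] at h1
  omega

/-- a pair of maximal overlap -/
def IsWidest (p : ℕ) (φ : P →* AddMonoid.End V) (q : ℕ) (R : ℕ) : Prop :=
  ∀ C D : Subgroup P, Mem p φ q C → Mem p φ q D → ¬ Comm C D → (fixA φ C ⊔ fixA φ D).index ≤ R

/-- exceptional elements normalise -/
theorem exc_normalises {A B : Subgroup P} (hA : Mem p φ q A) (hB : Mem p φ q B)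
    (hR : IsWidest p φ q (fixA φ A ⊔ fixA φ B).index) {a : P} (ha : a ∈ A) {u : V}
    (hu : u ∈ fixA φ B) (hu' : u ∉ fixA φ A) (hd : dd φ a u ∈ fixA φ B) : FFSLTwo.cj a B = B := by
  by_contra hne
  have hB' := hB.conj a
  set B' := FFSLTwo.cj a B
  have hu2 : u ∈ fixA φ B' := mem_fixA_cj.2 (by
    rw [hA.phi_inv hc hq ha]; exact (fixA φ B).sub_mem hu hd)
  have hK : fixA φ A ⊓ fixA φ B ≤ fixA φ B ⊓ fixA φ B' := by
    refine fun w hw => ⟨hw.2, mem_fixA_cj.2 ?_⟩
    rw [hw.1 a⁻¹ (A.inv_mem ha)]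
    exact hw.2
  have hlt : (fixA φ B ⊓ fixA φ B').index < (fixA φ A ⊓ fixA φ B).index := by
    refine lt_of_le_of_ne (Nat.le_of_dvd (Nat.pos_of_ne_zero AddSubgroup.index_ne_zero_of_finite)
      (AddSubgroup.index_dvd_of_le hK)) fun he => hu' ?_
    exact ((eq_of_le_of_index_le hK he.ge) ▸ ⟨hu, hu2⟩ : u ∈ fixA φ A ⊓ fixA φ B).1
  have h1 := hA.index_inf_mul hc hq hB
  have h2 := hB.index_inf_mul hc hq hB'
  have hpos : 0 < (fixA φ A ⊔ fixA φ B).index := Nat.pos_of_ne_zero AddSubgroup.index_ne_zero_of_finite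
  have hlt2 : (fixA φ A ⊔ fixA φ B).index < (fixA φ B ⊔ fixA φ B').index := by
    by_contra hcon
    have h3 := Nat.mul_le_mul_left (fixA φ B ⊓ fixA φ B').index (not_lt.1 hcon)
    have h4 := Nat.mul_lt_mul_of_pos_right hlt hpos
    omega
  by_cases hcomm : Comm B B'
  · rw [hB.sup_top hc hq hB' hcomm (Ne.symm hne), AddSubgroup.index_top] at hlt2
    omega
  · exact absurd (hR B B' hB hB' hcomm) (not_le.2 hlt2)

omit hc hq in
theorem functional_x {A M X : Subgroup P} {F : Type} [Field F] [Fintype F] (hF : Frame p φ A M X)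
    (K : Coord φ A M X F) (hX : ∀ y ∈ X, ∀ v, dd φ y v ∈ fixA φ X) {f : V →+ ZMod p}
    (hf : ∀ a ∈ A, ∀ v, f (dd φ a v) = 0) (hsf : Ctx.SF p φ M f) : f.comp K.sX ≠ 0 := by
  intro h0
  refine hF.hX fun y hy => hsf y fun v => ?_
  have hsA : ∀ r, f (K.sA r) = 0 := fun r => by
    have h := K.sA_mem r
    generalize K.sA r = w at h ⊢
    induction h using AddSubgroup.closure_induction with
    | mem w hw => obtain ⟨a, ha, v, rfl⟩ := hw; exact hf a ha v
    | zero => exact map_zero _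
    | add u w _ _ hu hw => rw [map_add, hu, hw, add_zero]
    | neg u _ hu => rw [map_neg, hu, neg_zero]
  have hsX : ∀ r, f (K.sX r) = 0 := fun r => DFunLike.congr_fun h0 r
  have hπ : ∀ w, f w = f (K.π w) := fun w => by
    conv_lhs => rw [← K.decomp w]
    rw [map_add, map_add, hsA, hsX, add_zero, add_zero]
  obtain ⟨a, ha, v', he⟩ := K.πW y hy v
  rw [hπ, he, ← hπ, hf a ha]

/-- members do not normalise members they do not commute with, for pairs of widest overlap -/
theorem no_normalising {A B : Subgroup P} (hA : Mem p φ q A) (hB : Mem p φ q B) (hnc : ¬ Comm A B)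
    (hR : IsWidest p φ q (fixA φ A ⊔ fixA φ B).index) {a : P} (ha : a ∈ A) (ha1 : a ≠ 1) :
    FFSLTwo.cj a B ≠ B := by
  classical
  intro haB
  have hp := (Fact.out : p.Prime)
  have hAB : A ≠ B := fun h => hnc (h ▸ hA.comm_self hc hq)
  obtain ⟨b, hb, hbA⟩ : ∃ b ∈ B, FFSLTwo.cj b A ≠ A := by
    by_contra h
    push Not at h
    exact hnc (hA.comm_of_normalised hc hq hB h)
  obtain ⟨a', ha', ha'B⟩ : ∃ a' ∈ A, FFSLTwo.cj a' B ≠ B := by
    by_contra h
    push Not at h
    exact hnc (hB.comm_of_normalised hc hq hA h).symm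
  set CA := fixA φ A with hCA
  set CB := fixA φ B with hCB
  have hR' : IsWidest p φ q (fixA φ B ⊔ fixA φ A).index := by rwa [sup_comm]
  have hτ : ∀ x ∈ CA, dd φ b x ∈ CA → x ∈ CB := fun x hx hd => by
    by_contra h
    exact hbA (exc_normalises hc hq hB hA hR' hb hx h hd)
  have haCB : ∀ u ∈ CB, dd φ a u ∈ CB := fun u hu => by
    have h1 : φ a u ∈ fixA φ (FFSLTwo.cj a B) := mem_fixA_cj.2 (by rw [phi_inv_cancel]; exact hu)
    rw [haB] at h1
    rw [dd_apply]; exact CB.sub_mem h1 hu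
  -- the commutator
  set z := b⁻¹ * (a * b * a⁻¹) with hzdef
  have hzB : z ∈ B := B.mul_mem (B.inv_mem hb) (conj_eq_self haB hb)
  have hζ : ∀ v, dd φ z v = dd φ a (dd φ b v) - dd φ b (dd φ a v) - dd φ a (dd φ b (dd φ a v)) := by
    intro v
    have h1 : φ z v = φ b⁻¹ (φ a (φ b (φ a⁻¹ v))) := by rw [hzdef]; simp only [phi_mul]
    rw [dd_apply z, h1, hA.phi_inv hc hq ha, hB.phi_inv hc hq hb]
    have hq1 := hA.quad hc hq ha ha v
    have e1 : φ b (v - dd φ a v) = v + dd φ b v - dd φ a v - dd φ b (dd φ a v) := by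
      rw [phi_eq_add b (v - dd φ a v), map_sub]; abel
    have e2 : φ a (φ b (v - dd φ a v)) =
        v + dd φ b v + (dd φ a (dd φ b v) - dd φ b (dd φ a v) - dd φ a (dd φ b (dd φ a v))) := by
      rw [e1, phi_eq_add a (_ - _ - _), map_sub, map_sub, map_add, hq1]
      abel
    rw [e2]
    have e3 : dd φ b (v + dd φ b v + (dd φ a (dd φ b v) - dd φ b (dd φ a v) -
        dd φ a (dd φ b (dd φ a v)))) = dd φ b v := by
      rw [map_add (dd φ b), map_add (dd φ b), map_sub (dd φ b), map_sub (dd φ b), hB.quad hc hq hb hb,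
        hB.quad hc hq hb hb, dd_eq_zero.2 (haCB _ (hB.dd_mem hc hq hb _) b hb),
        dd_eq_zero.2 (haCB _ (hB.dd_mem hc hq hb _) b hb)]
      abel
    rw [e3]; abel
  have hζA : ∀ x ∈ CA, dd φ z x = dd φ a (dd φ b x) := fun x hx => by
    rw [hζ, dd_eq_zero.2 (hx a ha), map_zero, map_zero, sub_zero, sub_zero]
  have hζAA : ∀ x ∈ CA, dd φ z x ∈ CA ⊓ CB := fun x hx =>
    ⟨hζA x hx ▸ hA.dd_mem hc hq ha _, hB.dd_mem hc hq hzB x⟩
  have hzA : FFSLTwo.cj z A = A := hA.stable_fix hc hq fun x hx => by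
    rw [phi_eq_add]; exact CA.add_mem hx (hζAA x hx).1
  have hz1 : z ≠ 1 := fun h0 => by
    refine hAB (hA.eq_of_fix hc hq hB (eq_of_le_of_index_le (fun x hx => hτ x hx ?_)
      (by rw [hA.index hc hq, hB.index hc hq])))
    have h1 := hζA x hx
    rw [h0, dd_apply, phi_one, sub_self] at h1
    exact hA.cap hc hq ha ha1 (dd_eq_zero.1 h1.symm)
  have hzK : ∀ w ∈ CB, φ z w = w := fun w hw => hw z hzB
  -- coordinates
  have hq2 : 2 < q := by
    have hA₀ : Set.ncard ({1, a} : Set P) < Set.ncard (A : Set P) := by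
      refine Set.ncard_lt_ncard (Set.ssubset_iff_subset_ne.2 ⟨?_, fun he => ?_⟩) (Set.toFinite _)
      · rintro x (rfl | rfl)
        exacts [A.one_mem, ha]
      · rcases he.ge ha' with h | h
        · exact ha'B (by rw [h, cj_one])
        · exact ha'B (by rw [show a' = a from h, haB])
    rw [Set.ncard_pair (Ne.symm ha1), ← Nat.card_coe_set_eq] at hA₀
    exact hA.card ▸ hA₀
  obtain ⟨M, x₀, hpf, hF⟩ := hA.exists_frame hc hq
  obtain ⟨F, iF, iFF, ⟨K⟩⟩ := (hpf.exists_frame hc).2 (by rw [hA.card]; exact hq2)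
  set X := FFSLTwo.cj x₀ A
  have hXm : Mem p φ q X := hA.conj x₀
  have hFc : Nat.card F = q := by rw [Nat.card_eq_fintype_card, K.card, hA.card]
  haveI hFchar : ∀ r : F, p • r = 0 := fun r => by
    obtain ⟨a₁, ha₁, rfl⟩ := K.ι_surj r
    have h1 : ∀ k : ℕ, K.ι (a₁ ^ k) = k • K.ι a₁ := by
      intro k
      induction k with
      | zero =>
        rw [pow_zero, zero_smul]
        have h2 := K.ι_mul 1 A.one_mem 1 A.one_mem
        simpa using h2
      | succ k ih => rw [pow_succ, K.ι_mul _ (A.pow_mem ha₁ k) _ ha₁, ih, succ_nsmul]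
    rw [← h1, hA.el.2 a₁ ha₁]
    simpa using h1 0
  have hdec : ∀ v, v - K.sX (K.cX v) ∈ CA := fun v => by
    rw [K.memA, map_sub, K.cX_sX, sub_self]
  have hdd : ∀ y ∈ A, ∀ v, dd φ y v = dd φ y (K.sX (K.cX v)) := fun y hy v => by
    conv_lhs => rw [← sub_add_cancel v (K.sX (K.cX v))]
    rw [map_add, dd_eq_zero.2 (hdec v y hy), zero_add]
  have hconj : ∀ μ : Fˣ, ∀ y ∈ A, ∀ r, dd φ (K.t μ * y * (K.t μ)⁻¹) (K.sX r) =
      φ (K.t μ) (dd φ y (K.sX ((μ : F) * r))) := by
    intro μ y _ r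
    have h1 : φ (K.t μ) (K.sX ((μ : F) * r)) = K.sX r := by
      rw [K.t_sX, ← mul_assoc, ← Units.val_mul, inv_mul_cancel, Units.val_one, one_mul]
    have h2 := congrArg (φ (K.t μ)⁻¹) h1
    rw [phi_inv_cancel] at h2
    rw [dd_cj, ← h2]
  -- `B` lies in the point
  obtain ⟨f, hf, -, hsf⟩ := hc.exists_sf hF.pt (isPGroup_el hA.el) hF.hA
  have hg := functional_x hF K (fun y hy v => hXm.dd_mem hc hq hy v) hf hsf
  have hBM : B ≤ M := by
    suffices hμ : ∃ μ : Fˣ, ∀ v, f (φ (K.t μ) (dd φ b (dd φ a v))) = 0 by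
      obtain ⟨μ, hμ⟩ := hμ
      refine hB.le_pt hc hq hF.pt hzB hz1 (Ctx.sf_smul hc hsf (K.t_mem μ) z fun v => ?_)
      show f (φ (K.t μ) (dd φ z v)) = 0
      have h0 : ∀ w, f (φ (K.t μ) (dd φ a w)) = 0 := fun w => by
        have h1 := hf _ (K.t_norm μ a ha) (φ (K.t μ) w)
        rwa [dd_cj, phi_inv_cancel] at h1
      rw [hζ, map_sub, map_sub, map_sub, map_sub, h0, h0, hμ, sub_zero, sub_zero]
    by_cases hr : CA ⊔ CB = ⊤
    · refine ⟨1, fun v => ?_⟩
      obtain ⟨x, hx, u, hu, rfl⟩ := AddSubgroup.mem_sup.1 (hr ▸ AddSubgroup.mem_top v : v ∈ CA ⊔ CB)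
      rw [map_add, dd_eq_zero.2 (hx a ha), zero_add, dd_eq_zero.2 (haCB u hu b hb), map_zero, map_zero]
    · set Y : AddSubgroup V := CA.map (dd φ b : V →+ V)
      have hYA : ∀ y ∈ Y, K.cX y = 0 → y = 0 := by
        rintro y ⟨x, hx, rfl⟩ hy
        exact dd_eq_zero.2 (hτ x hx ((K.memA _).2 hy) b hb)
      let Θ : F →+ (Y →+ ZMod p) := AddMonoidHom.mk'
        (fun ν => ((f.comp K.sX).comp (AddMonoidHom.mulLeft ν)).comp (K.cX.comp Y.subtype))
        (fun ν ν' => AddMonoidHom.ext fun y => by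
          show f (K.sX ((ν + ν') * K.cX y)) = f (K.sX (ν * K.cX y)) + f (K.sX (ν' * K.cX y))
          rw [add_mul, map_add, map_add])
      -- the kernel is the annihilator of the image
      let Y' : AddSubgroup F := Y.map K.cX
      have hY'c : Nat.card Y' = Nat.card Y := by
        refine (Nat.card_eq_of_bijective (fun y : Y => (⟨K.cX y, y, y.2, rfl⟩ : Y')) ⟨?_, ?_⟩).symm
        · intro y y' hyy
          have h1 : K.cX (y : V) = K.cX (y' : V) := congrArg Subtype.val hyy
          refine Subtype.ext (sub_eq_zero.1 (hYA _ (Y.sub_mem y.2 y'.2) ?_))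
          rw [map_sub, h1, sub_self]
        · rintro ⟨_, y, hy, rfl⟩; exact ⟨⟨y, hy⟩, rfl⟩
      let D : F → (F →+ ZMod p) := fun ν => (f.comp K.sX).comp (AddMonoidHom.mulLeft ν)
      have hD : Function.Bijective D := by
        refine (Nat.bijective_iff_injective_and_card D).2 ⟨fun ν ν' hνν => ?_, (card_hom hFchar).symm⟩
        by_contra hne
        refine hg (AddMonoidHom.ext fun r => ?_)
        have h1 := DFunLike.congr_fun hνν ((ν - ν')⁻¹ * r)
        show f (K.sX r) = 0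
        have h2 : f (K.sX ((ν - ν') * ((ν - ν')⁻¹ * r))) = 0 := by
          rw [sub_mul, map_sub, map_sub]
          exact sub_eq_zero.2 h1
        rwa [← mul_assoc, mul_inv_cancel₀ (sub_ne_zero.2 hne), one_mul] at h2
      have hker : Nat.card Θ.ker = Nat.card (ann p Y') := by
        refine Nat.card_eq_of_bijective (fun ν : Θ.ker => (⟨D ν, ?_⟩ : ann p Y')) ⟨?_, ?_⟩
        · rintro _ ⟨y, hy, rfl⟩
          exact DFunLike.congr_fun (ν.2 : Θ ν = 0) ⟨y, hy⟩
        · exact fun ν ν' h => Subtype.ext (hD.1 (congrArg Subtype.val h))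
        · rintro ⟨h, hh⟩
          obtain ⟨ν, rfl⟩ := hD.2 h
          exact ⟨⟨ν, AddMonoidHom.ext fun y => hh _ ⟨y, y.2, rfl⟩⟩, rfl⟩
      rw [card_ann hFchar] at hker
      have hY'lt : Nat.card Y' < q := by
        have h1 : Nat.card Y * Nat.card ↥(CA ⊓ CB) = Nat.card CA := by
          let g : CA →+ V := (dd φ b : V →+ V).comp CA.subtype
          have hr' : g.range = Y := by
            ext y
            constructor
            · rintro ⟨⟨x, hx⟩, rfl⟩; exact ⟨x, hx, rfl⟩
            · rintro ⟨x, hx, rfl⟩; exact ⟨⟨x, hx⟩, rfl⟩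
          have hk' : g.ker = (CA ⊓ CB).addSubgroupOf CA := by
            ext u
            rw [AddMonoidHom.mem_ker, AddSubgroup.mem_addSubgroupOf]
            exact ⟨fun h => ⟨u.2, hB.cap hc hq hb (fun h0 => hbA (by rw [h0, cj_one]))
              (dd_eq_zero.1 h)⟩, fun h => dd_eq_zero.2 (h.2 b hb)⟩
          have h2 := AddSubgroup.card_eq_card_quotient_mul_card_addSubgroup g.ker
          rw [Nat.card_congr (QuotientAddGroup.quotientKerEquivRange g).toEquiv, hr', hk',
            Nat.card_congr (AddSubgroup.addSubgroupOfEquivOfLe inf_le_left).toEquiv] at h2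
          exact h2.symm
        have h2 : (CA ⊓ CB).index = q * Nat.card Y := by
          refine Nat.eq_of_mul_eq_mul_right (Nat.card_pos (α := ↥(CA ⊓ CB))) ?_
          rw [mul_assoc, h1, AddSubgroup.index_mul_card, ← hA.index hc hq, AddSubgroup.index_mul_card]
        have h3 := hA.index_inf_mul hc hq hB
        rw [← hCA, ← hCB, h2, mul_assoc] at h3
        have h4 := Nat.eq_of_mul_eq_mul_left (by omega) h3
        rw [hY'c, ← h4]
        exact lt_mul_of_one_lt_right Nat.card_pos (Nat.one_lt_iff_ne_zero_and_ne_one.2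
          ⟨AddSubgroup.index_ne_zero_of_finite, fun h0 => hr (AddSubgroup.index_eq_one.1 h0)⟩)
      have hYi : Y'.index * Nat.card Y' = q := (AddSubgroup.index_mul_card Y').trans hFc
      have hcharY : ∀ y : Y, p • y = 0 := fun y => Subtype.ext (hc.char y)
      have hsurj : Function.Surjective Θ := by
        have h2 := AddSubgroup.card_eq_card_quotient_mul_card_addSubgroup Θ.ker
        rw [Nat.card_congr (QuotientAddGroup.quotientKerEquivRange Θ).toEquiv, hFc, hker, ← hYi,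
          mul_comm Y'.index] at h2
        exact AddMonoidHom.range_eq_top.1 (AddSubgroup.eq_top_of_card_eq _ (by
          rw [card_hom hcharY, ← hY'c]
          exact (Nat.eq_of_mul_eq_mul_right (Nat.pos_of_ne_zero AddSubgroup.index_ne_zero_of_finite) h2).symm))
      obtain ⟨ν₀, hν₀⟩ := hsurj (-(f.comp (K.π.comp Y.subtype)))
      obtain ⟨ν, hν1, hν⟩ : ∃ ν : F, ν ≠ 0 ∧ Θ ν = -(f.comp (K.π.comp Y.subtype)) := by
        by_cases h0 : ν₀ = 0
        · obtain ⟨κ, hκ⟩ : ∃ κ : Θ.ker, κ ≠ 0 := by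
            have h2 : 1 < Nat.card Θ.ker := by
              rw [hker]
              refine Nat.one_lt_iff_ne_zero_and_ne_one.2 ⟨AddSubgroup.index_ne_zero_of_finite, fun h1 => ?_⟩
              rw [h1, one_mul] at hYi
              omega
            haveI := Finite.one_lt_card_iff_nontrivial.1 h2
            exact exists_ne 0
          refine ⟨κ, fun h1 => hκ (Subtype.ext h1), ?_⟩
          rw [← hν₀, h0, map_zero]
          exact κ.2
        · exact ⟨ν₀, h0, hν₀⟩
      refine ⟨(Units.mk0 ν hν1)⁻¹, fun v => ?_⟩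
      set y := dd φ b (dd φ a v)
      have hyY : y ∈ Y := ⟨_, hA.dd_mem hc hq ha v, rfl⟩
      conv_lhs => rw [← K.decomp y]
      simp only [map_add]
      rw [K.t_fix _ _ (K.π_mem y), K.t_sA, K.t_sX, inv_inv, Units.val_mk0]
      have hsA : ∀ r, f (K.sA r) = 0 := fun r => by
        have h := K.sA_mem r
        generalize K.sA r = w at h ⊢
        induction h using AddSubgroup.closure_induction with
        | mem w hw => obtain ⟨a, ha, v, rfl⟩ := hw; exact hf a ha v
        | zero => exact map_zero _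
        | add u w _ _ hu hw => rw [map_add, hu, hw, add_zero]
        | neg u _ hu => rw [map_neg, hu, neg_zero]
      rw [hsA, add_zero]
      have h2 : f (K.sX (ν * K.cX y)) = -f (K.π y) := DFunLike.congr_fun hν ⟨y, hyY⟩
      rw [h2, add_neg_cancel]
  -- the pure vectors lie in both fixed spaces
  have hsACB : ∀ r, K.sA r ∈ CB := by
    obtain ⟨v, hv, -, hsv⟩ := hc.exists_sv hF.pt (isPGroup_el hA.el) hF.hA
    have hvA : v ∈ CA := hF.sv_mem hsv
    have hv' : v = K.π v + K.sA (K.cA v) := by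
      conv_lhs => rw [← K.decomp v, (K.memA v).1 hvA, map_zero, add_zero]
    have he : K.cA v ≠ 0 := fun h0 => by
      rw [h0, map_zero, add_zero] at hv'
      exact hF.hX fun y hy => hsv y (by rw [hv']; exact (K.π_mem v).2 y hy)
    have hall : ∀ μ : Fˣ, K.π v + K.sA ((μ : F) * K.cA v) ∈ CB := by
      intro μ
      have e : φ (K.t μ) v = K.π v + K.sA ((μ : F) * K.cA v) := by
        conv_lhs => rw [hv']
        rw [map_add, K.t_fix μ _ (K.π_mem v), K.t_sA]
      have hsv' := Ctx.sv_smul hc hsv (K.t_mem μ)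
      rw [e] at hsv'
      have hA' := hF.sv_mem hsv'
      refine hτ _ hA' ?_
      have h2 := hF.sv_mem (Ctx.sv_smul hc hsv' (hBM hb))
      rw [phi_eq_add] at h2
      simpa using CA.sub_mem h2 hA'
    intro r
    obtain ⟨r₁, r₂, h1, h2, rfl⟩ := exists_sub_ne (by rw [hFc]; omega) r
    have h3 := hall (Units.mk0 (r₁ / K.cA v) (div_ne_zero h1 he))
    have h4 := hall (Units.mk0 (r₂ / K.cA v) (div_ne_zero h2 he))
    rw [Units.val_mk0, div_mul_cancel₀ _ he] at h3 h4
    have h5 := CB.sub_mem h3 h4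
    rwa [add_sub_add_left_eq_sub, ← map_sub] at h5
  have hAdec : ∀ w ∈ CA, w = K.π w + K.sA (K.cA w) := fun w hw => by
    conv_lhs => rw [← K.decomp w, (K.memA w).1 hw, map_zero, add_zero]
  by_cases hI : ∀ v, dd φ z v ∈ CA
  · -- `z` is trivial on `V / CA`
    let D : P → F := fun y => K.ι (z * y * z⁻¹ * y⁻¹)
    have hcomm'' : ∀ y ∈ A, z * y * z⁻¹ * y⁻¹ ∈ A := fun y hy =>
      A.mul_mem (conj_eq_self hzA hy) (A.inv_mem hy)
    have hD : ∀ y ∈ A, ∀ v, D y * K.cX v = K.cA (dd φ z (K.π (dd φ y v))) := by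
      intro y hy v
      set y' := z * y * z⁻¹
      have hy' : y' ∈ A := conj_eq_self hzA hy
      have hι : K.ι y' = D y + K.ι y := by
        rw [show y' = (z * y * z⁻¹ * y⁻¹) * y by simp [y'], K.ι_mul _ (hcomm'' y hy) _ hy]
      have e : dd φ y' v = dd φ y v + dd φ z (dd φ y v) := by
        have hzv : dd φ y (dd φ z v) = 0 := dd_eq_zero.2 (hI v y hy)
        have e1 : φ y' v = φ z (v - dd φ z v + dd φ y v) := by
          rw [show φ y' v = φ z (φ y (φ z⁻¹ v)) by simp only [y', phi_mul], hB.phi_inv hc hq hzB]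
          congr 1
          rw [phi_eq_add y, map_sub (dd φ y), hzv, sub_zero]
        rw [dd_apply y', e1, phi_eq_add z (_ + _), map_add (dd φ z), map_sub (dd φ z),
          hB.quad hc hq hzB hzB]
        abel
      have h1 := congrArg K.cA e
      rw [K.act _ hy', map_add, K.act _ hy, hι, add_mul] at h1
      have h2 : dd φ z (dd φ y v) = dd φ z (K.π (dd φ y v)) := by
        conv_lhs => rw [hAdec _ (hA.dd_mem hc hq hy v)]
        rw [map_add, dd_eq_zero.2 (hsACB _ z hzB), add_zero]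
      rw [h2, add_comm (K.ι y * K.cX v)] at h1
      exact add_right_cancel h1
    have hDt : ∀ μ : Fˣ, ∀ y ∈ A, D (K.t μ * y * (K.t μ)⁻¹) = (μ : F) * D y := by
      intro μ y hy
      have h1 := hD _ (K.t_norm μ y hy) (K.sX 1)
      rw [hconj μ y hy, K.π_t, ← hD y hy, K.cX_sX, K.cX_sX, mul_one, mul_one, mul_comm] at h1
      exact h1
    have hDa : D a = 0 := by
      have h1 : a * z = z * a := commutator_eq (hA.inf_eq_bot hc hq hB hAB) ha hzB haB hzA
      show K.ι (z * a * z⁻¹ * a⁻¹) = 0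
      rw [← h1, mul_inv_cancel_right, mul_inv_cancel]
      have h2 := K.ι_mul 1 A.one_mem 1 A.one_mem
      simpa using h2
    have hD0 : ∀ y ∈ A, D y = 0 := by
      intro y hy
      by_cases h2 : p = 2
      · by_cases hy1 : y = 1
        · show K.ι (z * y * z⁻¹ * y⁻¹) = 0
          rw [hy1, mul_one, mul_inv_cancel, inv_one, mul_one]
          have h3 := K.ι_mul 1 A.one_mem 1 A.one_mem
          simpa using h3
        have hsq : Function.Surjective fun x : F => x * x := by
          refine Finite.surjective_of_injective fun x x' hxx => ?_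
          have h3 : (x - x') * (x - x') = 0 := by
            have h4 : x * x' + x * x' = 0 := by
              have := hFchar (x * x')
              rwa [h2, two_nsmul] at this
            have h5 : x' * x' + x' * x' = 0 := by
              have := hFchar (x' * x')
              rwa [h2, two_nsmul] at this
            linear_combination hxx + h5 - h4
          exact sub_eq_zero.1 (mul_self_eq_zero.1 h3)
        obtain ⟨μ₀, hμ₀⟩ := hsq (K.ι y / K.ι a)
        have hιa : K.ι a ≠ 0 := fun h0 => ha1 (K.ι_zero a ha h0)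
        have hμ1 : μ₀ ≠ 0 := fun h0 => hy1 (K.ι_zero y hy (by
          have : K.ι y / K.ι a = 0 := by rw [← hμ₀, h0]; simp
          exact (div_eq_zero_iff.1 this).resolve_right hιa))
        set μ := Units.mk0 μ₀ hμ1
        have hy' : y = K.t μ * a * (K.t μ)⁻¹ := by
          have h3 := K.ι_mul _ (K.t_norm μ a ha) _ (A.mul_mem (A.inv_mem (K.t_norm μ a ha)) hy)
          rw [mul_inv_cancel_left, K.ι_t μ a ha, show (μ : F) * μ = K.ι y / K.ι a from hμ₀,
            div_mul_cancel₀ _ hιa, left_eq_add] at h3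
          exact (inv_mul_eq_one.1 (K.ι_zero _ (A.mul_mem (A.inv_mem (K.t_norm μ a ha)) hy) h3)).symm
        rw [hy', hDt μ a ha, hDa, mul_zero]
      · have h3 := hDt (-1) y hy
        have h4 : K.t (-1) * y * (K.t (-1))⁻¹ = y := by
          have h5 := K.ι_mul _ (K.t_norm (-1) y hy) _ (A.mul_mem (A.inv_mem (K.t_norm (-1) y hy)) hy)
          rw [mul_inv_cancel_left, K.ι_t (-1) y hy, Units.val_neg, Units.val_one, neg_one_mul, neg_neg,
            one_mul, left_eq_add] at h5
          exact inv_mul_eq_one.1 (K.ι_zero _ (A.mul_mem (A.inv_mem (K.t_norm (-1) y hy)) hy) h5)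
        rw [h4, Units.val_neg, Units.val_one, neg_one_mul] at h3
        have h6 : 2 • D y = 0 := by rw [two_nsmul]; linear_combination h3
        have h7 := hFchar (D y)
        have hc2 : Nat.Coprime 2 p := (Nat.coprime_primes Nat.prime_two hp).2 (Ne.symm h2)
        have h8 := addOrderOf_dvd_of_nsmul_eq_zero h6
        have h9 := addOrderOf_dvd_of_nsmul_eq_zero h7
        exact AddMonoid.addOrderOf_eq_one_iff.1 (Nat.eq_one_of_dvd_coprimes hc2 h8 h9)
    -- so `A` centralises `z`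
    refine ha'B (hB.stable_fix hc hq fun u hu => ?_)
    rw [phi_eq_add]
    refine CB.add_mem hu (hB.cap hc hq hzB hz1 ?_)
    have h1 : z * a' * z⁻¹ * a'⁻¹ = 1 := K.ι_zero _ (hcomm'' a' ha') (hD0 a' ha')
    have h2 : z * a' = a' * z := by rwa [mul_inv_eq_one, mul_inv_eq_iff_eq_mul] at h1
    rw [← dd_eq_zero, dd_comm h2, dd_eq_zero.2 (hzK u hu), map_zero]
  -- `z` moves `V / CA`
  push Not at hI
  let Kz := CA ⊓ CB
  let S : Subgroup P :=
    { carrier := {g | (∀ w ∈ Kz, φ g w = w) ∧ ∀ w ∈ CA, dd φ g w ∈ Kz}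
      one_mem' := ⟨fun w _ => phi_one w, fun w _ => by
        rw [dd_apply, phi_one, sub_self]; exact Kz.zero_mem⟩
      mul_mem' := fun {g h} hg hh => ⟨fun w hw => by rw [phi_mul, hh.1 w hw, hg.1 w hw], fun w hw => by
        have e : dd φ (g * h) w = dd φ g w + dd φ h w := by
          rw [dd_apply, dd_apply, dd_apply, phi_mul]
          rw [show φ h w = w + dd φ h w from phi_eq_add h w, map_add, hg.1 _ (hh.2 w hw), dd_apply]
          abel
        rw [e]; exact Kz.add_mem (hg.2 w hw) (hh.2 w hw)⟩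
      inv_mem' := fun {g} hg => ⟨fun w hw => by
          conv_lhs => rw [← hg.1 w hw]
          exact phi_inv_cancel g w, fun w hw => by
        have h1 : φ g⁻¹ w = w - dd φ g w := by
          have h2 : φ g (w - dd φ g w) = w := by
            rw [map_sub, hg.1 _ (hg.2 w hw), dd_apply]; abel
          conv_lhs => rw [← h2]
          exact phi_inv_cancel g _
        rw [dd_apply g⁻¹, h1, sub_sub_cancel_left]
        exact Kz.neg_mem (hg.2 w hw)⟩ }
  have htK : ∀ μ, ∀ w ∈ CA, φ (K.t μ) w ∈ CA ∧ φ (K.t μ)⁻¹ w ∈ CA ∧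
      (w ∈ Kz → φ (K.t μ) w ∈ Kz ∧ φ (K.t μ)⁻¹ w ∈ Kz) := by
    intro μ w hw
    have hgen : ∀ r, K.π w + K.sA r ∈ CA := fun r => CA.add_mem (K.π_mem w).1
      (by rw [K.memA, K.cX_sA])
    have e1 : φ (K.t μ) w = K.π w + K.sA ((μ : F) * K.cA w) := by
      conv_lhs => rw [hAdec w hw]
      rw [map_add, K.t_fix μ _ (K.π_mem w), K.t_sA]
    have e2 : φ (K.t μ)⁻¹ w = K.π w + K.sA (((μ⁻¹ : Fˣ) : F) * K.cA w) := by
      have e3 : φ (K.t μ) (K.π w + K.sA (((μ⁻¹ : Fˣ) : F) * K.cA w)) = w := by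
        rw [map_add, K.t_fix μ _ (K.π_mem w), K.t_sA, ← mul_assoc, ← Units.val_mul, mul_inv_cancel,
          Units.val_one, one_mul, ← hAdec w hw]
      conv_lhs => rw [← e3]
      exact phi_inv_cancel _ _
    refine ⟨e1 ▸ hgen _, e2 ▸ hgen _, fun hwK => ?_⟩
    have hπ : K.π w ∈ CB := by
      have h1 := CB.sub_mem hwK.2 (hsACB (K.cA w))
      have h2 : w - K.sA (K.cA w) = K.π w := by rw [sub_eq_iff_eq_add]; exact hAdec w hw
      rwa [h2] at h1
    exact ⟨⟨e1 ▸ hgen _, e1 ▸ CB.add_mem hπ (hsACB _)⟩, e2 ▸ hgen _, e2 ▸ CB.add_mem hπ (hsACB _)⟩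
  set R := closure {g | ∃ μ, g = K.t μ * z * (K.t μ)⁻¹} with hRdef
  have hRS : R ≤ S := by
    rw [hRdef, closure_le]
    rintro _ ⟨μ, rfl⟩
    refine ⟨fun w hw => ?_, fun w hw => ?_⟩
    · rw [phi_mul, phi_mul, hzK _ ((htK μ w hw.1).2.2 hw).2.2, phi_cancel_inv]
    · rw [dd_cj]
      exact ((htK μ _ (hζAA _ (htK μ w hw).2.1).1).2.2 (hζAA _ (htK μ w hw).2.1)).1
  have hRCA : ∀ g ∈ R, ∀ w ∈ CA, φ g w ∈ CA := fun g hg w hw => by
    rw [phi_eq_add]; exact CA.add_mem hw ((hRS hg).2 w hw).1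
  -- the action on `V / CA`
  let rho : R →* AddMonoid.End F :=
    { toFun := fun g => AddMonoidHom.mk' (fun r => K.cX (φ (g : P) (K.sX r))) fun r r' => by
        rw [map_add, map_add, map_add]
      map_one' := DFunLike.ext (F := AddMonoid.End F) _ _ fun r => by
        show K.cX (φ (1 : P) (K.sX r)) = r
        rw [phi_one, K.cX_sX]
      map_mul' := fun g h => DFunLike.ext (F := AddMonoid.End F) _ _ fun r => by
        show K.cX (φ ((g : P) * h) (K.sX r)) = K.cX (φ (g : P) (K.sX (K.cX (φ (h : P) (K.sX r)))))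
        rw [phi_mul, ← sub_eq_zero, ← map_sub, ← map_sub]
        exact (K.memA _).1 (hRCA g g.2 _ (hdec _)) }
  have hrho : ∀ (g : R) v, K.cX (φ (g : P) v) = rho g (K.cX v) := fun g v => by
    show K.cX (φ (g : P) v) = K.cX (φ (g : P) (K.sX (K.cX v)))
    rw [← sub_eq_zero, ← map_sub, ← map_sub]
    exact (K.memA _).1 (hRCA g g.2 _ (hdec v))
  obtain ⟨g, hgcop, hg1⟩ : ∃ g : R, (orderOf g).Coprime p ∧ rho g ≠ 1 := by
    by_contra hcon
    push Not at hcon
    let U : Subgroup (AddMonoid.End F)ˣ := rho.toHomUnits.range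
    haveI : Finite (AddMonoid.End F) :=
      Finite.of_injective (fun f => (f : F → F)) DFunLike.coe_injective
    have hU : IsPGroup p U := by
      rintro ⟨_, g, rfl⟩
      refine ⟨(orderOf g).factorization p, Subtype.ext (Units.ext ?_)⟩
      have h1 : (orderOf (g ^ p ^ (orderOf g).factorization p)).Coprime p := by
        rw [orderOf_pow_of_dvd (pow_ne_zero _ hp.ne_zero) (Nat.ordProj_dvd _ _)]
        exact ((hp.coprime_iff_not_dvd).2 (Nat.not_dvd_ordCompl hp (orderOf_pos g).ne')).symm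
      have h2 := hcon _ h1
      rw [map_pow] at h2
      simpa using h2
    obtain ⟨x, -, hx0, hx⟩ := exists_fix_mem hFchar (hU.to_subgroup ⊤) (⊤ : AddSubgroup F)
      (φ := (Units.coeHom (AddMonoid.End F)).comp U.subtype) (fun _ _ _ _ => AddSubgroup.mem_top _)
      (by
        haveI : Nontrivial (AddSubgroup F) := inferInstance
        exact top_ne_bot)
    obtain ⟨v, hv⟩ := hI
    refine hv ((K.memA _).2 ?_)
    set r := K.cX v
    have hvr : K.cX (dd φ z v) = K.cX (dd φ z (K.sX r)) := by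
      rw [← sub_eq_zero, ← map_sub, ← map_sub]
      exact (K.memA _).1 (hζAA _ (hdec v)).1
    rw [hvr]
    by_cases hr : r = 0
    · rw [hr, map_zero, map_zero, map_zero]
    set μ := Units.mk0 (r / x) (div_ne_zero hr hx0)
    have hμ : (μ : F) * x = r := by rw [Units.val_mk0, div_mul_cancel₀ _ hx0]
    let gμ : R := ⟨K.t μ * z * (K.t μ)⁻¹, subset_closure ⟨μ, rfl⟩⟩
    have h1 : rho gμ x = x := hx ⟨rho.toHomUnits gμ, gμ, rfl⟩ (mem_top _)
    have e1 : φ (K.t μ)⁻¹ (K.sX x) = K.sX r := by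
      have h2 : φ (K.t μ) (K.sX r) = K.sX x := by
        rw [K.t_sX, ← hμ, ← mul_assoc, ← Units.val_mul, inv_mul_cancel, Units.val_one, one_mul]
      rw [← h2, phi_inv_cancel]
    have hcXt : ∀ w, K.cX (φ (K.t μ) w) = ((μ⁻¹ : Fˣ) : F) * K.cX w := fun w => by
      conv_lhs => rw [← K.decomp w]
      simp only [map_add]
      rw [K.t_fix μ _ (K.π_mem w), K.t_sA, K.t_sX, K.cX_sA,
        K.cX_sX, (K.memA _).1 (K.π_mem w).1, zero_add, zero_add]
    change K.cX (φ (K.t μ * z * (K.t μ)⁻¹) (K.sX x)) = x at h1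
    rw [phi_mul, phi_mul, e1, hcXt] at h1
    rw [dd_apply, map_sub, K.cX_sX, sub_eq_zero]
    have h2 := congrArg ((μ : F) * ·) h1
    rwa [← mul_assoc, ← Units.val_mul, mul_inv_cancel, Units.val_one, one_mul, hμ] at h2
  -- `g` is trivial on `CA`
  have hgCA : ∀ w ∈ CA, φ (g : P) w = w := by
    intro w hw
    have hk := hRS g.2
    have e : ∀ n : ℕ, φ ((g : P) ^ n) w = w + n • dd φ (g : P) w := by
      intro n
      induction n with
      | zero => rw [pow_zero, phi_one, zero_smul, add_zero]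
      | succ n ih =>
        rw [pow_succ', phi_mul, ih, map_add, map_nsmul, hk.1 _ (hk.2 w hw), phi_eq_add, succ_nsmul]
        abel
    have h1 := e (orderOf g)
    rw [← SubmonoidClass.coe_pow, pow_orderOf_eq_one, OneMemClass.coe_one, phi_one, left_eq_add] at h1
    exact dd_eq_zero.1 (AddMonoid.addOrderOf_eq_one_iff.1 (Nat.eq_one_of_dvd_coprimes hgcop
      (addOrderOf_dvd_of_nsmul_eq_zero h1) (addOrderOf_dvd_of_nsmul_eq_zero (hc.char _))))
  have hgA : FFSLTwo.cj (g : P) A = A := hA.stable_fix hc hq fun w hw => (hgCA w hw).symm ▸ hw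
  have hkey : ∀ y ∈ A, ∀ v, dd φ ((g : P) * y * (g : P)⁻¹) (φ (g : P) v) = dd φ y v := fun y hy v => by
    rw [dd_cj, phi_inv_cancel, hgCA _ (hA.dd_mem hc hq hy v)]
  have hιa : K.ι a ≠ 0 := fun h0 => ha1 (K.ι_zero a ha h0)
  have hga : K.ι ((g : P) * a * (g : P)⁻¹) ≠ 0 := fun h0 => ha1 (by
    have h1 := K.ι_zero _ (conj_eq_self hgA ha) h0
    exact conj_eq_one_iff.1 h1)
  set l := K.ι a / K.ι ((g : P) * a * (g : P)⁻¹) with hl
  have hgr : ∀ r, rho g r = l * r := by
    intro r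
    have h1 := congrArg K.cA (hkey a ha (K.sX r))
    rw [K.act _ (conj_eq_self hgA ha), K.act _ ha, hrho g, K.cX_sX] at h1
    rw [hl, div_mul_eq_mul_div, eq_div_iff hga, ← h1, mul_comm]
  have hl1 : l ≠ 1 := fun h => hg1 (DFunLike.ext (F := AddMonoid.End F) _ _ fun r => by
    show rho g r = r
    rw [hgr, h, one_mul])
  have hl0 : l ≠ 0 := div_ne_zero hιa hga
  choose sel hselA hselι using K.ι_surj
  have hsel : ∀ y ∈ A, sel (K.ι y) = y := by
    intro y hy
    have h1 := K.ι_mul _ hy _ (A.mul_mem (A.inv_mem hy) (hselA (K.ι y)))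
    rw [mul_inv_cancel_left, hselι, left_eq_add] at h1
    exact (inv_mul_eq_one.1 (K.ι_zero _ (A.mul_mem (A.inv_mem hy) (hselA _)) h1)).symm
  let G : F → F → V := fun i x => K.π (dd φ (sel i) (K.sX x))
  have hGadd : ∀ i j x, G (i + j) x = G i x + G j x := by
    intro i j x
    have e : sel (i + j) = sel i * sel j := by
      rw [← hselι i, ← hselι j, ← K.ι_mul _ (hselA i) _ (hselA j), hsel _ (A.mul_mem (hselA i) (hselA j)),
        hselι, hselι]
    show K.π (dd φ (sel (i + j)) _) = _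
    rw [e, dd_mul_of_zero (fun w => hA.quad hc hq (hselA i) (hselA j) w), map_add]
  have hGt : ∀ μ : Fˣ, ∀ i x, G ((μ : F) * μ * i) x = G i ((μ : F) * x) := by
    intro μ i x
    have e : sel ((μ : F) * μ * i) = K.t μ * sel i * (K.t μ)⁻¹ := by
      have h1 := K.ι_t μ _ (hselA i)
      rw [hselι] at h1
      rw [← h1, hsel _ (K.t_norm μ _ (hselA i))]
    show K.π (dd φ (sel ((μ : F) * μ * i)) _) = _
    rw [e, hconj μ _ (hselA i), K.π_t]
  have hGg : ∀ i x, G (i / l) (l * x) = G i x := by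
    intro i x
    set y := sel i
    have hy : y ∈ A := hselA i
    have hι' : sel (i / l) = (g : P) * y * (g : P)⁻¹ := by
      have hm := conj_eq_self hgA hy
      have h1 := congrArg K.cA (hkey y hy (K.sX 1))
      rw [K.act _ hm, K.act _ hy, hrho g, hgr, K.cX_sX, mul_one, mul_one, hselι] at h1
      rw [← h1, mul_div_cancel_right₀ _ hl0, hsel _ hm]
    show K.π (dd φ (sel (i / l)) (K.sX (l * x))) = K.π (dd φ y (K.sX x))
    rw [hι', ← hkey y hy (K.sX x)]
    congr 1
    have hm := conj_eq_self hgA hy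
    rw [← sub_eq_zero, ← map_sub, dd_eq_zero]
    refine (K.memA _).2 ?_ _ hm
    rw [map_sub, K.cX_sX, hrho g, hgr, K.cX_sX, sub_self]
  have hG0 : ∀ i x, G i x = 0 := by
    intro i x
    have h1 : ∀ i, G (l * i) x = G i x := fun i => by
      rw [← hGg i x, show G (i / l) (l * x) = G (l * l * (i / l)) x from
        (hGt (Units.mk0 l hl0) (i / l) x).symm]
      congr 1
      field_simp
    have h2 : ∀ i, G ((l - 1) * i) x = 0 := fun i => by
      have h3 := hGadd ((l - 1) * i) i x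
      rw [show (l - 1) * i + i = l * i by ring, h1] at h3
      exact add_right_cancel (h3.symm.trans (zero_add _).symm)
    have h4 := h2 (i / (l - 1))
    rwa [mul_div_cancel₀ _ (sub_ne_zero.2 hl1)] at h4
  -- all of `A` normalises `B`
  refine ha'B (hB.stable_fix hc hq fun u hu => ?_)
  rw [phi_eq_add]
  refine CB.add_mem hu ?_
  rw [hdd a' ha' u, hAdec _ (hA.dd_mem hc hq ha' _)]
  have h0 : K.π (dd φ a' (K.sX (K.cX u))) = 0 := by
    rw [← hsel a' ha']
    exact hG0 (K.ι a') (K.cX u)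
  rw [h0, zero_add]
  exact hsACB _

end

end Cfsg.Lib.FFModule
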