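import Cfsg.Agent.PLocal.FFModule.Noncomm

/-!
An abstract interface (`FF`) for the members and the pairs of members that do not commute, and the
proof that the least offenders satisfy it.
-/

set_option autoImplicit false
set_option linter.unusedSectionVars false
set_option linter.style.haveILetI false

namespace Cfsg.Lib.FFModule

open Subgroup Cfsg.Lib.FFSLTwo

variable {P : Type*} [Group P] [Finite P] {V : Type*} [AddCommGroup V] [Finite V]
variable {p : ℕ} [Fact p.Prime] {φ : P →* AddMonoid.End V}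

/-- the properties of the set of members that the module arguments use -/
structure FF (p : ℕ) (φ : P →* AddMonoid.End V) (q : ℕ) (𝓜 : Subgroup P → Prop) : Prop where
  inj : Function.Injective φ
  char : ∀ v : V, p • v = 0
  one_lt : 1 < q
  el : ∀ {A}, 𝓜 A → Cfsg.IsElementaryAbelian p A
  card : ∀ {A}, 𝓜 A → Nat.card A = q
  conj : ∀ {A} (g : P), 𝓜 A → 𝓜 (FFSLTwo.cj g A)
  index : ∀ {A}, 𝓜 A → (fixA φ A).index = q
  cap : ∀ {A}, 𝓜 A → ∀ {a}, a ∈ A → a ≠ 1 → ∀ {v}, φ a v = v → v ∈ fixA φ A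
  quad : ∀ {A}, 𝓜 A → ∀ {a}, a ∈ A → ∀ {b}, b ∈ A → ∀ v, dd φ a (dd φ b v) = 0
  sup : ∀ {A B}, 𝓜 A → 𝓜 B → A ≠ B → fixA φ A ⊔ fixA φ B = ⊤
  nc_inj : ∀ {A B}, 𝓜 A → 𝓜 B → ¬ Comm A B → ∀ {a}, a ∈ A → a ≠ 1 → ∀ {u}, u ∈ fixA φ B →
    u ∉ fixA φ A → dd φ a u ∉ fixA φ B

section

variable (hc : Ctx p φ) {q : ℕ} (hq : Least p φ q)
include hc hq

theorem widest_trivial {A B : Subgroup P} (hA : Mem p φ q A) (hB : Mem p φ q B) (hnc : ¬ Comm A B) :
    fixA φ A ⊔ fixA φ B = ⊤ := by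
  classical
  let s : Set (Subgroup P × Subgroup P) := {x | Mem p φ q x.1 ∧ Mem p φ q x.2 ∧ ¬ Comm x.1 x.2}
  obtain ⟨⟨C, D⟩, ⟨hC, hD, hCD⟩, hmax⟩ := Set.exists_max_image s
    (fun x => (fixA φ x.1 ⊔ fixA φ x.2).index) (Set.toFinite _) ⟨(A, B), hA, hB, hnc⟩
  suffices h1 : (fixA φ C ⊔ fixA φ D).index = 1 by
    refine AddSubgroup.index_eq_one.1 (le_antisymm ((hmax (A, B) ⟨hA, hB, hnc⟩).trans h1.le) ?_)
    exact Nat.pos_of_ne_zero AddSubgroup.index_ne_zero_of_finite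
  by_contra hR
  have hne : C ≠ D := fun h => hCD (h ▸ hC.comm_self hc hq)
  have hwide : IsWidest p φ q (fixA φ C ⊔ fixA φ D).index := fun X Y hX hY hXY =>
    hmax (X, Y) ⟨hX, hY, hXY⟩
  obtain ⟨u, hu, hu'⟩ : ∃ u ∈ fixA φ D, u ∉ fixA φ C := SetLike.not_le_iff_exists.1 fun hle =>
    hne (hC.eq_of_fix hc hq hD (eq_of_le_of_index_le hle
      (by rw [hC.index hc hq, hD.index hc hq])).symm)
  set W := fixA φ C ⊔ fixA φ D
  let Q := ↥W ⧸ (fixA φ D).addSubgroupOf W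
  let f : C → Q := fun a => QuotientAddGroup.mk
    ⟨dd φ (a : P) u, AddSubgroup.mem_sup_left (hC.dd_mem hc hq a.2 u)⟩
  have hQ : Nat.card Q < Nat.card C := by
    have h1 : (fixA φ D).relIndex W * W.index = q :=
      (AddSubgroup.relIndex_mul_index le_sup_right).trans (hD.index hc hq)
    show (fixA φ D).relIndex W < Nat.card C
    rw [hC.card]
    have h2 : W.index ≠ 0 := AddSubgroup.index_ne_zero_of_finite
    have h3 : 1 < W.index := by omega
    have h4 := hq.one_lt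
    have h5 : (fixA φ D).relIndex W ≠ 0 := fun h0 => by rw [h0, zero_mul] at h1; omega
    calc (fixA φ D).relIndex W < (fixA φ D).relIndex W * W.index :=
          lt_mul_of_one_lt_right (Nat.pos_of_ne_zero h5) h3
      _ = q := h1
  obtain ⟨a, a', hne', he⟩ : ∃ a a', a ≠ a' ∧ f a = f a' := by
    by_contra hcon
    push Not at hcon
    exact absurd (Nat.card_le_card_of_injective f fun a a' h => by_contra fun h' => hcon a a' h' h)
      (not_le.2 hQ)
  have hm : (a : P)⁻¹ * a' ∈ C := C.mul_mem (C.inv_mem a.2) a'.2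
  have h1 : (a : P)⁻¹ * a' ≠ 1 := fun h => hne' (Subtype.ext (inv_mul_eq_one.1 h))
  have hd : dd φ ((a : P)⁻¹ * a') u ∈ fixA φ D := by
    have h2 := QuotientAddGroup.eq.1 he
    rw [AddSubgroup.mem_addSubgroupOf] at h2
    rw [dd_mul_of_zero (fun w => hC.quad hc hq (C.inv_mem a.2) a'.2 w), hC.dd_inv hc hq a.2]
    exact h2
  exact no_normalising hc hq hC hD hCD hwide hm h1 (exc_normalises hc hq hC hD hwide hm hu hu' hd)

/-- the least offenders satisfy the interface -/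
theorem ff_of_least : FF p φ q (Mem p φ q) where
  inj := hc.inj
  char := hc.char
  one_lt := hq.one_lt
  el := fun h => h.el
  card := fun h => h.card
  conj := fun g h => h.conj g
  index := fun h => h.index hc hq
  cap := fun h _ ha ha1 _ hv => h.cap hc hq ha ha1 hv
  quad := fun h _ ha _ hb v => h.quad hc hq ha hb v
  sup := fun {A B} hA hB hne => by
    by_cases h : Comm A B
    · exact hA.sup_top hc hq hB h hne
    · exact widest_trivial hc hq hA hB h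
  nc_inj := fun {A B} hA hB hnc {a} ha ha1 {u} hu hu' hd => by
    have hwide : IsWidest p φ q (fixA φ A ⊔ fixA φ B).index := fun X Y hX hY hXY => by
      rw [widest_trivial hc hq hX hY hXY, widest_trivial hc hq hA hB hnc]
    exact no_normalising hc hq hA hB hnc hwide ha ha1
      (exc_normalises hc hq hA hB hwide ha hu hu' hd)

end

namespace FF

variable {q : ℕ} {𝓜 : Subgroup P → Prop} (ff : FF p φ q 𝓜)
include ff

theorem dd_mem {A : Subgroup P} (hA : 𝓜 A) {a : P} (ha : a ∈ A) (v : V) :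
    dd φ a v ∈ fixA φ A := fun _ hb => dd_eq_zero.1 (ff.quad hA hb ha v)

theorem dd_mul {A : Subgroup P} (hA : 𝓜 A) {a b : P} (ha : a ∈ A) (hb : b ∈ A) (v : V) :
    dd φ (a * b) v = dd φ a v + dd φ b v := dd_mul_of_zero (fun w => ff.quad hA ha hb w) v

theorem dd_inv {A : Subgroup P} (hA : 𝓜 A) {a : P} (ha : a ∈ A) (v : V) :
    dd φ a⁻¹ v = -dd φ a v := by
  have h1 := ff.dd_mul hA ha (A.inv_mem ha) v
  rw [mul_inv_cancel, dd_apply 1, phi_one, sub_self] at h1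
  exact eq_neg_of_add_eq_zero_right h1.symm

theorem phi_inv {A : Subgroup P} (hA : 𝓜 A) {a : P} (ha : a ∈ A) (v : V) :
    φ a⁻¹ v = v - dd φ a v := by
  rw [phi_eq_add, ff.dd_inv hA ha, sub_eq_add_neg]

theorem comm_self {A : Subgroup P} (hA : 𝓜 A) : Comm A A := fun _ ha _ hb =>
  Cfsg.Lib.ElemToolkit.comm_of (ff.el hA).1 ha hb

theorem ne_of_nc {A B : Subgroup P} (hA : 𝓜 A) (hnc : ¬ Comm A B) : A ≠ B :=
  fun h => hnc (h ▸ ff.comm_self hA)

theorem exists_ne_one {A : Subgroup P} (hA : 𝓜 A) : ∃ a ∈ A, a ≠ 1 :=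
  exists_mem_ne_one fun h => by
    have h1 := ff.card hA
    rw [h, Subgroup.card_bot] at h1
    exact (ff.one_lt).ne h1

theorem fix_ne {A B : Subgroup P} (hA : 𝓜 A) (hB : 𝓜 B) (hne : A ≠ B) : fixA φ A ≠ fixA φ B := by
  intro h
  have h1 := ff.sup hA hB hne
  rw [← h, sup_idem] at h1
  have h2 := ff.index hA
  rw [h1, AddSubgroup.index_top] at h2
  exact (ff.one_lt).ne h2

theorem not_fix_le {A B : Subgroup P} (hA : 𝓜 A) (hB : 𝓜 B) (hne : A ≠ B) :
    ¬ fixA φ A ≤ fixA φ B := fun h =>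
  ff.fix_ne hA hB hne (eq_of_le_of_index_le h (by rw [ff.index hA, ff.index hB]))

theorem index_inf {A B : Subgroup P} (hA : 𝓜 A) (hB : 𝓜 B) (hne : A ≠ B) :
    (fixA φ A ⊓ fixA φ B).index = q * q := by
  have h := index_inf_mul_sup (fixA φ A) (fixA φ B)
  rw [ff.sup hA hB hne, AddSubgroup.index_top, mul_one, ff.index hA, ff.index hB] at h
  exact h

theorem split {A B : Subgroup P} (hA : 𝓜 A) (hB : 𝓜 B) (hne : A ≠ B) (v : V) :
    ∃ x ∈ fixA φ A, ∃ u ∈ fixA φ B, x + u = v :=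
  AddSubgroup.mem_sup.1 (ff.sup hA hB hne ▸ AddSubgroup.mem_top v : v ∈ fixA φ A ⊔ fixA φ B)

theorem inf_eq_bot {A B : Subgroup P} (hA : 𝓜 A) (hB : 𝓜 B) (hne : A ≠ B) : A ⊓ B = ⊥ := by
  refine (eq_bot_iff_forall _).2 fun a ha => ?_
  by_contra h1
  exact ff.fix_ne hA hB hne (le_antisymm (fun v hv => ff.cap hB ha.2 h1 (hv a ha.1))
    fun v hv => ff.cap hA ha.1 h1 (hv a ha.2))

/-- images of commuting members are fixed by both -/
theorem comm_mem {A B : Subgroup P} (hA : 𝓜 A) (hB : 𝓜 B) (h : Comm A B) {a : P} (ha : a ∈ A)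
    (v : V) : dd φ a v ∈ fixA φ A ⊓ fixA φ B := by
  refine ⟨ff.dd_mem hA ha v, ?_⟩
  by_cases hne : A = B
  · exact hne ▸ ff.dd_mem hA ha v
  obtain ⟨x, hx, u, hu, rfl⟩ := ff.split hA hB hne v
  rw [map_add, dd_eq_zero.2 (hx a ha), zero_add]
  intro b hb
  rw [← dd_eq_zero, dd_comm ((h a ha b hb).symm), dd_eq_zero.2 (hu b hb), map_zero]

theorem comm_zero {A B : Subgroup P} (hA : 𝓜 A) (hB : 𝓜 B) (h : Comm A B) {a : P} (ha : a ∈ A)
    {b : P} (hb : b ∈ B) (v : V) : dd φ b (dd φ a v) = 0 :=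
  dd_eq_zero.2 ((ff.comm_mem hA hB h ha v).2 b hb)

/-- images of one member meet the fixed space of a member not commuting with it trivially -/
theorem nc_zero {A B : Subgroup P} (hA : 𝓜 A) (hB : 𝓜 B) (h : ¬ Comm A B) {a : P} (ha : a ∈ A)
    {v : V} (hd : dd φ a v ∈ fixA φ B) : dd φ a v = 0 := by
  by_cases ha1 : a = 1
  · rw [ha1, dd_apply, phi_one, sub_self]
  obtain ⟨x, hx, u, hu, rfl⟩ := ff.split hA hB (ff.ne_of_nc hA h) v
  rw [map_add, dd_eq_zero.2 (hx a ha), zero_add] at hd ⊢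
  by_contra h0
  exact ff.nc_inj hA hB h ha ha1 hu (fun hu' => h0 (dd_eq_zero.2 (hu' a ha))) hd

theorem comm_of_image {A B : Subgroup P} (hA : 𝓜 A) (hB : 𝓜 B) {a : P} (ha : a ∈ A) {v : V}
    (hd : dd φ a v ∈ fixA φ B) (h0 : dd φ a v ≠ 0) : Comm A B :=
  by_contra fun h => h0 (ff.nc_zero hA hB h ha hd)

theorem exists_shift {A B : Subgroup P} (hA : 𝓜 A) (hB : 𝓜 B) (h : ¬ Comm A B) {u : V}
    (hu : u ∈ fixA φ B) (hu' : u ∉ fixA φ A) (w : V) : ∃ a ∈ A, w - dd φ a u ∈ fixA φ B := by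
  let f : A → V ⧸ fixA φ B := fun a => QuotientAddGroup.mk (dd φ (a : P) u)
  have hf : Function.Injective f := by
    intro a a' he
    by_contra hne
    have h2 := QuotientAddGroup.eq.1 he
    refine ff.nc_inj hA hB h (A.mul_mem (A.inv_mem a.2) a'.2)
      (fun h1 => hne (Subtype.ext (inv_mul_eq_one.1 h1))) hu hu' ?_
    rwa [ff.dd_mul hA (A.inv_mem a.2) a'.2, ff.dd_inv hA a.2]
  obtain ⟨a, ha⟩ := ((Nat.bijective_iff_injective_and_card f).2
    ⟨hf, by rw [ff.card hA]; exact (ff.index hB).symm⟩).2 (QuotientAddGroup.mk w)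
  refine ⟨a, a.2, ?_⟩
  have h2 := QuotientAddGroup.eq.1 ha
  rwa [neg_add_eq_sub] at h2

theorem exists_image {A B : Subgroup P} (hA : 𝓜 A) (hB : 𝓜 B) (hne : A ≠ B) {a : P} (ha : a ∈ A)
    (ha1 : a ≠ 1) : ∃ u ∈ fixA φ B, dd φ a u ≠ 0 := by
  obtain ⟨u, hu, hu'⟩ := SetLike.not_le_iff_exists.1 (ff.not_fix_le hB hA hne.symm)
  exact ⟨u, hu, fun h0 => hu' (ff.cap hA ha ha1 (dd_eq_zero.1 h0))⟩

theorem exists_ne_zero {A : Subgroup P} (hA : 𝓜 A) {a : P} (ha : a ∈ A) (ha1 : a ≠ 1) :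
    ∃ v, dd φ a v ≠ 0 := by
  by_contra h
  push Not at h
  have h1 : fixA φ A = ⊤ := eq_top_iff.2 fun v _ => ff.cap hA ha ha1 (dd_eq_zero.1 (h v))
  have h2 := ff.index hA
  rw [h1, AddSubgroup.index_top] at h2
  exact (ff.one_lt).ne h2

theorem cj_ne {A B : Subgroup P} (hA : 𝓜 A) (hB : 𝓜 B) (h : ¬ Comm A B) {a : P} (ha : a ∈ A)
    (ha1 : a ≠ 1) : FFSLTwo.cj a B ≠ B := by
  intro he
  obtain ⟨u, hu, hne⟩ := ff.exists_image hA hB (ff.ne_of_nc hA h) ha ha1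
  refine ff.nc_inj hA hB h ha ha1 hu (fun hu' => hne (dd_eq_zero.2 (hu' a ha))) ?_
  have h1 : φ a u ∈ fixA φ (FFSLTwo.cj a B) := mem_fixA_cj.2 (by rw [phi_inv_cancel]; exact hu)
  rw [he] at h1
  rw [dd_apply]; exact (fixA φ B).sub_mem h1 hu

end FF

end Cfsg.Lib.FFModule
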